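import Cfsg.Agent.Lib.Recognition.ReeCentralizer.Fusion
import Cfsg.Agent.Lib.Recognition.SparseOrders.Models
import Cfsg.Agent.Lib.KGroups.AbelianTwo.Linear
import Cfsg.Agent.Lib.LocalEven.Spectrum
import Cfsg.Agent.Lib.KnownA.J1Facts
import Cfsg.Agent.S0494
import Cfsg.Agent.S1644
import Cfsg.Agent.S2798
import Cfsg.Agent.S3216

/-!
# Involution centraliser `2 × L₂(q)`: the small fields

For `q > 3` the Sylow 2-subgroups have order 8, so `q = 4` or `q ≡ 3, 5 (mod 8)`; `q = 4, 5` give the
order of Janko's group and `q = 3` would give a strongly embedded subgroup with an element of order 6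
commuting with an involution.
-/

set_option autoImplicit false
set_option linter.unusedSectionVars false
set_option linter.style.haveILetI false

namespace CfsgLib.Recognition.ReeCentralizer

open Subgroup CfsgLib.Involution.TwoTimesPSL

variable {G : Type*} [Group G] [Finite G] {F : Type*} [Field F] [Fintype F]

local notation "PSL" => Matrix.ProjectiveSpecialLinearGroup (Fin 2) F

/-- The embedding of the `L₂(q)` factor. -/
noncomputable def embed {t : G} (e : centralizer ({t} : Set G) ≃* Multiplicative (ZMod 2) × PSL) :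
    PSL →* G :=
  (centralizer ({t} : Set G)).subtype.comp (e.symm.toMonoidHom.comp (MonoidHom.inr _ _))

theorem embed_injective {t : G} (e : centralizer ({t} : Set G) ≃* Multiplicative (ZMod 2) × PSL) :
    Function.Injective (embed e) :=
  (centralizer ({t} : Set G)).subtype_injective.comp
    (e.symm.injective.comp fun _ _ h => congrArg Prod.snd h)

theorem embed_commute {t : G} (e : centralizer ({t} : Set G) ≃* Multiplicative (ZMod 2) × PSL)
    (x : PSL) : Commute (embed e x) t :=
  mem_centralizer_singleton_iff.1 ((e.symm.toMonoidHom.comp (MonoidHom.inr _ _)) x).2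

theorem card_centralizer {t : G}
    (e : centralizer ({t} : Set G) ≃* Multiplicative (ZMod 2) × PSL) :
    Nat.card (centralizer ({t} : Set G)) = 2 * Nat.card PSL := by
  rw [Nat.card_congr e.toEquiv, Nat.card_prod]; simp

/-- The Sylow 2-subgroups of `L₂(q)` are elementary abelian. -/
theorem exists_elemData (hab : ∀ P : Sylow 2 G, ∀ a b : P, a * b = b * a)
    (hq : 3 ≤ Fintype.card F) {t : G}
    (e : centralizer ({t} : Set G) ≃* Multiplicative (ZMod 2) × PSL) :
    ∃ (P : Sylow 2 PSL) (z : PSL), ElemData (P : Subgroup PSL) z := by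
  classical
  by_cases h2 : (2 : F) = 0
  · haveI : CharP F 2 := CharTwo.of_one_ne_zero_of_two_eq_zero one_ne_zero h2
    obtain ⟨k, -, hk⟩ := FiniteField.card F 2
    refine psl_even h2 ?_
    by_contra hle
    have h3 : Fintype.card F = 3 := by omega
    have : 2 ∣ 3 := h3 ▸ hk ▸ dvd_pow_self 2 k.ne_zero
    norm_num at this
  · have hodd : Odd (Fintype.card F) := by
      rw [← Nat.not_even_iff_odd]
      intro hev
      exact h2 (by
        haveI : CharP F 2 := by
          obtain ⟨p, hp⟩ := CharP.exists F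
          haveI : Fact p.Prime := ⟨CharP.char_is_prime F p⟩
          obtain ⟨k, -, hk⟩ := FiniteField.card F p
          rw [hk] at hev
          obtain rfl : p = 2 := ((Nat.prime_dvd_prime_iff_eq Nat.prime_two Fact.out).1
            (Nat.prime_two.dvd_of_dvd_pow hev.two_dvd)).symm
          exact hp
        exact CharTwo.two_eq_zero)
    obtain ⟨P, ⟨z, hz⟩ | ⟨r, s, k, h⟩⟩ := psl_odd h2 hodd
    · exact ⟨P, z, hz⟩
    · exfalso
      obtain ⟨S, hS⟩ := (P.2.map (embed e)).exists_le_sylow
      have hrs : r * s = s * r := embed_injective e (by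
        rw [map_mul, map_mul]
        exact comm_of_mem hab S (hS ⟨r, h.rD, rfl⟩) (hS ⟨s, h.sD, rfl⟩))
      have h1 : r⁻¹ = r := by rw [← h.sconj, ← hrs, mul_assoc, h.ssq, mul_one]
      have hd : orderOf r ∣ 2 := orderOf_dvd_of_pow_eq_one (by
        rw [pow_two]; nth_rewrite 1 [← h1]; exact inv_mul_cancel r)
      rw [h.rord] at hd
      have := Nat.le_of_dvd two_pos hd
      have : 2 ^ 2 ≤ 2 ^ (k + 2) := Nat.pow_le_pow_right two_pos (by omega)
      omega

theorem two_sq : ∀ a : Multiplicative (ZMod 2), a * a = 1 ∧ a ^ 2 = 1 := by decide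

theorem two_dvd_psl (hq : 3 < Fintype.card F) : 2 ∣ Nat.card PSL := by
  haveI : Fact (Nat.Prime 2) := ⟨Nat.prime_two⟩
  obtain ⟨P, hP⟩ := CfsgLib.Involution.TwoTimesPSL.psl_data (F := F) hq
  rcases hP with ⟨w, hw⟩ | ⟨r, s, k, hw⟩
  · obtain ⟨j, hj⟩ := IsPGroup.iff_card.1 P.2
    rcases j with _ | j
    · have := hw.card; omega
    · exact (dvd_pow_self 2 j.succ_ne_zero).trans (hj ▸ card_subgroup_dvd_card (P : Subgroup PSL))
  · exact (dvd_pow_self 2 (by omega : k + 2 ≠ 0)).trans (hw.rord ▸ orderOf_dvd_natCard r)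

/-- One class of involutions. -/
theorem isConj_of_involution [IsSimpleGroup G] (hab : ∀ P : Sylow 2 G, ∀ a b : P, a * b = b * a)
    (hq : 3 ≤ Fintype.card F) {t : G} (ht : orderOf t = 2)
    (e : centralizer ({t} : Set G) ≃* Multiplicative (ZMod 2) × PSL) {s : G} (hs : orderOf s = 2) :
    IsConj t s := by
  obtain ⟨P, z, hP⟩ := exists_elemData hab hq e
  exact oneClass hab hq ht ⟨e⟩ hP hs

/-- For `q > 3` the Sylow 2-subgroups are elementary abelian of order eight. -/
theorem sylow_eight [IsSimpleGroup G] (hq : 3 < Fintype.card F) {t : G} (ht : orderOf t = 2)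
    (e : centralizer ({t} : Set G) ≃* Multiplicative (ZMod 2) × PSL) (S : Sylow 2 G) :
    Nat.card (S : Subgroup G) = 8 ∧ ∀ x ∈ (S : Subgroup G), x ^ 2 = 1 := by
  classical
  obtain ⟨hna, -⟩ := perfect ht hq.le ⟨e⟩
  haveI : IsSimpleGroup PSL := CfsgLib.Classical.psl_fin_isSimpleGroup le_rfl (fun _ => hq)
  set C := centralizer ({t} : Set G)
  haveI hOn : (Cfsg.oddCore C).Normal := CfsgLib.Involution.ZStar.oddCore_normal
  have hOodd : Odd (Nat.card (Cfsg.oddCore C)) := CfsgLib.Involution.ZStar.odd_card_oddCore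
  let π : C →* PSL := (MonoidHom.snd _ _).comp e.toMonoidHom
  have hπ : Function.Surjective π := fun x => ⟨e.symm (1, x), by simp [π]⟩
  have hπO : (Cfsg.oddCore C).map π = ⊥ := by
    haveI := hOn.map π hπ
    rcases Subgroup.Normal.eq_bot_or_eq_top (H := (Cfsg.oddCore C).map π) inferInstance with h | h
    · exact h
    · exfalso
      have h2 := two_dvd_psl (F := F) hq
      have hodd : Odd (Nat.card PSL) := by
        rw [← card_top (G := PSL), ← h]
        exact hOodd.of_dvd_nat (card_map_dvd _ π)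
      exact hodd.not_two_dvd_nat h2
  have hO : Cfsg.oddCore C = ⊥ := by
    refine (eq_bot_iff_forall _).2 fun x hx => ?_
    have h2 : π x = 1 := mem_bot.1 (hπO ▸ mem_map_of_mem π hx)
    have hxx : x * x = 1 := e.injective (by
      rw [map_mul, map_one]
      refine Prod.ext ?_ ?_
      · exact (two_sq _).1
      · show (e x).2 * (e x).2 = 1
        rw [show (e x).2 = 1 from h2, one_mul])
    exact orderOf_eq_one_iff.1 (Nat.eq_one_of_dvd_coprimes
      (Nat.coprime_two_right.2 (hOodd.of_dvd_nat (Subgroup.orderOf_dvd_natCard _ hx))) dvd_rfl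
      (orderOf_dvd_of_pow_eq_one (by rw [pow_two]; exact hxx)))
  let f : C ⧸ Cfsg.oddCore C ≃* Multiplicative (ZMod 2) × PSL :=
    ((QuotientGroup.quotientMulEquivOfEq hO).trans QuotientGroup.quotientBot).trans e
  set K := Subgroup.closure {x : C ⧸ Cfsg.oddCore C | ∃ k : ℕ, orderOf x = 2 ^ k} with hK
  have hKn : K.Normal := by
    refine ⟨fun x hx g => ?_⟩
    induction hx using Subgroup.closure_induction with
    | mem y hy =>
      obtain ⟨k, hk⟩ := hy
      exact subset_closure ⟨k, (MulEquiv.orderOf_eq (MulAut.conj g) y).trans hk⟩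
    | one => simp
    | mul y z _ _ hy hz =>
      rw [show g * (y * z) * g⁻¹ = g * y * g⁻¹ * (g * z * g⁻¹) by group]
      exact mul_mem hy hz
    | inv y _ hy =>
      rw [show g * y⁻¹ * g⁻¹ = (g * y * g⁻¹)⁻¹ by group]
      exact inv_mem hy
  have hinv : ∀ y : Multiplicative (ZMod 2) × PSL, y * y = 1 → y ∈ K.map f.toMonoidHom := fun y hy => by
    obtain ⟨j, -, hj⟩ := (Nat.dvd_prime_pow Nat.prime_two).1
      (orderOf_dvd_of_pow_eq_one (show y ^ 2 ^ 1 = 1 by rw [pow_one, pow_two]; exact hy))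
    exact ⟨f.symm y, subset_closure ⟨j, (MulEquiv.orderOf_eq f.symm y).trans hj⟩, f.apply_symm_apply y⟩
  have hKtop : K = ⊤ := by
    haveI := hKn.map f.toMonoidHom f.surjective
    have hcomap : (K.map f.toMonoidHom).comap (MonoidHom.inr _ PSL) = ⊤ := by
      rcases (inferInstance : ((K.map f.toMonoidHom).comap
        (MonoidHom.inr _ PSL)).Normal).eq_bot_or_eq_top with h | h
      · exfalso
        haveI : Fact (Nat.Prime 2) := ⟨Nat.prime_two⟩
        obtain ⟨u, hu⟩ := exists_prime_orderOf_dvd_card' (G := PSL) 2 (two_dvd_psl hq)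
        have hu1 : u ∈ (K.map f.toMonoidHom).comap (MonoidHom.inr _ PSL) := hinv _ (by
          refine Prod.ext (by simp) ?_
          show u * u = 1
          calc u * u = u ^ orderOf u := by rw [hu, pow_two]
            _ = 1 := pow_orderOf_eq_one u)
        rw [h, mem_bot] at hu1
        rw [hu1, orderOf_one] at hu
        norm_num at hu
      · exact h
    refine (eq_top_iff' K).2 fun x => ?_
    have hx : f x ∈ K.map f.toMonoidHom := by
      have h1 : ((f x).1, (1 : PSL)) ∈ K.map f.toMonoidHom := hinv _ (Prod.ext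
        ((two_sq _).1) (one_mul 1))
      have h2 : (1, (f x).2) ∈ K.map f.toMonoidHom := by
        have : (f x).2 ∈ (K.map f.toMonoidHom).comap (MonoidHom.inr _ PSL) := hcomap ▸ mem_top _
        exact this
      simpa using mul_mem h1 h2
    obtain ⟨y, hy, hyx⟩ := hx
    rwa [← f.injective hyx]
  exact Cfsg.Agent.S3216.result hna t ht hq
    ⟨((MulEquiv.subgroupCongr hKtop).trans Subgroup.topEquiv).trans f⟩ S

theorem isJ1_of_iso [IsSimpleGroup G] (h : Cfsg.Spor.IsoJ1 G) : Cfsg.IsJ1 G := by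
  obtain ⟨e⟩ := h
  exact ⟨inferInstance, (Nat.card_congr e.toEquiv).trans CfsgLib.KnownA.J1Facts.card_J1⟩

/-- `q = 4, 5`: the order of Janko's group. -/
theorem isJ1_of_four_five [IsSimpleGroup G] (hab : ∀ P : Sylow 2 G, ∀ a b : P, a * b = b * a)
    {t : G} (ht : orderOf t = 2)
    (e : centralizer ({t} : Set G) ≃* Multiplicative (ZMod 2) × PSL)
    (h45 : Fintype.card F = 4 ∨ Fintype.card F = 5) : Cfsg.IsJ1 G := by
  classical
  have hq : 3 < Fintype.card F := by omega
  haveI : IsSimpleGroup PSL := CfsgLib.Classical.psl_fin_isSimpleGroup le_rfl (fun _ => hq)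
  have h60 : Nat.card PSL = 60 := by
    have hc := CfsgLib.Perm.ZGroup.card_psl2_gcd (F := F)
    rcases h45 with h | h
    · rw [h, show Nat.gcd 2 (4 - 1) = 1 from rfl] at hc; omega
    · rw [h, show Nat.gcd 2 (5 - 1) = 2 from rfl] at hc; omega
  obtain ⟨e'⟩ := Cfsg.Agent.S0494.result h60
  obtain ⟨S⟩ : Nonempty (Sylow 2 G) := inferInstance
  exact isJ1_of_iso (Cfsg.Agent.S1644.result S ⟨⟨hab S⟩⟩ (sylow_eight hq ht e S).1 t ht
    (e.trans (MulEquiv.prodCongr (MulEquiv.refl _) e')))

/-- `q = 3` is impossible. -/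
theorem false_of_three [IsSimpleGroup G] (hab : ∀ P : Sylow 2 G, ∀ a b : P, a * b = b * a)
    {t : G} (ht : orderOf t = 2)
    (e : centralizer ({t} : Set G) ≃* Multiplicative (ZMod 2) × PSL)
    (h3 : Fintype.card F = 3) : False := by
  classical
  haveI : Fact (Nat.Prime 2) := ⟨Nat.prime_two⟩
  obtain ⟨hna, hperf⟩ := perfect ht h3.ge ⟨e⟩
  obtain ⟨P, z, hP⟩ := exists_elemData hab h3.ge e
  have h12 : Nat.card PSL = 12 := by
    have hc := CfsgLib.Perm.ZGroup.card_psl2_gcd (F := F)
    rw [h3, show Nat.gcd 2 (3 - 1) = 2 from rfl] at hc; omega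
  have hP4 : Nat.card (P : Subgroup PSL) = 4 := by
    have h := P.card_eq_multiplicity
    rw [h12] at h
    obtain ⟨j, hj⟩ := IsPGroup.iff_card.1 P.2
    have h4 := hP.card
    have hd : Nat.card (P : Subgroup PSL) ∣ 12 := h12 ▸ card_subgroup_dvd_card _
    rw [hj] at h4 hd ⊢
    have hj2 : 2 ≤ j := by
      by_contra hlt
      have := Nat.pow_le_pow_right two_pos (show j ≤ 1 by omega)
      omega
    obtain ⟨i, rfl⟩ := Nat.exists_eq_add_of_le hj2
    rcases i with _ | i
    · rfl
    · exfalso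
      have : 8 ∣ 12 := (pow_dvd_pow 2 (show 3 ≤ 2 + (i + 1) by omega)).trans hd
      norm_num at this
  have hzP : z ∉ (P : Subgroup PSL) := by
    intro hzP
    obtain ⟨a, ha, ha1⟩ := exists_ne_one_of_card (H := (P : Subgroup PSL)) (by rw [hP4]; norm_num)
    have hfix : ∀ k : ℕ, z ^ k * a * (z ^ k)⁻¹ = a := fun k => by
      have h := comm_of_mem (G := G) hab
      obtain ⟨S, hS⟩ := (P.2.map (embed e)).exists_le_sylow
      have : z ^ k * a = a * z ^ k := embed_injective e (by
        rw [map_mul, map_mul]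
        exact h S (hS ⟨_, pow_mem hzP k, rfl⟩) (hS ⟨a, ha, rfl⟩))
      rw [this, mul_inv_cancel_right]
    have : Nat.card (P : Subgroup PSL) ≤ 2 := by
      refine (Nat.card_le_card_of_injective (β := Bool)
        (fun x : (P : Subgroup PSL) => decide ((x : PSL) = 1)) fun x y he => ?_).trans (by simp)
      simp only [decide_eq_decide] at he
      by_cases hx : (x : PSL) = 1
      · exact Subtype.ext (hx.trans (he.1 hx).symm)
      · obtain ⟨k, hk⟩ := hP.trans a ha x x.2 ha1 hx
        obtain ⟨l, hl⟩ := hP.trans a ha y y.2 ha1 (fun hy => hx (he.2 hy))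
        exact Subtype.ext (by rw [← hk, ← hl, hfix, hfix])
    omega
  have hPn : (P : Subgroup PSL).Normal := by
    have hzN : z ∈ normalizer ((P : Subgroup PSL) : Set PSL) := by
      refine mem_normalizer_iff_map_conj_eq.2 (eq_of_le_of_card_ge ?_
        (card_map_of_injective (MulAut.conj z).injective).ge)
      rintro _ ⟨x, hx, rfl⟩
      exact hP.conj x hx
    refine normalizer_eq_top_iff.1 (eq_top_of_card_eq _ ?_)
    have h1 : 4 ∣ Nat.card (normalizer ((P : Subgroup PSL) : Set PSL)) :=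
      hP4 ▸ card_dvd_of_le le_normalizer
    have h2 := card_subgroup_dvd_card (normalizer ((P : Subgroup PSL) : Set PSL))
    have h3' : 4 < Nat.card (normalizer ((P : Subgroup PSL) : Set PSL)) := by
      rcases (hP4 ▸ Subgroup.card_le_of_le (le_normalizer (H := (P : Subgroup PSL)))).eq_or_lt with h | h
      · exact absurd (eq_of_le_of_card_ge le_normalizer (by rw [hP4]; exact h.ge) ▸ hzN) hzP
      · exact h
    rw [h12] at h2 ⊢
    obtain ⟨m, hm⟩ := h1
    have := Nat.le_of_dvd (by norm_num) h2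
    have : m ≤ 3 := by omega
    interval_cases m <;> first | omega | (rw [hm] at h2; norm_num at h2)
  -- a Sylow subgroup containing `t` is normal in `C(t)`
  set C := centralizer ({t} : Set G) with hC
  have hC24 : Nat.card C = 24 := by rw [card_centralizer e, h12]
  let π : C →* PSL := (MonoidHom.snd _ _).comp e.toMonoidHom
  have hπ : Function.Surjective π := fun x => ⟨e.symm (1, x), by simp [π]⟩
  set Q := (P : Subgroup PSL).comap π with hQ
  have hQn : Q.Normal := hPn.comap π
  have hQ2 : IsPGroup 2 Q := by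
    intro x
    obtain ⟨k, hk⟩ := P.2 ⟨π x, x.2⟩
    refine ⟨k + 1, Subtype.ext (e.injective ?_)⟩
    rw [Subgroup.coe_pow, Subgroup.coe_one, map_pow, map_one, pow_succ, pow_mul]
    have h2 : ((e (x : C)) ^ 2 ^ k).2 = 1 := congrArg Subtype.val hk
    refine Prod.ext ?_ ?_
    · show ((e (x : C)) ^ 2 ^ k).1 ^ 2 = 1
      exact (two_sq _).2
    · show ((e (x : C)) ^ 2 ^ k).2 ^ 2 = 1
      rw [h2, one_pow]
  have hQ8 : Nat.card Q = 8 := by
    have h1 := Q.card_mul_index
    rw [index_comap_of_surjective _ hπ, hC24] at h1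
    have h2 := (P : Subgroup PSL).card_mul_index
    rw [hP4, h12] at h2
    have h3 : (P : Subgroup PSL).index = 3 := by omega
    rw [h3] at h1
    omega
  have hsylow : ∀ S : Sylow 2 G, t ∈ (S : Subgroup G) →
      Q.map C.subtype = (S : Subgroup G) := by
    intro S htS
    have hSC : (S : Subgroup G) ≤ C := fun s hs =>
      mem_centralizer_singleton_iff.2 (comm_of_mem hab S hs htS)
    let SC : Sylow 2 C := S.subtype hSC
    have hle : Q ≤ (SC : Subgroup C) := by
      obtain ⟨R, hR⟩ := hQ2.exists_le_sylow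
      obtain ⟨g, hg⟩ := MulAction.exists_smul_eq C R SC
      intro x hx
      rw [← hg, Sylow.coe_subgroup_smul, mem_pointwise_smul_iff_inv_smul_mem]
      apply hR
      simpa [mul_assoc] using hQn.conj_mem x hx g⁻¹
    have hd : Nat.card (SC : Subgroup C) ∣ 24 := hC24 ▸ card_subgroup_dvd_card _
    have h8 : Nat.card (SC : Subgroup C) ≤ 8 := by
      obtain ⟨j, hj⟩ := IsPGroup.iff_card.1 SC.2
      rw [hj] at hd ⊢
      by_contra hlt
      have : 4 ≤ j := by
        by_contra hj4
        have := Nat.pow_le_pow_right two_pos (show j ≤ 3 by omega)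
        omega
      have : 16 ∣ 24 := (pow_dvd_pow 2 this).trans hd
      norm_num at this
    rw [eq_of_le_of_card_ge hle (by rw [hQ8]; exact h8)]
    exact map_subgroupOf_eq_of_le hSC
  obtain ⟨S, -, hSC⟩ := exists_sylow_le_centralizer hab
    (IsPGroup.of_card (n := 1) (show Nat.card (zpowers t) = 2 ^ 1 by
      rw [Nat.card_zpowers, ht, pow_one])) (mem_zpowers t)
  have hS8 : Nat.card (S : Subgroup G) = 8 := by
    obtain ⟨T, hT⟩ := (IsPGroup.of_card (n := 1) (show Nat.card (zpowers t) = 2 ^ 1 by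
      rw [Nat.card_zpowers, ht, pow_one])).exists_le_sylow
    rw [Nat.card_congr (S.equiv T).toEquiv, ← hsylow T (hT (mem_zpowers t)),
      card_map_of_injective C.subtype_injective, hQ8]
  -- centralisers of involutions of `S` normalise `S`
  set H := normalizer ((S : Subgroup G) : Set G) with hH
  have hsq : ∀ T : Sylow 2 G, t ∈ (T : Subgroup G) → ∀ x ∈ (T : Subgroup G), x * x = 1 := by
    intro T htT x hx
    rw [← hsylow T htT] at hx
    obtain ⟨c, hc, rfl⟩ := hx
    refine congrArg Subtype.val (e.injective (?_ : e (c * c) = e 1))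
    rw [map_mul, map_one]
    exact Prod.ext ((two_sq _).1) (hP.sq _ hc)
  have hCH : ∀ a ∈ (S : Subgroup G), a ≠ 1 → centralizer ({a} : Set G) ≤ H := by
    intro a ha ha1
    have hao : orderOf a = 2 := by
      obtain ⟨k, hk⟩ := IsPGroup.exists_orderOf_eq_pow S.2 ⟨a, ha⟩
      rw [Subgroup.orderOf_mk] at hk
      obtain ⟨T, hT⟩ := (IsPGroup.of_card (n := 1) (show Nat.card (zpowers t) = 2 ^ 1 by
        rw [Nat.card_zpowers, ht, pow_one])).exists_le_sylow
      obtain ⟨g, hg⟩ := MulAction.exists_smul_eq G S T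
      have haT : g * a * g⁻¹ ∈ (T : Subgroup G) := by
        rw [← hg, Sylow.coe_subgroup_smul]; exact ⟨a, ha, rfl⟩
      have h2 := hsq T (hT (mem_zpowers t)) _ haT
      rw [show g * a * g⁻¹ * (g * a * g⁻¹) = g * (a * a) * g⁻¹ by group] at h2
      exact orderOf_eq_prime (by rw [pow_two]; exact conj_eq_one_iff.1 h2) ha1
    obtain ⟨g, hg⟩ := isConj_iff.1 (isConj_of_involution hab h3.ge ht e hao)
    intro x hx
    set T : Sylow 2 G := g⁻¹ • S with hT
    have htT : t ∈ (T : Subgroup G) := by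
      rw [hT, Sylow.coe_subgroup_smul]
      exact ⟨a, ha, by simp [← hg, mul_assoc]⟩
    have hy : g⁻¹ * x * g ∈ C := by
      refine mem_centralizer_singleton_iff.2 ?_
      have h1 := (Commute.conj_iff g⁻¹).2 (show Commute x a from mem_centralizer_singleton_iff.1 hx)
      simp only [inv_inv] at h1
      rw [show g⁻¹ * a * g = t by rw [← hg]; group] at h1
      exact h1.eq
    refine Sylow.smul_eq_iff_mem_normalizer.1 ?_
    have hyT : (g⁻¹ * x * g) • T = T := by
      refine Sylow.smul_eq_iff_mem_normalizer.2 ?_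
      show g⁻¹ * x * g ∈ normalizer ((T : Subgroup G) : Set G)
      rw [← hsylow T htT]
      refine mem_normalizer_iff_map_conj_eq.2 (eq_of_le_of_card_ge ?_
        (card_map_of_injective (MulAut.conj (g⁻¹ * x * g)).injective).ge)
      rintro _ ⟨_, ⟨c, hc, rfl⟩, rfl⟩
      exact ⟨⟨_, hy⟩ * c * ⟨_, hy⟩⁻¹, hQn.conj_mem c hc _, rfl⟩
    rw [hT, ← mul_smul, show g⁻¹ * x * g * g⁻¹ = g⁻¹ * x by group, mul_smul,
      smul_left_cancel_iff] at hyT
    exact hyT
  have hSE : Cfsg.IsStronglyPEmbedded 2 H := by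
    refine ⟨ht ▸ orderOf_dvd_natCard t, fun htop => ?_, S, ?_⟩
    · haveI : (S : Subgroup G).Normal := normalizer_eq_top_iff.1 htop
      rcases (inferInstance : (S : Subgroup G).Normal).eq_bot_or_eq_top with h | h
      · rw [h, card_bot] at hS8; norm_num at hS8
      · exact hna ⟨⟨fun a b => comm_of_mem hab S (h ▸ mem_top a) (h ▸ mem_top b)⟩⟩
    · rw [Cfsg.kGeneratedCore]
      refine iSup_le fun Q' => ?_
      obtain ⟨a, haQ, ha1⟩ : ∃ a ∈ (Q' : Subgroup G), a ≠ 1 := by
        by_contra h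
        push Not at h
        refine Q'.2.2 fun E hE => ?_
        have : E = ⊥ := (eq_bot_iff_forall _).2 fun x hx => Subtype.ext (h x x.2)
        intro _
        simp [this]
      intro g hg
      have hbQ : g * a * g⁻¹ ∈ (Q' : Subgroup G) := (mem_normalizer_iff.1 hg a).1 haQ
      haveI : IsMulCommutative (S : Subgroup G) := ⟨⟨hab S⟩⟩
      obtain ⟨n, hn, he⟩ := S.conj_eq_normalizer_conj_of_mem a g⁻¹ (Q'.2.1 haQ)
        (by rw [inv_inv]; exact Q'.2.1 hbQ)
      rw [inv_inv] at he
      have hc : n * g ∈ centralizer ({a} : Set G) := mem_centralizer_singleton_iff.2 (by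
        calc n * g * a = n * (g * a * g⁻¹) * g := by group
          _ = a * (n * g) := by rw [he]; group)
      rw [show g = n⁻¹ * (n * g) by group]
      exact mul_mem (inv_mem hn) (hCH a (Q'.2.1 haQ) ha1 hc)
  have hO : Cfsg.pPrimeCore 2 G = ⊥ := by
    haveI := CfsgLib.Solvable.Cores.pPrimeCore_normal (G := G) 2
    rcases (inferInstance : (Cfsg.pPrimeCore 2 G).Normal).eq_bot_or_eq_top with h | h
    · exact h
    · have h' := CfsgLib.Solvable.Cores.coprime_card_pPrimeCore (G := G) 2
      rw [h, card_top, Nat.coprime_two_right] at h'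
      exact absurd (ht ▸ orderOf_dvd_natCard t) h'.not_two_dvd_nat
  let e₀ : G ⧸ Cfsg.pPrimeCore 2 G ≃* G :=
    (QuotientGroup.quotientMulEquivOfEq hO).trans QuotientGroup.quotientBot
  have hcl : (Cfsg.pElementClosure 2 (⊤ : Subgroup (G ⧸ Cfsg.pPrimeCore 2 G))).map e₀.toMonoidHom =
      ⊤ := by
    set K := (Cfsg.pElementClosure 2 (⊤ : Subgroup (G ⧸ Cfsg.pPrimeCore 2 G))).map e₀.toMonoidHom
    have hKn : K.Normal := by
      refine ⟨fun x hx g => ?_⟩
      obtain ⟨y, hy, rfl⟩ := hx
      refine ⟨e₀.symm g * y * (e₀.symm g)⁻¹, ?_, by simp⟩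
      induction hy using Subgroup.closure_induction with
      | mem w hw =>
        obtain ⟨-, k, hk⟩ := hw
        exact subset_closure ⟨trivial, k, (MulEquiv.orderOf_eq (MulAut.conj _) w).trans hk⟩
      | one => simp
      | mul w v _ _ hw hv =>
        rw [show e₀.symm g * (w * v) * (e₀.symm g)⁻¹ = e₀.symm g * w * (e₀.symm g)⁻¹ *
          (e₀.symm g * v * (e₀.symm g)⁻¹) by group]
        exact mul_mem hw hv
      | inv w _ hw =>
        rw [show e₀.symm g * w⁻¹ * (e₀.symm g)⁻¹ = (e₀.symm g * w * (e₀.symm g)⁻¹)⁻¹ by group]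
        exact inv_mem hw
    rcases hKn.eq_bot_or_eq_top with h | h
    · exfalso
      have : t ∈ K := ⟨e₀.symm t, subset_closure ⟨trivial, 1, by
        rw [MulEquiv.orderOf_eq, ht]; rfl⟩, e₀.apply_symm_apply t⟩
      rw [h, mem_bot] at this
      rw [this, orderOf_one] at ht
      norm_num at ht
    · exact h
  let e₁ : ↥(Cfsg.pElementClosure 2 (⊤ : Subgroup (G ⧸ Cfsg.pPrimeCore 2 G))) ≃* G :=
    ((Subgroup.equivMapOfInjective _ e₀.toMonoidHom e₀.injective).trans
      (MulEquiv.subgroupCongr hcl)).trans Subgroup.topEquiv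
  have habT : CfsgLib.KGroups.AbelianTwo.AbTwo G := fun T => ⟨⟨hab T⟩⟩
  rcases Cfsg.Agent.S2798.result H hSE with h | ⟨K, _, _, hK2, hK4, ⟨eK⟩⟩ |
      ⟨K, _, _, q, hq, -, hK, ⟨eK⟩⟩ | h
  · obtain ⟨h1, -⟩ := h t ht
    rw [hO, bot_sup_eq] at h1
    have hz : t ∈ center G := mem_center_iff.2 fun g => mem_centralizer_singleton_iff.1 (h1 ▸ mem_top g)
    rcases (inferInstance : (center G).Normal).eq_bot_or_eq_top with h' | h'
    · rw [h', mem_bot] at hz
      rw [hz, orderOf_one] at ht
      norm_num at ht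
    · exact hna ⟨⟨fun a b => mem_center_iff.1 (h' ▸ mem_top b) a⟩⟩
  · -- an element of order `2 · o(z)`
    obtain ⟨e2⟩ : Nonempty (Matrix.SpecialLinearGroup (Fin 2) K ≃*
        Matrix.ProjectiveSpecialLinearGroup (Fin 2) K) :=
      ⟨((QuotientGroup.quotientMulEquivOfEq
        CfsgLib.Recognition.SparseOrders.center_sl2_two_bot).trans QuotientGroup.quotientBot).symm⟩
    have hzo : Odd (orderOf (embed e z)) := by
      rw [orderOf_injective _ (embed_injective e)]; exact hP.odd
    have ho := (embed_commute e z).symm.orderOf_mul_eq_mul_orderOf_of_coprime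
      (by rw [ht]; exact Nat.coprime_two_left.2 hzo)
    rw [ht, ← MulEquiv.orderOf_eq ((e₁.symm.trans eK).trans e2)] at ho
    have hz1 : orderOf (embed e z) ≠ 1 := fun h => by
      rw [orderOf_eq_one_iff] at h
      exact hzP (embed_injective e (h.trans (map_one _).symm) ▸ one_mem _)
    haveI : Fact (Nat.Prime 2) := ⟨Nat.prime_two⟩
    have hd := CfsgLib.LocalEven.Spectrum.psl_orderOf_dvd 2
      (((e₁.symm.trans eK).trans e2) (t * embed e z))
    rw [ho] at hd
    have heven : 2 ∣ Fintype.card K := by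
      obtain ⟨n, -, hn⟩ := FiniteField.card K 2
      exact hn ▸ dvd_pow_self 2 n.ne_zero
    have hg : Nat.gcd 2 (Fintype.card K - 1) = 1 :=
      Nat.coprime_two_left.2 (Nat.odd_iff.2 (by omega))
    rw [hg, Nat.div_one, Nat.div_one] at hd
    rcases hd with h | h | h
    · have := Nat.le_of_dvd two_pos h
      have := orderOf_pos (embed e z)
      omega
    · have := (dvd_mul_right 2 _).trans h; omega
    · have := (dvd_mul_right 2 _).trans h; omega
  · obtain ⟨p, hp⟩ := CharP.exists K
    haveI : Fact p.Prime := ⟨CharP.char_is_prime K p⟩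
    obtain ⟨n, -, hn⟩ := FiniteField.card K p
    have h2p : 2 ∣ p := Nat.prime_two.dvd_of_dvd_pow (n := n)
      (by rw [← hn, hK]; exact (even_iff_two_dvd.1 hq).trans (dvd_pow_self q two_ne_zero))
    obtain rfl : p = 2 := ((Nat.prime_dvd_prime_iff_eq Nat.prime_two Fact.out).1 h2p).symm
    exact CfsgLib.KGroups.AbelianTwo.not_psu_three hK (habT.mk_witness ⟨e₁.symm.trans eK⟩)
  · obtain ⟨K, _, _, m, hm1, hK, ⟨eK⟩⟩ := h
    haveI : CharP K 2 := charP_of_card_eq_prime_pow hK
    exact CfsgLib.Recognition.SparseOrders.not_abTwo_suzuki hm1 hK (habT.mk_witness ⟨e₁.symm.trans eK⟩)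

/-- The small fields are settled; otherwise `q ≡ 3, 5 (mod 8)`, `q ≥ 11` and the Sylow 2-subgroups
are elementary abelian of order eight. -/
theorem small_or_large [IsSimpleGroup G] (hab : ∀ P : Sylow 2 G, ∀ a b : P, a * b = b * a)
    (hq : 3 ≤ Fintype.card F) {t : G} (ht : orderOf t = 2)
    (e : centralizer ({t} : Set G) ≃* Multiplicative (ZMod 2) × PSL) :
    ((Fintype.card F = 4 ∨ Fintype.card F = 5) ∧ Cfsg.IsJ1 G) ∨
      (11 ≤ Fintype.card F ∧ (Fintype.card F % 8 = 3 ∨ Fintype.card F % 8 = 5) ∧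
        ∀ S : Sylow 2 G, Nat.card (S : Subgroup G) = 8 ∧ ∀ x ∈ (S : Subgroup G), x ^ 2 = 1) := by
  classical
  haveI : Fact (Nat.Prime 2) := ⟨Nat.prime_two⟩
  by_cases h45 : Fintype.card F = 4 ∨ Fintype.card F = 5
  · exact Or.inl ⟨h45, isJ1_of_four_five hab ht e h45⟩
  have hne3 : Fintype.card F ≠ 3 := fun h => false_of_three hab ht e h
  have hq3 : 3 < Fintype.card F := by omega
  refine Or.inr ?_
  obtain ⟨p, hp⟩ := CharP.exists F
  haveI : Fact p.Prime := ⟨CharP.char_is_prime F p⟩
  obtain ⟨k, -, hk⟩ := FiniteField.card F p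
  have hS := fun S => sylow_eight hq3 ht e S
  obtain ⟨S⟩ : Nonempty (Sylow 2 G) := inferInstance
  have h16 : ¬ 16 ∣ Nat.card G := fun h => by
    have := S.pow_dvd_card_of_pow_dvd_card (n := 4) h
    rw [(hS S).1] at this
    norm_num at this
  have hdvd : 2 * Nat.card PSL ∣ Nat.card G := card_centralizer e ▸ card_subgroup_dvd_card _
  have hc := CfsgLib.Perm.ZGroup.card_psl2_gcd (F := F)
  by_cases hp2 : p = 2
  · subst hp2
    exfalso
    have hev : 2 ∣ Fintype.card F := by rw [hk]; exact dvd_pow_self 2 k.ne_zero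
    rw [show Nat.gcd 2 (Fintype.card F - 1) = 1 from
      Nat.coprime_two_left.2 (Nat.odd_iff.2 (by omega)), one_mul] at hc
    have h8 : 8 ∣ Fintype.card F := by
      rw [hk]
      refine (pow_dvd_pow 2 (show 3 ≤ (k : ℕ) from ?_))
      by_contra hlt
      have h2k := Nat.pow_le_pow_right two_pos (show (k : ℕ) ≤ 2 by omega)
      rw [← hk] at h2k
      omega
    exact h16 ((mul_dvd_mul_left 2 (hc ▸ h8.mul_right _)).trans hdvd)
  · have hodd : Odd (Fintype.card F) := by
      rw [hk]; exact ((Fact.out : p.Prime).odd_of_ne_two hp2).pow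
    obtain ⟨m, hm⟩ := hodd
    rw [show Nat.gcd 2 (Fintype.card F - 1) = 2 from Nat.gcd_eq_left ⟨m, by omega⟩] at hc
    have hmod : Fintype.card F % 8 = 3 ∨ Fintype.card F % 8 = 5 := by
      by_contra hne
      rw [not_or] at hne
      have h16' : 16 ∣ (Fintype.card F - 1) * (Fintype.card F + 1) := by
        rcases (show Fintype.card F % 8 = 1 ∨ Fintype.card F % 8 = 7 by omega) with h | h
        · exact mul_dvd_mul (show 8 ∣ Fintype.card F - 1 by omega) (show 2 ∣ Fintype.card F + 1 by omega)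
        · exact mul_dvd_mul (show 2 ∣ Fintype.card F - 1 by omega) (show 8 ∣ Fintype.card F + 1 by omega)
      exact h16 ((hc ▸ h16'.mul_left _).trans hdvd)
    refine ⟨?_, hmod, hS⟩
    have h9 : Fintype.card F ≠ 3 ∧ Fintype.card F ≠ 5 := ⟨hne3, fun h => h45 (Or.inr h)⟩
    omega

end CfsgLib.Recognition.ReeCentralizer
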