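import Mathlib

/-!
# The arithmetic endgame for an involution centralizer `2 × PSL₂(q)`

`Q = - ε q = 2 H + 1 = 4 u - 1`, all degrees are signed, `X = - ε |C(t)|² / |G|` and `g` is `- ε |G|`.
`caseI` is the Ree configuration, `caseII` and `caseTriangle` are impossible.
-/

set_option autoImplicit false

namespace CfsgLib.Recognition.ReeCentralizer.Arith

/-- A divisor of a nonzero integer is not larger. -/
theorem abs_le_of_dvd' {M c : ℤ} (hc : c ≠ 0) (h : M ∣ c) : |M| ≤ |c| :=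
  Int.le_of_dvd (abs_pos.2 hc) ((abs_dvd_abs _ _).2 h)

theorem three_mul_square {Q s v : ℤ} (hv : v ≠ 0) (h : 3 * s ^ 2 = v ^ 2 * Q) :
    ∃ m : ℤ, Q = 3 * m ^ 2 := by
  have h1 : v ^ 2 ∣ (3 * s) ^ 2 := ⟨3 * Q, by linear_combination 3 * h⟩
  obtain ⟨t, ht⟩ := (Int.pow_dvd_pow_iff two_ne_zero).1 h1
  have h2 : 3 * Q = t ^ 2 := mul_left_cancel₀ (pow_ne_zero 2 hv) (by
    linear_combination (3 * s + v * t) * ht - 3 * h)
  obtain ⟨m, rfl⟩ : (3 : ℤ) ∣ t := Int.Prime.dvd_pow' (p := 3) (by norm_num) ⟨Q, h2.symm⟩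
  exact ⟨m, by linarith⟩

/-- A prime power which is three times a square is an odd power of three. -/
theorem odd_power_of_three {p e : ℕ} {Q m : ℤ} (hp : p.Prime) (hQ : Q.natAbs = p ^ e)
    (hm : Q = 3 * m ^ 2) : p = 3 ∧ Odd e ∧ Q = (p : ℤ) ^ e := by
  have hn : p ^ e = 3 * m.natAbs ^ 2 := by rw [← hQ, hm, Int.natAbs_mul, Int.natAbs_pow]; rfl
  have hp3 : p = 3 :=
    ((Nat.prime_dvd_prime_iff_eq Nat.prime_three hp).1
      (Nat.prime_three.dvd_of_dvd_pow (Dvd.intro _ hn.symm))).symm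
  subst hp3
  refine ⟨rfl, ?_, ?_⟩
  · obtain ⟨i, -, hi⟩ := (Nat.dvd_prime_pow hp).1 (show m.natAbs ∣ 3 ^ e from ⟨3 * m.natAbs, by rw [hn]; ring⟩)
    rw [hi, ← pow_mul, ← pow_succ'] at hn
    exact ⟨i, by have := Nat.pow_right_injective (show 2 ≤ 3 by norm_num) hn; omega⟩
  · rw [← Int.natAbs_of_nonneg (show 0 ≤ Q by rw [hm]; positivity), hQ]; push_cast; rfl

/-- The odd divisor `m` of `u - 1` congruent to minus a signed power of `p` below `|Q|` is `± 1`. -/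
theorem unit_of_congr {Q u m S f : ℤ} (hQ : Q = f * S) (hu : Q + 1 = 4 * u) (hu7 : 7 ≤ u ∨ u ≤ -7)
    (huo : u % 2 = 1) (hmo : m % 2 = 1) (hf : f % 2 = 1) (hf3 : 3 ≤ |f|) (hm : m ∣ u - 1)
    (hmS : IsCoprime m S) (hcong : u ∣ S + m) : |S| = 1 ∧ (m = 1 ∨ m = -1) := by
  obtain ⟨t, ht⟩ := hcong
  have hm2 : 2 * |m| ≤ |u - 1| := by
    obtain ⟨a, ha⟩ := hm
    have ha2 : 2 ≤ |a| := by
      have ha0 : a ≠ 0 := by rintro rfl; (try simp only [Int.abs_eq_natAbs] at *; omega)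
      have : a % 2 = 0 := by
        by_contra hc
        have := Int.odd_iff.1 ((Int.odd_iff.2 hmo).mul (Int.odd_iff.2 (show a % 2 = 1 by (try simp only [Int.abs_eq_natAbs] at *; omega))))
        (try simp only [Int.abs_eq_natAbs] at *; omega)
      (try simp only [Int.abs_eq_natAbs] at *; omega)
    rw [ha, abs_mul, mul_comm]; exact mul_le_mul_of_nonneg_left ha2 (abs_nonneg m)
  have hS3 : 3 * |S| ≤ |Q| := by
    rw [hQ, abs_mul]; exact mul_le_mul_of_nonneg_right hf3 (abs_nonneg S)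
  by_cases hS1 : |S| = 1
  · refine ⟨hS1, ?_⟩
    rcases eq_or_ne t 0 with rfl | ht0
    · rcases (abs_eq (show (0 : ℤ) ≤ 1 by norm_num)).1 hS1 with h | h <;> (try simp only [Int.abs_eq_natAbs] at *; omega)
    · have := abs_mul u t ▸ mul_le_mul_of_nonneg_left (Int.one_le_abs ht0) (abs_nonneg u)
      rw [← ht] at this
      (try simp only [Int.abs_eq_natAbs] at *; omega)
  exfalso
  have ht1 : |t| ≤ 1 := by
    by_contra hc
    have := abs_mul u t ▸ mul_le_mul_of_nonneg_left (show 2 ≤ |t| by (try simp only [Int.abs_eq_natAbs] at *; omega)) (abs_nonneg u)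
    rw [← ht] at this
    (try simp only [Int.abs_eq_natAbs] at *; omega)
  rcases eq_or_ne t 0 with rfl | ht0
  · have hSm : S = -m := by linarith
    rw [hSm, IsCoprime.neg_right_iff, isCoprime_self] at hmS
    rcases Int.isUnit_iff.1 hmS with h | h <;> rw [hSm, h] at hS1 <;> norm_num at hS1
  have hcl : f * m = (t * f - 4) * u + 1 := by linear_combination f * ht + hQ - hu
  have hmc : m ∣ t * f - 3 := by
    rw [show t * f - 3 = f * m - (t * f - 4) * (u - 1) by linear_combination -hcl]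
    exact dvd_sub (dvd_mul_left m f) (hm.mul_left _)
  have htt : t = 1 ∨ t = -1 := by (try simp only [Int.abs_eq_natAbs] at *; omega)
  have htf : (t * f) % 2 = 1 := by rcases htt with rfl | rfl <;> (try simp only [Int.abs_eq_natAbs] at *; omega)
  have hSu : |u| ≤ |S| + |m| := by
    have := abs_mul u t ▸ mul_le_mul_of_nonneg_left (Int.one_le_abs ht0) (abs_nonneg u)
    rw [← ht] at this
    (try simp only [Int.abs_eq_natAbs] at *; omega)
  have hf9 : |f| ≤ 9 := by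
    by_contra hc
    have : 11 * |S| ≤ |Q| := by
      rw [hQ, abs_mul]; exact mul_le_mul_of_nonneg_right (show 11 ≤ |f| by (try simp only [Int.abs_eq_natAbs] at *; omega)) (abs_nonneg S)
    (try simp only [Int.abs_eq_natAbs] at *; omega)
  obtain ⟨m', hm'⟩ : ∃ m', m = t * m' := ⟨t * m, by rcases htt with rfl | rfl <;> ring⟩
  obtain ⟨c, hc⟩ : ∃ c, t * f = c := ⟨_, rfl⟩
  have hcl' : c * m' = (c - 4) * u + 1 := by subst hm' hc; linear_combination hcl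
  have hc9 : (c = 3 ∨ c = 5 ∨ c = 7 ∨ c = 9) ∨ c = -3 ∨ c = -5 ∨ c = -7 ∨ c = -9 := by
    rcases htt with rfl | rfl <;> (try simp only [Int.abs_eq_natAbs] at *; omega)
  have hm'o : m' % 2 = 1 := by rcases htt with rfl | rfl <;> (try simp only [Int.abs_eq_natAbs] at *; omega)
  by_cases hc3 : c = 3
  · subst hc3; (try simp only [Int.abs_eq_natAbs] at *; omega)
  have hb := abs_le_of_dvd' (show t * f - 3 ≠ 0 by (try simp only [Int.abs_eq_natAbs] at *; omega)) hmc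
  have hb' : |m'| = |m| := by rcases htt with rfl | rfl <;> simp [hm']
  rcases hc9 with (h | h | h | h) | h | h | h | h <;> subst h <;> (try simp only [Int.abs_eq_natAbs] at *; omega)

/-- The equation for `c = (-Q) ^ j` has no solution. -/
theorem no_power {Q c v : ℤ} {j : ℕ} (hQ8 : Q % 8 = 3) (hQ : 27 ≤ Q ∨ Q ≤ -25) (hc : c = (-Q) ^ j)
    (hv : v ∣ 2 + c) (hvo : v % 2 = 1)
    (h : (2 + c) * (c * v - 1) ^ 2 = (Q - 1) ^ 2 * v * ((Q - 3) * c + 1)) : False := by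
  have hQ2 : 25 ≤ |Q| := by (try simp only [Int.abs_eq_natAbs] at *; omega)
  match j, hc with
  | 0, hc =>
    rw [pow_zero] at hc; subst hc
    have hvb : |v| ≤ 3 := abs_le_of_dvd' (by norm_num) hv
    have hne : (1 * v - 1) ^ 2 ≠ 0 := by
      intro h0; rw [h0, mul_zero] at h
      rcases mul_eq_zero.1 h.symm with h1 | h1
      · rcases mul_eq_zero.1 h1 with h2 | h2
        · have := pow_eq_zero_iff two_ne_zero |>.1 h2; (try simp only [Int.abs_eq_natAbs] at *; omega)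
        · (try simp only [Int.abs_eq_natAbs] at *; omega)
      · (try simp only [Int.abs_eq_natAbs] at *; omega)
    have hd : (Q - 1) ^ 2 ∣ (2 + 1) * (1 * v - 1) ^ 2 := by rw [h, mul_assoc]; exact dvd_mul_right _ _
    have := Int.le_of_dvd (mul_pos (by norm_num) (lt_of_le_of_ne (sq_nonneg _) hne.symm)) hd
    have h16 : (1 * v - 1) ^ 2 ≤ 4 ^ 2 := sq_le_sq' (by (try simp only [Int.abs_eq_natAbs] at *; omega)) (by (try simp only [Int.abs_eq_natAbs] at *; omega))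
    have h24 : 24 ^ 2 ≤ (Q - 1) ^ 2 := by rw [sq_le_sq]; (try simp only [Int.abs_eq_natAbs] at *; omega)
    linarith
  | 1, hc =>
    rw [pow_one] at hc; subst hc
    obtain ⟨t, ht⟩ : Q ∣ v - 2 := by
      refine ⟨-1 + (2 - Q) * (Q * v ^ 2 + 2 * v) - v * ((Q - 2) * (1 - Q ^ 2 + 3 * Q) + (3 - Q)),
        by linear_combination -h⟩
    rw [show v = 2 + Q * t by linarith] at h hv hvo
    have h2Q : (2 + -Q) ≠ 0 := by (try simp only [Int.abs_eq_natAbs] at *; omega)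
    have hvb := abs_le_of_dvd' h2Q hv
    have ht1 : t = 0 ∨ t = 1 ∨ t = -1 := by
      by_contra hc
      have := abs_mul Q t ▸ mul_le_mul_of_nonneg_left (show 2 ≤ |t| by (try simp only [Int.abs_eq_natAbs] at *; omega)) (abs_nonneg Q)
      (try simp only [Int.abs_eq_natAbs] at *; omega)
    rcases ht1 with rfl | rfl | rfl
    · (try simp only [Int.abs_eq_natAbs] at *; omega)
    · have : 2 + Q * 1 ∣ (4 : ℤ) := by
        rw [show (4 : ℤ) = (2 + Q * 1) + (2 + -Q) by ring]; exact dvd_add dvd_rfl hv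
      have := abs_le_of_dvd' (by norm_num) this
      (try simp only [Int.abs_eq_natAbs] at *; omega)
    · have h' : (-Q * (2 + Q * -1) - 1) ^ 2 = (Q - 1) ^ 2 * ((Q - 3) * -Q + 1) :=
        mul_left_cancel₀ h2Q (by linear_combination h)
      have hneg : (Q - 3) * -Q + 1 < 0 := by
        have : 22 ^ 1 * 22 ≤ (Q - 3) * Q := by
          rcases hQ with h1 | h1
          · exact mul_le_mul (by (try simp only [Int.abs_eq_natAbs] at *; omega)) (by (try simp only [Int.abs_eq_natAbs] at *; omega)) (by norm_num) (by (try simp only [Int.abs_eq_natAbs] at *; omega))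
          · calc (22 : ℤ) ^ 1 * 22 ≤ (-(Q - 3)) * -Q := mul_le_mul (by (try simp only [Int.abs_eq_natAbs] at *; omega)) (by (try simp only [Int.abs_eq_natAbs] at *; omega)) (by norm_num) (by (try simp only [Int.abs_eq_natAbs] at *; omega))
              _ = _ := by ring
        linarith
      have := mul_neg_of_pos_of_neg (sq_pos_of_ne_zero (show Q - 1 ≠ 0 by (try simp only [Int.abs_eq_natAbs] at *; omega))) hneg
      have := sq_nonneg (-Q * (2 + Q * -1) - 1)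
      (try simp only [Int.abs_eq_natAbs] at *; omega)
  | i + 2, hc =>
    have hcb : |Q| ^ 2 ≤ |c| := by
      rw [hc, abs_pow, abs_neg]; exact pow_le_pow_right₀ (by (try simp only [Int.abs_eq_natAbs] at *; omega)) (by (try simp only [Int.abs_eq_natAbs] at *; omega))
    have hQQ : 25 * |Q| ≤ |Q| ^ 2 := by rw [sq]; exact mul_le_mul_of_nonneg_right hQ2 (abs_nonneg Q)
    have hv1 : 1 ≤ |v| := Int.one_le_abs (by rintro rfl; (try simp only [Int.abs_eq_natAbs] at *; omega))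
    have e : |2 + c| * (|c * v - 1|) ^ 2 = (|Q - 1|) ^ 2 * |v| * |(Q - 3) * c + 1| := by
      rw [← abs_pow, ← abs_pow, ← abs_mul, ← abs_mul, ← abs_mul, h]
    have l1 : |c| - 2 ≤ |2 + c| := by (try simp only [Int.abs_eq_natAbs] at *; omega)
    have l2 : (|c| - 1) * |v| ≤ |c * v - 1| := by
      refine le_trans ?_ (abs_sub_abs_le_abs_sub (c * v) 1)
      rw [abs_mul, abs_one, sub_mul, one_mul]; (try simp only [Int.abs_eq_natAbs] at *; omega)
    have l3 : |(Q - 3) * c + 1| ≤ (|Q| + 4) * |c| := by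
      refine le_trans (abs_add_le _ _) ?_
      rw [abs_mul, abs_one]
      have := mul_le_mul_of_nonneg_right (show |Q - 3| ≤ |Q| + 3 by (try simp only [Int.abs_eq_natAbs] at *; omega)) (abs_nonneg c)
      linarith
    have l4 : |Q - 1| ≤ |Q| + 1 := by (try simp only [Int.abs_eq_natAbs] at *; omega)
    have key : (|c| - 2) * (|c| - 1) ^ 2 * |v| ≤ (|Q| + 1) ^ 2 * ((|Q| + 4) * |c|) * |v| := by
      have L : (|c| - 2) * ((|c| - 1) * |v|) ^ 2 ≤ |2 + c| * |c * v - 1| ^ 2 :=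
        mul_le_mul l1 (pow_le_pow_left₀ (mul_nonneg (by (try simp only [Int.abs_eq_natAbs] at *; omega)) (abs_nonneg v)) l2 2) (sq_nonneg _)
          (abs_nonneg _)
      have R : |Q - 1| ^ 2 * |v| * |(Q - 3) * c + 1| ≤ (|Q| + 1) ^ 2 * |v| * ((|Q| + 4) * |c|) :=
        mul_le_mul (mul_le_mul_of_nonneg_right (pow_le_pow_left₀ (abs_nonneg _) l4 2) (abs_nonneg v))
          l3 (abs_nonneg _) (mul_nonneg (sq_nonneg _) (abs_nonneg v))
      have hv2 : (|c| - 2) * (|c| - 1) ^ 2 * |v| * 1 ≤ (|c| - 2) * (|c| - 1) ^ 2 * |v| * |v| :=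
        mul_le_mul_of_nonneg_left hv1 (mul_nonneg (mul_nonneg (by (try simp only [Int.abs_eq_natAbs] at *; omega)) (sq_nonneg _)) (abs_nonneg v))
      linarith
    have key' := le_of_mul_le_mul_right key (by (try simp only [Int.abs_eq_natAbs] at *; omega))
    have k2 : |c| * (|c| - 3) ^ 2 ≤ |c| * ((|Q| + 1) ^ 2 * (|Q| + 4)) := by
      nlinarith only [key', sq_nonneg (|c| - 2), show 4 ≤ |c| by (try simp only [Int.abs_eq_natAbs] at *; omega)]
    have k3 := le_of_mul_le_mul_left k2 (by (try simp only [Int.abs_eq_natAbs] at *; omega))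
    have k4 : (|Q| ^ 2 - 3) ^ 2 ≤ (|c| - 3) ^ 2 := pow_le_pow_left₀ (by (try simp only [Int.abs_eq_natAbs] at *; omega)) (by (try simp only [Int.abs_eq_natAbs] at *; omega)) 2
    nlinarith only [k3, k4, hQ2, mul_le_mul_of_nonneg_right hQQ (sq_nonneg |Q|),
      mul_le_mul_of_nonneg_right hQ2 (sq_nonneg |Q|)]

/-- The integer form of case II: a sum `n - 1` of two middle degrees cannot exist. -/
theorem caseII_int {p e : ℕ} {Q H u n A A' g : ℤ} (hp : p.Prime) (hQp : Q.natAbs = p ^ e)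
    (hr : Q = 2 * H + 1) (hu : Q + 1 = 4 * u) (hQ8 : Q % 8 = 3) (hu7 : 7 ≤ u ∨ u ≤ -7)
    (hk : A + A' = n - 1) (hn0 : n ≠ 0)
    (hEq : (n - 1) * (A * A') + n * H ^ 2 * A = (2 * Q - 7) * H ^ 2 * n * A')
    (hgA : g = 2 * Q ^ 3 * (Q + 1) * A) (hA8 : 8 ∣ A + H) (hA'8 : 8 ∣ A' + H)
    (hA'u : u ∣ A' - 1) (hnu : u ∣ n + 1) (hA'g : A' ∣ g) (hc : Q * (Q ^ 2 - 1) ∣ g) : False := by
  have huo : u % 2 = 1 := by omega
  have hHo : H % 4 = 1 := by omega
  have hHA : H ∣ A := by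
    have h1 : H ∣ Q ^ 2 * A := by
      refine (mul_dvd_mul_iff_left (show 2 * Q * (Q + 1) ≠ 0 from
        mul_ne_zero (mul_ne_zero two_ne_zero (by omega)) (by omega))).1 ?_
      rw [show 2 * Q * (Q + 1) * H = Q * (Q ^ 2 - 1) by rw [hr]; ring,
        show 2 * Q * (Q + 1) * (Q ^ 2 * A) = g by rw [hgA]; ring]
      exact hc
    exact ((show IsCoprime H Q from ⟨-2, 1, by linarith⟩).pow_right).dvd_of_dvd_mul_left h1
  obtain ⟨G, a, b, hG, hco, hAa, hA'b⟩ :=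
    Int.exists_gcd_one' (m := A) (n := A') (Int.gcd_pos_of_ne_zero_left _ (show A ≠ 0 by omega))
  have hab : IsCoprime a b := Int.isCoprime_iff_gcd_eq_one.2 hco
  obtain ⟨D, hD⟩ : ∃ D : ℤ, (G : ℤ) = D := ⟨_, rfl⟩
  rw [hD] at hAa hA'b
  subst hAa hA'b
  have hD0 : D ≠ 0 := by omega
  have hodd2 : ∀ x y : ℤ, 8 ∣ x * y + H → x % 2 = 1 ∧ y % 2 = 1 := fun x y hxy => by
    have h1 : Odd (x * y) := Int.odd_iff.2 (by omega)
    exact ⟨Int.odd_iff.1 (Int.odd_mul.1 h1).1, Int.odd_iff.1 (Int.odd_mul.1 h1).2⟩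
  obtain ⟨hao, hDo⟩ := hodd2 _ _ hA8
  obtain ⟨hbo, -⟩ := hodd2 _ _ hA'8
  obtain ⟨m, hm⟩ : ∃ m, a + b = 2 * m := ⟨(a + b) / 2, by omega⟩
  have hn : n - 1 = 2 * m * D := by linear_combination D * hm - hk
  have hmD : (m * D) % 2 = 1 := by
    have : 2 * (m * D) = 2 * m * D := by ring
    omega
  have hmo : m % 2 = 1 := Int.odd_iff.1 (Int.odd_mul.1 (Int.odd_iff.2 hmD)).1
  have hE : 2 * m * (a * b * D ^ 2 + n * H ^ 2) = 4 * (H - 1) * n * H ^ 2 * b :=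
    mul_left_cancel₀ hD0 (by
      subst hr
      linear_combination hEq - (a * D * b * D) * hn - n * H ^ 2 * D * hm)
  have hma : IsCoprime m a := by
    obtain ⟨x, y, hxy⟩ := hab
    exact ⟨2 * y, x - y, by linear_combination hxy - y * hm⟩
  have hmb : IsCoprime m b := by
    obtain ⟨x, y, hxy⟩ := hab
    exact ⟨2 * x, y - x, by linear_combination hxy - x * hm⟩
  -- `m` divides `u - 1`
  have hmu : m ∣ u - 1 := by
    have hg0 : 0 < Int.gcd H D := Int.gcd_pos_of_ne_zero_left _ (by omega)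
    obtain ⟨g₀, h, d, hg₀, hhd, hHh, hDd⟩ := Int.exists_gcd_one' hg0
    have hg0' : (g₀ : ℤ) ≠ 0 := by exact_mod_cast hg₀.ne'
    have hha : h ∣ a := by
      refine (Int.isCoprime_iff_gcd_eq_one.2 hhd).dvd_of_dvd_mul_right ?_
      refine (mul_dvd_mul_iff_right hg0').1 ?_
      rw [← hHh, mul_assoc, ← hDd]; exact hHA
    have hmh : IsCoprime m h := hma.of_isCoprime_of_dvd_right hha
    have hE' : 2 * m * (a * b * d ^ 2 + n * h ^ 2) = 4 * (H - 1) * n * h ^ 2 * b :=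
      mul_left_cancel₀ (pow_ne_zero 2 hg0') (by
        subst hDd
        linear_combination hE + (2 * m * n - 4 * (H - 1) * n * b) * (H + h * g₀) * (-hHh))
    have h1 : m ∣ 2 ^ 3 * (u - 1) * n * h ^ 2 * b :=
      ⟨2 * (a * b * d ^ 2 + n * h ^ 2), by
        linear_combination -hE' + 2 * n * h ^ 2 * b * (hr - hu)⟩
    have hmn : IsCoprime m n := ⟨-2 * D, 1, by linear_combination hn⟩
    have hm2 : IsCoprime m 2 := ⟨1, -(m / 2), by omega⟩
    exact (hm2.pow_right).dvd_of_dvd_mul_left (hmn.dvd_of_dvd_mul_right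
      ((hmh.pow_right).dvd_of_dvd_mul_right (hmb.dvd_of_dvd_mul_right h1)))
  -- `b` is a signed power of `p`, congruent to `- m`
  obtain ⟨k₁, hk₁⟩ := hA'u
  obtain ⟨k₂, hk₂⟩ := hnu
  have hbm : u ∣ b + m := by
    refine (show IsCoprime u 2 from ⟨1, -(u / 2), by omega⟩).dvd_of_dvd_mul_left ?_
    exact ⟨k₂ * b - 2 * k₁ * m, by linear_combination -(b * hn) - 2 * m * hk₁ + b * hk₂⟩
  have hbu : IsCoprime b u := ⟨D, -k₁, by linarith⟩
  have hbQ : b ∣ Q ^ 3 := by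
    have h1 : b ∣ 2 * Q ^ 3 * (Q + 1) * a := by
      refine (mul_dvd_mul_iff_right hD0).1 ?_
      rw [mul_assoc _ a D, ← hgA]; exact hA'g
    have h2 : b ∣ 2 ^ 3 * u * Q ^ 3 := by
      rw [show 2 ^ 3 * u * Q ^ 3 = 2 * Q ^ 3 * (Q + 1) by rw [hu]; ring]
      exact hab.symm.dvd_of_dvd_mul_right h1
    have hb2 : IsCoprime b 2 := ⟨1, -(b / 2), by omega⟩
    rw [mul_comm] at h2
    exact (hb2.pow_right.mul_right hbu).dvd_of_dvd_mul_right h2
  have hbi := Int.natAbs_dvd_natAbs.2 hbQ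
  rw [Int.natAbs_pow, hQp, ← pow_mul] at hbi
  obtain ⟨i, -, hi⟩ := (Nat.dvd_prime_pow hp).1 hbi
  have he : e ≠ 0 := by rintro rfl; rw [pow_zero] at hQp; omega
  -- write `b = s p ^ (i % e) (-Q) ^ j`
  have hbr : ∃ S : ℤ, b = S * (-Q) ^ (i / e) ∧ S.natAbs = p ^ (i % e) := by
    have h1 : ((-Q) ^ (i / e)).natAbs = p ^ (e * (i / e)) := by
      rw [Int.natAbs_pow, Int.natAbs_neg, hQp, ← pow_mul]
    have h2 : b.natAbs = p ^ (i % e) * ((-Q) ^ (i / e)).natAbs := by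
      rw [h1, hi, ← pow_add, Nat.mod_add_div]
    obtain ⟨S, hS⟩ : (-Q) ^ (i / e) ∣ b := Int.natAbs_dvd_natAbs.1 ⟨_, h2.trans (mul_comm _ _)⟩
    refine ⟨S, hS.trans (mul_comm _ _), ?_⟩
    rw [hS, Int.natAbs_mul, mul_comm] at h2
    exact Nat.eq_of_mul_eq_mul_right (h1 ▸ pow_pos hp.pos _) h2
  obtain ⟨S, hbS, hSn⟩ := hbr
  obtain ⟨j, hj⟩ : ∃ j, i / e = j := ⟨_, rfl⟩
  rw [hj] at hbS
  obtain ⟨f, hf⟩ : S ∣ Q := by
    rw [← Int.natAbs_dvd_natAbs, hQp, hSn]; exact pow_dvd_pow p (Nat.mod_lt _ (by omega)).le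
  have hfo : f % 2 = 1 := by
    have : Odd (S * f) := by rw [← hf]; exact Int.odd_iff.2 (by omega)
    exact Int.odd_iff.1 (Int.odd_mul.1 this).2
  have hf3 : 3 ≤ |f| := by
    have h1 : f.natAbs ≠ 1 := by
      intro h
      have h' : p ^ e = p ^ (i % e) := by rw [← hQp, hf, Int.natAbs_mul, h, mul_one, hSn]
      have := Nat.pow_right_injective hp.two_le h'
      have := Nat.mod_lt i (Nat.pos_of_ne_zero he)
      omega
    simp only [Int.abs_eq_natAbs]; omega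
  have hcS : u ∣ S + m := by
    have h1 : u ∣ (-Q) ^ j - 1 := by
      have := (show u ∣ -Q - 1 from ⟨-4, by linarith⟩).trans (sub_dvd_pow_sub_pow (-Q) 1 j)
      simpa using this
    have h2 := dvd_sub hbm (h1.mul_left S)
    rwa [show b + m - S * ((-Q) ^ j - 1) = S + m by rw [hbS]; ring] at h2
  have hmS : IsCoprime m S := hmb.of_isCoprime_of_dvd_right ⟨_, hbS⟩
  obtain ⟨hS1, hm1⟩ := unit_of_congr (hf.trans (mul_comm _ _)) hu hu7 huo hmo hfo hf3 hmu hmS hcS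
  have hSm : S = -m := by
    obtain ⟨t, ht⟩ := hcS
    rcases eq_or_ne t 0 with rfl | ht0
    · linarith
    · exfalso
      rcases (abs_eq (show (0 : ℤ) ≤ 1 by norm_num)).1 hS1 with h | h <;>
        rcases hm1 with h' | h' <;>
        · have := abs_le_of_dvd' (show S + m ≠ 0 by rw [ht]; exact mul_ne_zero (by omega) ht0) ⟨t, ht⟩
          simp only [Int.abs_eq_natAbs] at this
          omega
  obtain ⟨c, hc'⟩ : ∃ c, (-Q) ^ j = c := ⟨_, rfl⟩
  rw [hSm, hc'] at hbS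
  have hac : a = m * (2 + c) := by linarith
  -- `b` divides `n`
  have hE2 : m * a * b * D ^ 2 = n * H ^ 2 * (2 * (H - 1) * b - m) := by linarith
  have hmm : m * m = 1 := by rcases hm1 with rfl | rfl <;> norm_num
  have hcopQ : IsCoprime b H := ((show IsCoprime H Q from ⟨-2, 1, by linarith⟩).pow_right.symm).of_isCoprime_of_dvd_left hbQ
  have hcopb : IsCoprime b (2 * (H - 1) * b - m) := ⟨2 * (H - 1) * m, -m, by linear_combination hmm⟩
  obtain ⟨ν, hν⟩ : b ∣ n := by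
    refine hcopQ.pow_right (n := 2) |>.dvd_of_dvd_mul_right (hcopb.dvd_of_dvd_mul_right ?_)
    exact ⟨m * a * D ^ 2, by linear_combination -hE2⟩
  have hb0 : b ≠ 0 := by omega
  have hE3 : m * a * D ^ 2 = ν * H ^ 2 * (2 * (H - 1) * b - m) :=
    mul_left_cancel₀ hb0 (by subst hν; linear_combination hE2)
  have hva : ν ∣ a := by
    have h1 : IsCoprime ν (D ^ 2) := (show IsCoprime ν D from
      ⟨b, -2 * m, by linear_combination -hν + hn⟩).pow_right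
    have h2 : ν ∣ a * m * D ^ 2 := ⟨H ^ 2 * (2 * (H - 1) * b - m), by linear_combination hE3⟩
    exact (show ν ∣ a * m from h1.dvd_of_dvd_mul_right h2).trans ⟨m, by linear_combination -a * hmm⟩
  refine no_power (Q := Q) (c := c) (v := -m * ν) (j := j) hQ8 (by omega) hc'.symm ?_ ?_ ?_
  · obtain ⟨α, hα⟩ := hva
    exact ⟨-α, by linear_combination m * hα - m * hac - (2 + c) * hmm⟩
  · rcases hm1 with rfl | rfl <;>
    · obtain ⟨α, hα⟩ := hva
      have : Odd (ν * α) := by rw [← hα]; exact Int.odd_iff.2 hao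
      have := Int.odd_iff.1 (Int.odd_mul.1 this).1
      omega
  · subst hbS hac hν hr
    linear_combination 4 * hE3 + (-m * c * ν - 1 + 2 * m * D) * (2 + c) * hn

section

variable {K : Type*} [Field K] [CharZero K]

/-- **The Ree configuration.** -/
theorem caseI {Q H u n A A' z₃ N g : ℤ} {X : K} (hr : Q = 2 * H + 1) (hu : Q + 1 = 4 * u)
    (hu7 : 7 ≤ u ∨ u ≤ -7) (hn0 : n ≠ 0) (hN0 : N ≠ 0) (hA : A ≠ 0) (hA' : A' ≠ 0)
    (hk : A + A' = n - 1) (hz₃ : z₃ = -Q * n) (hN : N = (Q + 1) * n - 1)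
    (h0 : 1 - 1 / (n : K) + (Q : K) ^ 2 * (1 / (z₃ : K) + 1 / (N : K)) = ((Q : K) - 1) * X)
    (h1 : 1 - 1 / (n : K) + (H : K) ^ 2 * (1 / (A : K) + 1 / (A' : K))
      = (Q : K) * ((Q : K) - 3) / ((Q : K) + 1) * X)
    (h2 : 1 + 2 * (H : K) ^ 2 * (1 / (A : K) + 1 / (A' : K)) - (Q : K) ^ 2 / (N : K)
      + 9 * ((Q : K) - 1) / (n : K) = ((Q : K) + 1) * X)
    (hg : X * (g : K) = (Q : K) ^ 2 * ((Q : K) ^ 2 - 1) ^ 2) :
    g = Q ^ 3 * (Q ^ 3 + 1) * (Q - 1) ∧ ∃ m : ℤ, Q = 3 * m ^ 2 := by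
  have hQ0 : (Q : K) ≠ 0 := by exact_mod_cast (show Q ≠ 0 by omega)
  have hQ1 : (Q : K) + 1 ≠ 0 := by exact_mod_cast (show Q + 1 ≠ 0 by omega)
  have hnK : (n : K) ≠ 0 := by exact_mod_cast hn0
  have hNK : (N : K) ≠ 0 := by exact_mod_cast hN0
  have hAK : (A : K) ≠ 0 := by exact_mod_cast hA
  have hA'K : (A' : K) ≠ 0 := by exact_mod_cast hA'
  have hz : (Q : K) ^ 2 * (1 / (z₃ : K)) = -((Q : K) * (1 / (n : K))) := by
    rw [hz₃]; push_cast; field_simp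
  have hlin : -8 * ((Q : K) - 1) * (1 / (n : K))
      = X * (2 * ((Q : K) * ((Q : K) - 3) / ((Q : K) + 1)) - ((Q : K) - 1) - ((Q : K) + 1)) := by
    linear_combination 2 * h1 - h0 - h2 + hz
  have hX : X = ((Q : K) ^ 2 - 1) / ((Q : K) * (n : K)) := by
    field_simp at hlin ⊢
    linear_combination (1 / 8 : K) * hlin
  have hnn : n = Q ^ 2 - Q + 1 := by
    have e : ((Q : K) + 1) * ((n : K) - ((Q : K) ^ 2 - (Q : K) + 1)) * ((Q : K) * (n : K) - 1) = 0 := by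
      have hNe : (N : K) = ((Q : K) + 1) * (n : K) - 1 := by rw [hN]; push_cast; rfl
      rw [mul_add, hz, hX] at h0
      field_simp at h0
      rw [hNe] at h0
      linear_combination h0
    have e' : (Q + 1) * (n - (Q ^ 2 - Q + 1)) * (Q * n - 1) = 0 := by exact_mod_cast e
    rcases mul_eq_zero.1 e' with e' | e'
    · rcases mul_eq_zero.1 e' with e' | e' <;> omega
    · rcases Int.mul_eq_one_iff_eq_one_or_neg_one.1 (show Q * n = 1 by linarith) with e | e <;> omega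
  refine ⟨?_, three_mul_square (s := A - A') (v := (Q + 1) * (Q - 1))
    (mul_ne_zero (by omega) (by omega)) ?_⟩
  · have e : (g : K) = (Q : K) ^ 3 * ((Q : K) ^ 3 + 1) * ((Q : K) - 1) := by
      have h1q : (Q : K) ^ 2 - 1 ≠ 0 := by
        rw [show (Q : K) ^ 2 - 1 = ((Q : K) + 1) * ((Q : K) - 1) by ring]
        exact mul_ne_zero hQ1 (by exact_mod_cast (show Q - 1 ≠ 0 by omega))
      have hne : (n : K) = (Q : K) ^ 2 - (Q : K) + 1 := by rw [hnn]; push_cast; rfl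
      rw [hX, div_mul_eq_mul_div, div_eq_iff (mul_ne_zero hQ0 hnK)] at hg
      refine mul_left_cancel₀ h1q ?_
      linear_combination hg + (Q : K) ^ 3 * ((Q : K) ^ 2 - 1) ^ 2 * hne
    exact_mod_cast e
  · have e1 : ((n - 1) * (A * A') + H ^ 2 * n * (A + A') : ℤ) = (Q - 3) * (Q - 1) * (A * A') := by
      have hl : (1 - 1 / (n : K) + (H : K) ^ 2 * (1 / (A : K) + 1 / (A' : K))) * ((n : K) * A * A')
          = ((n : K) - 1) * (A * A') + (H : K) ^ 2 * n * (A + A') := by field_simp; ring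
      have hrr : (Q : K) * ((Q : K) - 3) / ((Q : K) + 1) * (((Q : K) ^ 2 - 1) / ((Q : K) * n))
          * ((n : K) * A * A') = ((Q : K) - 3) * ((Q : K) - 1) * (A * A') := by field_simp; ring
      rw [hX] at h1
      rw [h1, hrr] at hl
      exact_mod_cast hl.symm
    have e2 : 12 * (A * A') = -(Q * n * (Q - 1) ^ 2) := mul_left_cancel₀ (show Q - 1 ≠ 0 by omega) (by
      subst hnn hr
      linear_combination 4 * e1 - 4 * H ^ 2 * ((2 * H + 1) ^ 2 - (2 * H + 1) + 1) * hk)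
    subst hnn
    linear_combination 3 * (A + A' + Q ^ 2 - Q) * hk - e2

/-- **Case II**: the two conjugate exceptional rows do not occur. -/
theorem caseII {p e : ℕ} {Q H u n A A' g : ℤ} {X R : K} (hp : p.Prime) (hQp : Q.natAbs = p ^ e)
    (hr : Q = 2 * H + 1) (hu : Q + 1 = 4 * u) (hQ8 : Q % 8 = 3) (hu7 : 7 ≤ u ∨ u ≤ -7)
    (hn0 : n ≠ 0) (hA : A ≠ 0) (hA' : A' ≠ 0) (hk : A + A' = n - 1)
    (h0 : 1 - 1 / (n : K) + (Q : K) ^ 2 * R = ((Q : K) - 1) * X)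
    (h1 : 1 - 1 / (n : K) + (H : K) ^ 2 * (1 / (A : K) + 1 / (A' : K))
      = (Q : K) * ((Q : K) - 3) / ((Q : K) + 1) * X)
    (h2 : 1 - 1 / (n : K) + 2 * (H : K) ^ 2 / (A' : K) - (Q : K) ^ 2 * R
      + 18 * (H : K) ^ 2 / (A : K) = ((Q : K) + 1) * X)
    (hg : X * (g : K) = (Q : K) ^ 2 * ((Q : K) ^ 2 - 1) ^ 2)
    (hA8 : 8 ∣ A + H) (hA'8 : 8 ∣ A' + H) (hA'u : u ∣ A' - 1) (hnu : u ∣ n + 1)
    (hA'g : A' ∣ g) (hc : Q * (Q ^ 2 - 1) ∣ g) : False := by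
  have hQ0 : (Q : K) ≠ 0 := by exact_mod_cast (show Q ≠ 0 by omega)
  have hQ1 : (Q : K) + 1 ≠ 0 := by exact_mod_cast (show Q + 1 ≠ 0 by omega)
  have hH0 : (H : K) ≠ 0 := by exact_mod_cast (show H ≠ 0 by omega)
  have hnK : (n : K) ≠ 0 := by exact_mod_cast hn0
  have hAK : (A : K) ≠ 0 := by exact_mod_cast hA
  have hA'K : (A' : K) ≠ 0 := by exact_mod_cast hA'
  have hrK : (Q : K) = 2 * (H : K) + 1 := by exact_mod_cast hr
  have hlin : 16 * (H : K) ^ 2 * (1 / (A : K))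
      = X * (((Q : K) + 1) + ((Q : K) - 1) - 2 * ((Q : K) * ((Q : K) - 3) / ((Q : K) + 1))) := by
    linear_combination h2 + h0 - 2 * h1
  have hX : X = 2 * (H : K) ^ 2 * ((Q : K) + 1) / ((Q : K) * (A : K)) := by
    field_simp at hlin ⊢
    linear_combination (-1 / 8 : K) * hlin
  refine caseII_int (g := g) hp hQp hr hu hQ8 hu7 hk hn0 ?_ ?_ hA8 hA'8 hA'u hnu hA'g hc
  · have e : ((n : K) - 1) * (A * A') + n * (H : K) ^ 2 * A = (2 * (Q : K) - 7) * (H : K) ^ 2 * n * A' := by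
      rw [hX] at h1
      field_simp at h1
      linear_combination h1
    exact_mod_cast e
  · have e : (g : K) = 2 * (Q : K) ^ 3 * ((Q : K) + 1) * A := by
      rw [hX, div_mul_eq_mul_div, div_eq_iff (mul_ne_zero hQ0 hAK)] at hg
      refine mul_left_cancel₀ (show 2 * (H : K) ^ 2 * ((Q : K) + 1) ≠ 0 from
        mul_ne_zero (mul_ne_zero two_ne_zero (pow_ne_zero 2 hH0)) hQ1) ?_
      rw [hg, show (Q : K) ^ 2 - 1 = ((Q : K) + 1) * (2 * (H : K)) by rw [hrK]; ring]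
      ring
    exact_mod_cast e

/-- The quintic of the triangle case has no integral root outside `0`. -/
theorem quintic {H ζ : ℤ} (hH : 5 ≤ H ∨ H ≤ -7) (hζ : ζ ≠ 0) :
    (4 * H * ((2 * H + 2) * ζ + 1) * (ζ + H + 1) - (4 * H - 5) * (2 * H + 1) * (ζ + 1) ^ 2)
        * ((2 * H + 1) * (ζ + 1) ^ 2 * ((H + 1) * ζ + 1) + 4 * H ^ 3 * ζ * ((2 * H + 2) * ζ + 1))
      ≠ 16 * H ^ 3 * (2 * H + 1) * (ζ + 1) ^ 2 * ζ * ((2 * H + 2) * ζ + 1) := by
  intro h
  obtain ⟨e5, he5⟩ : ∃ e, 28 * H ^ 3 + 52 * H ^ 2 + 29 * H + 5 = e := ⟨_, rfl⟩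
  obtain ⟨e4, he4⟩ : ∃ e, 64 * H ^ 5 + 80 * H ^ 4 + 120 * H ^ 3 + 224 * H ^ 2 + 136 * H + 25 = e := ⟨_, rfl⟩
  obtain ⟨e3, he3⟩ : ∃ e, 64 * H ^ 7 + 64 * H ^ 6 + 96 * H ^ 5 + 160 * H ^ 4 + 176 * H ^ 3 + 376 * H ^ 2
      + 254 * H + 50 = e := ⟨_, rfl⟩
  obtain ⟨e2, he2⟩ : ∃ e, 96 * H ^ 4 + 96 * H ^ 3 + 304 * H ^ 2 + 236 * H + 50 = e := ⟨_, rfl⟩
  obtain ⟨e1, he1⟩ : ∃ e, -16 * H ^ 5 + 16 * H ^ 4 + 4 * H ^ 3 + 116 * H ^ 2 + 109 * H + 25 = e := ⟨_, rfl⟩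
  obtain ⟨e0, he0⟩ : ∃ e, -8 * H ^ 3 + 16 * H ^ 2 + 20 * H + 5 = e := ⟨_, rfl⟩
  have hz : e5 * ζ ^ 5 + e4 * ζ ^ 4 + e3 * ζ ^ 3 + (e2 * ζ ^ 2 + e1 * ζ + e0) = 0 := by
    subst he5 he4 he3 he2 he1 he0; linear_combination h
  have hz1 : 1 ≤ |ζ| := Int.one_le_abs hζ
  have hz2 : |ζ| ≤ |ζ| ^ 2 := by rw [sq]; exact le_mul_of_one_le_left (by omega) hz1
  have htail : |e2 * ζ ^ 2 + e1 * ζ + e0| ≤ (|e2| + |e1| + |e0|) * |ζ| ^ 3 := by
    refine (abs_add_three _ _ _).trans ?_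
    rw [abs_mul, abs_mul, abs_pow]
    have h3 : |ζ| ^ 2 ≤ |ζ| ^ 3 := pow_le_pow_right₀ hz1 (by norm_num)
    have h31 : 1 ≤ |ζ| ^ 3 := one_le_pow₀ hz1
    linarith [mul_le_mul_of_nonneg_left h3 (abs_nonneg e2),
      mul_le_mul_of_nonneg_left (hz2.trans h3) (abs_nonneg e1),
      mul_le_mul_of_nonneg_left h31 (abs_nonneg e0)]
  have hkey : (4 * e3 * e5 - e4 ^ 2) * |ζ| ^ 3 ≤ 4 * |e5| * ((|e2| + |e1| + |e0|) * |ζ| ^ 3) := by
    have hsq : 4 * e3 * e5 - e4 ^ 2 ≤ |4 * e5 * (e5 * ζ ^ 2 + e4 * ζ + e3)| :=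
      le_trans (by linarith [sq_nonneg (2 * e5 * ζ + e4)]) (le_abs_self _)
    calc (4 * e3 * e5 - e4 ^ 2) * |ζ| ^ 3
        ≤ |4 * e5 * (e5 * ζ ^ 2 + e4 * ζ + e3)| * |ζ| ^ 3 := mul_le_mul_of_nonneg_right hsq (by positivity)
      _ = |4 * e5| * |(e5 * ζ ^ 2 + e4 * ζ + e3) * ζ ^ 3| := by rw [abs_mul, abs_mul _ (ζ ^ 3), abs_pow, mul_assoc]
      _ = |4 * e5| * |-(e2 * ζ ^ 2 + e1 * ζ + e0)| := by
          congr 2; linear_combination hz
      _ ≤ _ := by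
          rw [abs_neg, abs_mul, show |(4 : ℤ)| = 4 from rfl]
          exact mul_le_mul_of_nonneg_left htail (by positivity)
  have hlt : 4 * |e5| * (|e2| + |e1| + |e0|) < 4 * e3 * e5 - e4 ^ 2 := by
    rcases hH with hH | hH
    · obtain ⟨t, ht0, rfl⟩ : ∃ t, 0 ≤ t ∧ H = 5 + t := ⟨H - 5, by omega, by ring⟩
      have p5 : 0 ≤ e5 := by rw [← he5]; positivity
      have p2 : 0 ≤ e2 := by rw [← he2]; positivity
      have p1 : 0 ≤ -e1 := by
        rw [← he1, show -(-16 * (5 + t) ^ 5 + 16 * (5 + t) ^ 4 + 4 * (5 + t) ^ 3 + 116 * (5 + t) ^ 2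
          + 109 * (5 + t) + 25) = 36030 + 40431 * t + 17424 * t ^ 2 + 3676 * t ^ 3 + 384 * t ^ 4 + 16 * t ^ 5 by ring]
        positivity
      have p0 : 0 ≤ -e0 := by
        rw [← he0, show -(-8 * (5 + t) ^ 3 + 16 * (5 + t) ^ 2 + 20 * (5 + t) + 5)
          = 495 + 420 * t + 104 * t ^ 2 + 8 * t ^ 3 by ring]
        positivity
      rw [abs_of_nonneg p5, abs_of_nonneg p2, abs_of_nonpos (neg_nonneg.1 p1), abs_of_nonpos (neg_nonneg.1 p0),
        ← sub_pos, ← he5, ← he4, ← he3, ← he2, ← he1, ← he0]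
      ring_nf
      positivity
    · obtain ⟨t, ht0, rfl⟩ : ∃ t, 0 ≤ t ∧ H = -7 - t := ⟨-7 - H, by omega, by ring⟩
      have p5 : 0 ≤ -e5 := by rw [← he5]; ring_nf; positivity
      have p2 : 0 ≤ e2 := by rw [← he2]; ring_nf; positivity
      have p1 : 0 ≤ e1 := by rw [← he1]; ring_nf; positivity
      have p0 : 0 ≤ e0 := by rw [← he0]; ring_nf; positivity
      rw [abs_of_nonpos (neg_nonneg.1 p5), abs_of_nonneg p2, abs_of_nonneg p1, abs_of_nonneg p0,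
        ← sub_pos, ← he5, ← he4, ← he3, ← he2, ← he1, ← he0]
      ring_nf
      positivity
  have := mul_lt_mul_of_pos_right hlt (show 0 < |ζ| ^ 3 from pow_pos (by omega) 3)
  linarith

/-- **The triangle case (ii)**: `Y` and `2 Y` are the degrees at the two vertices through the principal column. -/
theorem caseTriangle {Q H u a Xd Y c : ℤ} {X : K} (hr : Q = 2 * H + 1) (hu : Q + 1 = 4 * u)
    (hQ8 : Q % 8 = 3) (hu7 : 7 ≤ u ∨ u ≤ -7) (hY0 : Y ≠ 0) (hXd0 : Xd ≠ 0) (ha0 : a ≠ 0)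
    (hc0 : c ≠ 0) (hc : c = -1 - 2 * Y) (ha : a = -1 - Xd - Y) (hYu : u ∣ Y) (hY8 : 8 ∣ Y - (H + 1))
    (h0 : 1 + 2 * ((H : K) + 1) ^ 2 / (Y : K) + (Q : K) ^ 2 / (c : K) = ((Q : K) - 1) * X)
    (h1 : 1 + (H : K) ^ 2 / (a : K) + 4 * (H : K) ^ 2 / (Xd : K) + ((H : K) + 1) ^ 2 / (Y : K)
      = (Q : K) * ((Q : K) - 3) / ((Q : K) + 1) * X)
    (h2 : 1 - (Q : K) ^ 2 / (c : K) + 8 * (H : K) ^ 2 / (Xd : K) + 18 * (H : K) ^ 2 / (a : K)
      = ((Q : K) + 1) * X) : False := by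
  obtain ⟨ζ, hζ⟩ : ∃ ζ, Y = ζ * (H + 1) := by
    obtain ⟨y, hy⟩ := hYu
    have hy2 : 2 ∣ u * y := by rw [← hy]; omega
    obtain ⟨z, hz⟩ := (show IsCoprime (2 : ℤ) u from ⟨-(u / 2), 1, by omega⟩).dvd_of_dvd_mul_left hy2
    exact ⟨z, by rw [hy, hz, show H + 1 = 2 * u by omega]; ring⟩
  have hζ0 : ζ ≠ 0 := by rintro rfl; exact hY0 (by rw [hζ, zero_mul])
  have hQ0 : (Q : K) ≠ 0 := by exact_mod_cast (show Q ≠ 0 by omega)
  have hQ1 : (Q : K) + 1 ≠ 0 := by exact_mod_cast (show Q + 1 ≠ 0 by omega)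
  have hH1 : (H : K) + 1 ≠ 0 := by exact_mod_cast (show H + 1 ≠ 0 by omega)
  have hH0 : (H : K) ≠ 0 := by exact_mod_cast (show H ≠ 0 by omega)
  have hYK : (Y : K) ≠ 0 := by exact_mod_cast hY0
  have hXK : (Xd : K) ≠ 0 := by exact_mod_cast hXd0
  have haK : (a : K) ≠ 0 := by exact_mod_cast ha0
  have hcK : (c : K) ≠ 0 := by exact_mod_cast hc0
  have hrK : (Q : K) = 2 * (H : K) + 1 := by exact_mod_cast hr
  have hlin : 16 * (H : K) ^ 2 * (1 / (a : K))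
      = X * (((Q : K) + 1) + ((Q : K) - 1) - 2 * ((Q : K) * ((Q : K) - 3) / ((Q : K) + 1))) := by
    linear_combination h2 + h0 - 2 * h1
  have hX : X = 2 * (H : K) ^ 2 * ((Q : K) + 1) / ((Q : K) * (a : K)) := by
    field_simp at hlin ⊢
    linear_combination (-1 / 8 : K) * hlin
  have e0 : (Q * a * (c * Y + 2 * (H + 1) ^ 2 * c + Q ^ 2 * Y) : ℤ)
      = (Q - 1) * (2 * H ^ 2 * (Q + 1)) * (c * Y) := by
    have e : (Q : K) * a * (c * Y + 2 * ((H : K) + 1) ^ 2 * c + (Q : K) ^ 2 * Y)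
        = ((Q : K) - 1) * (2 * (H : K) ^ 2 * ((Q : K) + 1)) * (c * Y) := by
      rw [hX] at h0
      field_simp at h0
      linear_combination h0
    exact_mod_cast e
  have e1 : (a * Xd * Y + H ^ 2 * (Xd * Y) + 4 * H ^ 2 * (a * Y) + (H + 1) ^ 2 * (a * Xd) : ℤ)
      = 2 * (Q - 3) * H ^ 2 * (Xd * Y) := by
    have e : (a : K) * Xd * Y + (H : K) ^ 2 * (Xd * Y) + 4 * (H : K) ^ 2 * (a * Y)
        + ((H : K) + 1) ^ 2 * (a * Xd) = 2 * ((Q : K) - 3) * (H : K) ^ 2 * (Xd * Y) := by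
      rw [hX] at h1
      field_simp at h1
      linear_combination h1
    exact_mod_cast e
  subst hζ hr
  have hcne : (2 * H + 2) * ζ + 1 ≠ 0 := by
    intro h; exact hc0 (by rw [hc]; linear_combination -h)
  have eA : (2 * H + 1) * (ζ + 1) ^ 2 * a = 4 * H ^ 3 * ζ * ((2 * H + 2) * ζ + 1) :=
    mul_left_cancel₀ (show (H + 1) * (2 * (H + 1)) ≠ 0 from
      mul_ne_zero (by omega) (mul_ne_zero two_ne_zero (by omega))) (by
      subst hc
      linear_combination -e0)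
  refine quintic (H := H) (ζ := ζ) (by omega) hζ0 ?_
  have hXd : Xd = -1 - ζ * (H + 1) - a := by linarith
  subst hXd
  have e1' : (ζ + H + 1) * (a * (-1 - ζ * (H + 1) - a))
      = -(4 * H ^ 2 * ζ * a) + (4 * H - 5) * H ^ 2 * ζ * (-1 - ζ * (H + 1) - a) :=
    mul_left_cancel₀ (show H + 1 ≠ 0 by omega) (by linear_combination e1)
  refine mul_left_cancel₀ (show H ^ 2 * ζ ≠ 0 from mul_ne_zero (pow_ne_zero 2 (by omega)) hζ0) ?_
  linear_combination -((2 * H + 1) * (ζ + 1) ^ 2) ^ 2 * e1'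
    + (-(ζ + H + 1) * (a * ((2 * H + 1) * (ζ + 1) ^ 2) + 4 * H ^ 3 * ζ * ((2 * H + 2) * ζ + 1))
      + (-(ζ + H + 1) * ((H + 1) * ζ + 1) + 4 * H ^ 2 * ζ + (4 * H - 5) * H ^ 2 * ζ)
        * ((2 * H + 1) * (ζ + 1) ^ 2)) * eA

end

end CfsgLib.Recognition.ReeCentralizer.Arith
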