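import Mathlib

/-!
# Three columns of signs with Gram matrix `2 I + J` and non-zero weights

Each column has three entries `± 1`, two columns have inner product `1` and each has weighted sum `-1`.
Two supports then meet in exactly one place with equal signs, so either the three supports have a
common place (`stdPat`) or form a triangle (`triPat`).
-/

set_option autoImplicit false

namespace CfsgLib.Recognition.ReeCentralizer

open scoped _root_.Classical

/-- Patterns of the seven rows of the standard shape. -/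
def stdPat : Fin 7 → Fin 3 → ℤ :=
  ![![1, 1, 1], ![1, 0, 0], ![1, 0, 0], ![0, 1, 0], ![0, 1, 0], ![0, 0, 1], ![0, 0, 1]]

/-- Patterns of the six rows of the triangle shape. -/
def triPat : Fin 6 → Fin 3 → ℤ :=
  ![![0, 1, 1], ![1, 0, 1], ![1, 1, 0], ![1, 0, 0], ![0, 1, 0], ![0, 0, 1]]

/-- The non-zero rows are, up to sign, the rows of `pat`, each once. -/
def HasShape {ι : Type*} {n : ℕ} (r : Fin 3 → ι → ℤ) (pat : Fin n → Fin 3 → ℤ) : Prop :=
  ∃ (f : Fin n → ι) (s : Fin n → ℤ), Function.Injective f ∧ (∀ j, s j = 1 ∨ s j = -1) ∧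
    (∀ j i, r i (f j) = s j * pat j i) ∧ ∀ χ, (∀ j, f j ≠ χ) → ∀ i, r i χ = 0

variable {ι : Type*} [Fintype ι]

theorem supp_three {c : ι → ℤ} (h : ∑ χ, c χ * c χ = 3) :
    (∀ χ, c χ = 0 ∨ c χ = 1 ∨ c χ = -1) ∧
      (Finset.univ.filter fun χ => c χ ≠ 0).card = 3 := by
  have hu : ∀ χ, c χ = 0 ∨ c χ = 1 ∨ c χ = -1 := fun χ => by
    have hle : c χ * c χ ≤ 3 := h ▸ Finset.single_le_sum (fun j _ => mul_self_nonneg (c j))
      (Finset.mem_univ χ)
    have h2 : -1 ≤ c χ ∧ c χ ≤ 1 := ⟨by nlinarith, by nlinarith⟩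
    omega
  refine ⟨hu, ?_⟩
  rw [← Finset.sum_filter_of_ne (p := fun χ => c χ ≠ 0) (fun χ _ hne h0 => hne (by rw [h0, mul_zero])),
    Finset.sum_congr rfl (g := fun _ => (1 : ℤ)) (fun χ hχ => by
      rcases hu χ with e | e | e
      · exact absurd e (Finset.mem_filter.1 hχ).2
      · rw [e]; norm_num
      · rw [e]; norm_num), Finset.sum_const, nsmul_eq_mul, mul_one] at h
  exact_mod_cast h

theorem inter_one {a b : ι → ℤ} {d : ι → ℤ} (hd : ∀ χ, d χ ≠ 0) (ha : ∑ χ, a χ * a χ = 3)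
    (hb : ∑ χ, b χ * b χ = 3) (hab : ∑ χ, a χ * b χ = 1) (hda : ∑ χ, a χ * d χ = -1)
    (hdb : ∑ χ, b χ * d χ = -1) :
    ∃ p, a p ≠ 0 ∧ b p = a p ∧ ∀ χ, a χ ≠ 0 → b χ ≠ 0 → χ = p := by
  obtain ⟨hua, hca⟩ := supp_three ha
  obtain ⟨hub, hcb⟩ := supp_three hb
  set A := Finset.univ.filter fun χ => a χ ≠ 0 with hA
  set B := Finset.univ.filter fun χ => b χ ≠ 0 with hB
  rw [← Finset.sum_subset (Finset.subset_univ (A ∩ B)) fun χ _ hχ => by
    simp only [hA, hB, Finset.mem_inter, Finset.mem_filter, Finset.mem_univ, true_and, not_and_or,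
      not_not] at hχ
    rcases hχ with h | h <;> simp [h]] at hab
  have hle : (A ∩ B).card ≤ 3 := hca ▸ Finset.card_le_card Finset.inter_subset_left
  have hmem : ∀ χ ∈ A ∩ B, (a χ = 1 ∨ a χ = -1) ∧ (b χ = 1 ∨ b χ = -1) := fun χ hχ => by
    simp only [hA, hB, Finset.mem_inter, Finset.mem_filter, Finset.mem_univ, true_and] at hχ
    exact ⟨(hua χ).resolve_left hχ.1, (hub χ).resolve_left hχ.2⟩
  have hsum : ∀ χ ∈ A ∩ B, a χ * b χ = 1 ∨ a χ * b χ = -1 := fun χ hχ => by
    rcases hmem χ hχ with ⟨h1 | h1, h2 | h2⟩ <;> simp [h1, h2]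
  rcases (by omega : (A ∩ B).card = 0 ∨ (A ∩ B).card = 1 ∨ (A ∩ B).card = 2 ∨ (A ∩ B).card = 3) with
    h | h | h | h
  · rw [Finset.card_eq_zero.1 h] at hab
    simp at hab
  · obtain ⟨p, hp⟩ := Finset.card_eq_one.1 h
    rw [hp, Finset.sum_singleton] at hab
    have hpm : p ∈ A ∩ B := hp ▸ Finset.mem_singleton_self p
    refine ⟨p, (Finset.mem_filter.1 (Finset.mem_inter.1 hpm).1).2, ?_, fun χ h1 h2 => ?_⟩
    · rcases hmem p hpm with ⟨h1 | h1, h2 | h2⟩ <;> simp_all
    · refine Finset.mem_singleton.1 (hp ▸ ?_)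
      simp [hA, hB, h1, h2]
  · obtain ⟨u, v, huv, hUV⟩ := Finset.card_eq_two.1 h
    rw [hUV, Finset.sum_pair huv] at hab
    have hu := hsum u (by rw [hUV]; simp)
    have hv := hsum v (by rw [hUV]; simp)
    omega
  · exfalso
    obtain ⟨u, v, z, huv, huz, hvz, hU⟩ := Finset.card_eq_three.1 h
    have eA : A = {u, v, z} :=
      ((Finset.eq_of_subset_of_card_le Finset.inter_subset_left (by omega)).symm.trans hU)
    have eB : B = {u, v, z} :=
      ((Finset.eq_of_subset_of_card_le Finset.inter_subset_right (by omega)).symm.trans hU)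
    rw [hU, Finset.sum_insert (by simp [huv, huz]), Finset.sum_pair hvz] at hab
    have hsub : ∀ c : ι → ℤ, (Finset.univ.filter fun χ => c χ ≠ 0) = {u, v, z} →
        ∑ χ, c χ * d χ = c u * d u + (c v * d v + c z * d z) := fun c hc => by
      rw [← Finset.sum_subset (Finset.subset_univ ({u, v, z} : Finset ι)) (fun χ _ hχ => by
        rw [← hc] at hχ
        simp only [Finset.mem_filter, Finset.mem_univ, true_and, not_not] at hχ
        rw [hχ, zero_mul]), Finset.sum_insert (by simp [huv, huz]), Finset.sum_pair hvz]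
    rw [hsub a eA] at hda
    rw [hsub b eB] at hdb
    have h' : ∀ χ ∈ ({u, v, z} : Finset ι), (a χ = 1 ∨ a χ = -1) ∧ (b χ = 1 ∨ b χ = -1) := fun χ hχ =>
      hmem χ (hU ▸ hχ)
    have hdu := hd u
    have hdv := hd v
    have hdz := hd z
    rcases h' u (by simp) with ⟨h1 | h1, h2 | h2⟩ <;>
      rcases h' v (by simp) with ⟨h3 | h3, h4 | h4⟩ <;>
      rcases h' z (by simp) with ⟨h5 | h5, h6 | h6⟩ <;>
      simp only [h1, h2, h3, h4, h5, h6] at hab hda hdb <;> omega

theorem row_shape (r : Fin 3 → ι → ℤ) (d : ι → ℤ) (hd : ∀ χ, d χ ≠ 0)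
    (hn : ∀ i, ∑ χ, r i χ * r i χ = 3) (hi : ∀ i j, i ≠ j → ∑ χ, r i χ * r j χ = 1)
    (hdeg : ∀ i, ∑ χ, r i χ * d χ = -1) : HasShape r stdPat ∨ HasShape r triPat := by
  have hu : ∀ i χ, r i χ = 0 ∨ r i χ = 1 ∨ r i χ = -1 := fun i => (supp_three (hn i)).1
  have hI := fun (i j : Fin 3) (hij : i ≠ j) =>
    inter_one hd (hn i) (hn j) (hi i j hij) (hdeg i) (hdeg j)
  obtain ⟨p, hp0, hp1, hp⟩ := hI 0 1 (by decide)
  obtain ⟨p', hp'0, hp'2, hp'⟩ := hI 0 2 (by decide)
  obtain ⟨p'', hp''1, hp''2, hp''⟩ := hI 1 2 (by decide)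
  have hne : ∀ i χ, r i χ ≠ 0 → r i χ = 1 ∨ r i χ = -1 := fun i χ h => (hu i χ).resolve_left h
  -- the other elements of the supports
  have hrest : ∀ i (P : Finset ι), (∀ χ ∈ P, r i χ ≠ 0) →
      ((Finset.univ.filter fun χ => r i χ ≠ 0) \ P).card = 3 - P.card := fun i P hP => by
    rw [Finset.card_sdiff_of_subset (fun χ hχ => Finset.mem_filter.2 ⟨Finset.mem_univ _, hP χ hχ⟩),
      (supp_three (hn i)).2]
  by_cases hpp : p = p'
  · subst hpp
    have hpp'' : p = p'' := hp'' p (by rw [hp1]; exact hp0) (by rw [hp'2]; exact hp0)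
    subst hpp''
    have hP : ∀ i, r i p = r 0 p := fun i => by fin_cases i <;> simp [hp1, hp'2]
    have h2 : ∀ i, ∃ a b, a ≠ b ∧ a ≠ p ∧ b ≠ p ∧ r i a ≠ 0 ∧ r i b ≠ 0 ∧
        ∀ χ, r i χ ≠ 0 → χ = p ∨ χ = a ∨ χ = b := fun i => by
      obtain ⟨a, b, hab, e⟩ := Finset.card_eq_two.1 (hrest i {p} (by simp [hP i, hp0]))
      have hm : ∀ χ, χ ∈ ({a, b} : Finset ι) ↔ r i χ ≠ 0 ∧ χ ≠ p := fun χ => by rw [← e]; simp
      refine ⟨a, b, hab, ((hm a).1 (by simp)).2, ((hm b).1 (by simp)).2, ((hm a).1 (by simp)).1,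
        ((hm b).1 (by simp)).1, fun χ h => ?_⟩
      by_cases hχ : χ = p
      · exact Or.inl hχ
      · simpa using Or.inr (a := χ = p) (by simpa using (hm χ).2 ⟨h, hχ⟩)
    choose a b hab hap hbp ha hb hall using h2
    have hsep : ∀ i j χ, i ≠ j → r i χ ≠ 0 → χ ≠ p → r j χ = 0 := by
      intro i j χ hij h hχ
      by_contra h'
      obtain ⟨q, hq0, -, hq⟩ := hI i j hij
      exact hχ ((hq χ h h').trans (hq p (by rw [hP i]; exact hp0) (by rw [hP j]; exact hp0)).symm)
    refine Or.inl ⟨![p, a 0, b 0, a 1, b 1, a 2, b 2],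
      ![r 0 p, r 0 (a 0), r 0 (b 0), r 1 (a 1), r 1 (b 1), r 2 (a 2), r 2 (b 2)], ?_, ?_, ?_, ?_⟩
    · intro j k h
      have hx : ∀ i i', i ≠ i' → a i ≠ a i' ∧ a i ≠ b i' ∧ b i ≠ b i' := fun i i' hii => by
        refine ⟨fun e => ?_, fun e => ?_, fun e => ?_⟩
        · exact ha i' (e ▸ hsep i i' (a i) hii (ha i) (hap i))
        · exact hb i' (e ▸ hsep i i' (a i) hii (ha i) (hap i))
        · exact hb i' (e ▸ hsep i i' (b i) hii (hb i) (hbp i))
      fin_cases j <;> fin_cases k <;> simp at h ⊢ <;>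
        first
          | exact hap _ h | exact hap _ h.symm | exact hbp _ h | exact hbp _ h.symm
          | exact hab _ h | exact hab _ h.symm
          | exact (hx _ _ (by decide)).1 h | exact (hx _ _ (by decide)).1 h.symm
          | exact (hx _ _ (by decide)).2.1 h | exact (hx _ _ (by decide)).2.1 h.symm
          | exact (hx _ _ (by decide)).2.2 h | exact (hx _ _ (by decide)).2.2 h.symm
    · intro j
      fin_cases j <;> simp <;> apply hne <;> first | exact hp0 | exact ha _ | exact hb _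
    · intro j i
      fin_cases j <;> fin_cases i <;> simp [stdPat, hp1, hp'2] <;>
        first
          | exact hsep _ _ _ (by decide) (ha _) (hap _)
          | exact hsep _ _ _ (by decide) (hb _) (hbp _)
    · intro χ hχ i
      by_contra h
      have hp0' : χ ≠ p := fun e => hχ 0 e.symm
      rcases hall i χ h with e | e | e
      · exact hp0' e
      · fin_cases i
        exacts [hχ 1 e.symm, hχ 3 e.symm, hχ 5 e.symm]
      · fin_cases i
        exacts [hχ 2 e.symm, hχ 4 e.symm, hχ 6 e.symm]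
  · -- triangle
    have hp2 : r 2 p = 0 := by
      by_contra h
      exact hpp (hp' p hp0 h)
    have hp'1 : r 1 p' = 0 := by
      by_contra h
      exact hpp (hp p' hp'0 h).symm
    have hp''0 : r 0 p'' = 0 := by
      by_contra h
      have e := hp p'' h hp''1
      exact hp''1 ((hp''2.symm.trans (e ▸ hp2)))
    have hne1 : p ≠ p'' := fun e => hp0 (e ▸ hp''0)
    have hne2 : p' ≠ p'' := fun e => hp'0 (e ▸ hp''0)
    have h3 : ∀ (i : Fin 3) (u v : ι), u ≠ v → r i u ≠ 0 → r i v ≠ 0 →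
        ∃ a, a ≠ u ∧ a ≠ v ∧ r i a ≠ 0 ∧ ∀ χ, r i χ ≠ 0 → χ = u ∨ χ = v ∨ χ = a := by
      intro i u v huv h1 h2
      obtain ⟨a, e⟩ := Finset.card_eq_one.1 ((hrest i {u, v} (by
        simp only [Finset.mem_insert, Finset.mem_singleton]
        rintro χ (rfl | rfl) <;> assumption)).trans (by rw [Finset.card_pair huv]))
      have hm : ∀ χ, χ = a ↔ r i χ ≠ 0 ∧ χ ≠ u ∧ χ ≠ v := fun χ => by
        rw [← Finset.mem_singleton, ← e]; simp
      refine ⟨a, ((hm a).1 rfl).2.1, ((hm a).1 rfl).2.2, ((hm a).1 rfl).1, fun χ h => ?_⟩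
      by_cases h4 : χ = u
      · exact Or.inl h4
      by_cases h5 : χ = v
      · exact Or.inr (Or.inl h5)
      exact Or.inr (Or.inr ((hm χ).2 ⟨h, h4, h5⟩))
    obtain ⟨a0, ha0p, ha0p', ha0, hall0⟩ := h3 0 p p' hpp hp0 hp'0
    obtain ⟨a1, ha1p, ha1p'', ha1, hall1⟩ := h3 1 p p'' hne1 (by rw [hp1]; exact hp0) hp''1
    obtain ⟨a2, ha2p', ha2p'', ha2, hall2⟩ :=
      h3 2 p' p'' hne2 (by rw [hp'2]; exact hp'0) (by rw [hp''2]; exact hp''1)
    have z01 : r 1 a0 = 0 := by_contra fun h => ha0p (hp a0 ha0 h)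
    have z02 : r 2 a0 = 0 := by_contra fun h => ha0p' (hp' a0 ha0 h)
    have z10 : r 0 a1 = 0 := by_contra fun h => ha1p (hp a1 h ha1)
    have z12 : r 2 a1 = 0 := by_contra fun h => ha1p'' (hp'' a1 ha1 h)
    have z20 : r 0 a2 = 0 := by_contra fun h => ha2p' (hp' a2 h ha2)
    have z21 : r 1 a2 = 0 := by_contra fun h => ha2p'' (hp'' a2 h ha2)
    refine Or.inr ⟨![p'', p', p, a0, a1, a2], ![r 1 p'', r 0 p', r 0 p, r 0 a0, r 1 a1, r 2 a2],
      ?_, ?_, ?_, ?_⟩
    · intro j k h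
      fin_cases j <;> fin_cases k <;> simp at h ⊢ <;>
        first
          | exact hpp h | exact hpp h.symm | exact hne1 h | exact hne1 h.symm
          | exact hne2 h | exact hne2 h.symm
          | exact ha0p h | exact ha0p h.symm | exact ha0p' h | exact ha0p' h.symm
          | exact ha1p h | exact ha1p h.symm | exact ha1p'' h | exact ha1p'' h.symm
          | exact ha2p' h | exact ha2p' h.symm | exact ha2p'' h | exact ha2p'' h.symm
          | (subst h; simp_all)
    · intro j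
      fin_cases j <;> simp <;> apply hne <;> assumption
    · intro j i
      fin_cases j <;> fin_cases i <;>
        simp [triPat, hp1, hp'2, hp''2, hp2, hp'1, hp''0, z01, z02, z10, z12, z20, z21]
    · intro χ hχ i
      by_contra h
      fin_cases i
      · rcases hall0 χ h with e | e | e
        exacts [hχ 2 e.symm, hχ 1 e.symm, hχ 3 e.symm]
      · rcases hall1 χ h with e | e | e
        exacts [hχ 2 e.symm, hχ 0 e.symm, hχ 4 e.symm]
      · rcases hall2 χ h with e | e | e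
        exacts [hχ 1 e.symm, hχ 0 e.symm, hχ 5 e.symm]

end CfsgLib.Recognition.ReeCentralizer
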