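import Cfsg.Agent.Lib.Recognition.ReeCentralizer.CaseData
import Cfsg.Agent.Lib.Recognition.ReeCentralizer.RowShape

/-!
# From the two row patterns to the shapes of the endgame
-/

set_option autoImplicit false

namespace CfsgLib.Recognition.ReeCentralizer.CaseData

open scoped _root_.Classical

universe u v

variable {ι : Type u} [Fintype ι] {Ω : Type v} {Q H u ord : ℤ} {X : ℂ} (S : CaseData ι Ω Q H u ord X)

theorem shape_pos (hpos : ∀ i χ, 0 ≤ S.r i χ) {n : ℕ} {pat : Fin n → Fin 3 → ℤ}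
    (hpat : ∀ j, ∃ i, pat j i = 1) (h : HasShape (fun i χ => if χ = S.o then 0 else S.r i χ) pat) :
    ∃ f : Fin n → ι, Function.Injective f ∧ (∀ j, f j ≠ S.o) ∧ (∀ j i, S.r i (f j) = pat j i) ∧
      ∀ χ, χ ≠ S.o → (∀ j, f j ≠ χ) → ∀ i, S.r i χ = 0 := by
  obtain ⟨f, s, hf, hs, hr, hout⟩ := h
  have hne : ∀ j, f j ≠ S.o := fun j e => by
    obtain ⟨i, hi⟩ := hpat j
    have h1 := hr j i
    simp only [e, if_true, hi, mul_one] at h1
    rcases hs j with h2 | h2 <;> omega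
  have hs1 : ∀ j, s j = 1 := fun j => by
    obtain ⟨i, hi⟩ := hpat j
    have h1 := hr j i
    simp only [hne j, if_false, hi, mul_one] at h1
    have := hpos i (f j)
    rcases hs j with h2 | h2 <;> omega
  refine ⟨f, hf, hne, fun j i => ?_, fun χ hχ hχ' i => ?_⟩
  · have h1 := hr j i
    simp only [hne j, if_false, hs1 j, one_mul] at h1
    exact h1
  · have h1 := hout χ hχ' i
    simp only [hχ, if_false] at h1
    exact h1

theorem shape_of_stdPat (hpos : ∀ i χ, 0 ≤ S.r i χ)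
    (h : HasShape (fun i χ => if χ = S.o then 0 else S.r i χ) stdPat) :
    ∃ z a a' c c', S.Standard z a a' c c' := by
  obtain ⟨f, hf, hne, hr, hout⟩ := S.shape_pos hpos (fun j => by
    fin_cases j <;> first | exact ⟨0, rfl⟩ | exact ⟨1, rfl⟩ | exact ⟨2, rfl⟩) h
  have hrow : ∀ j, S.Row (f j) (stdPat j 0) (stdPat j 1) (stdPat j 2) := fun j => ⟨hr j 0, hr j 1, hr j 2⟩
  have hgal : ∀ j, (j = 3 ∨ j = 4) → ∃ k, (k = 5 ∨ k = 6) ∧ S.gal (f j) = f k := by
    intro j hj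
    have r0 : S.r 0 (S.gal (f j)) = stdPat j 0 := (S.gal_r0 _).trans (hr j 0)
    have r2 : S.r 2 (S.gal (f j)) = stdPat j 1 := (S.gal_r2 _).trans (hr j 1)
    have hno : S.gal (f j) ≠ S.o := fun e => hne j (S.gal.injective (e.trans S.gal_o.symm))
    obtain ⟨k, hk⟩ : ∃ k, f k = S.gal (f j) := by
      by_contra hc
      push Not at hc
      have := hout _ hno hc 2
      rcases hj with rfl | rfl <;> simp [r2, stdPat] at this
    refine ⟨k, ?_, hk.symm⟩
    rw [← hk, hr] at r0 r2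
    rcases hj with rfl | rfl <;> fin_cases k <;> simp [stdPat] at r0 r2 ⊢
  obtain ⟨k, hk, hkg⟩ := hgal 3 (Or.inl rfl)
  obtain ⟨l, hl, hlg⟩ := hgal 4 (Or.inr rfl)
  have hkl : k ≠ l := fun e =>
    absurd (hf (S.gal.injective (hkg.trans ((congrArg f e).trans hlg.symm)))) (by decide)
  refine ⟨f 0, f 3, f 4, f 1, f 2, ?_, hrow 0, hrow 3, hrow 4, hrow 1, hrow 2, fun χ hχ i => ?_⟩
  · have hnd : ([0, 3, 4, k, l, 1, 2] : List (Fin 7)).Nodup := by
      rcases hk with rfl | rfl <;> rcases hl with rfl | rfl <;>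
        first | exact absurd rfl hkl | decide
    have := hnd.map hf
    simp only [List.map_cons, List.map_nil] at this
    rw [hkg, hlg]
    refine List.nodup_cons.2 ⟨?_, this⟩
    simp [fun j => (hne j).symm]
  · rw [hkg, hlg] at hχ
    refine hout χ (fun e => hχ (by simp [e])) (fun j e => hχ ?_) i
    have key : ∀ k l j : Fin 7, (k = 5 ∨ k = 6) → (l = 5 ∨ l = 6) → k ≠ l →
        j ∈ ([0, 3, 4, k, l, 1, 2] : List (Fin 7)) := by decide
    have hj := key k l j hk hl hkl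
    have := List.mem_map_of_mem (f := f) hj
    simp only [List.map_cons, List.map_nil, e] at this
    exact List.mem_cons_of_mem _ this

theorem shape_of_triPat (hpos : ∀ i χ, 0 ≤ S.r i χ)
    (h : HasShape (fun i χ => if χ = S.o then 0 else S.r i χ) triPat) :
    ∃ a c x y, S.Triangle a c x y := by
  obtain ⟨f, hf, hne, hr, hout⟩ := S.shape_pos hpos (fun j => by
    fin_cases j <;> first | exact ⟨0, rfl⟩ | exact ⟨1, rfl⟩ | exact ⟨2, rfl⟩) h
  have hrow : ∀ j, S.Row (f j) (triPat j 0) (triPat j 1) (triPat j 2) := fun j => ⟨hr j 0, hr j 1, hr j 2⟩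
  have hgal : ∀ j k, ((j = 4 ∧ k = 5) ∨ (j = 2 ∧ k = 1)) → S.gal (f j) = f k := by
    intro j k hjk
    have r0 : S.r 0 (S.gal (f j)) = triPat j 0 := (S.gal_r0 _).trans (hr j 0)
    have r1 : S.r 1 (S.gal (f j)) = triPat j 2 := (S.gal_r1 _).trans (hr j 2)
    have r2 : S.r 2 (S.gal (f j)) = triPat j 1 := (S.gal_r2 _).trans (hr j 1)
    have hno : S.gal (f j) ≠ S.o := fun e => hne j (S.gal.injective (e.trans S.gal_o.symm))
    obtain ⟨l, hl⟩ : ∃ l, f l = S.gal (f j) := by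
      by_contra hc
      push Not at hc
      have := hout _ hno hc 2
      rcases hjk with ⟨rfl, -⟩ | ⟨rfl, -⟩ <;> simp [r2, triPat] at this
    rw [← hl, hr] at r0 r1 r2
    rw [← hl]
    congr 1
    rcases hjk with ⟨rfl, rfl⟩ | ⟨rfl, rfl⟩ <;> fin_cases l <;> simp [triPat] at r0 r1 r2 ⊢
  refine ⟨f 4, f 3, f 0, f 2, ?_, hrow 4, hrow 3, hrow 0, hrow 2, fun χ hχ i => ?_⟩
  · have hnd : ([4, 5, 3, 0, 2, 1] : List (Fin 6)).Nodup := by decide
    have := hnd.map hf
    simp only [List.map_cons, List.map_nil] at this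
    rw [hgal 4 5 (Or.inl ⟨rfl, rfl⟩), hgal 2 1 (Or.inr ⟨rfl, rfl⟩)]
    refine List.nodup_cons.2 ⟨?_, this⟩
    simp [fun j => (hne j).symm]
  · rw [hgal 4 5 (Or.inl ⟨rfl, rfl⟩), hgal 2 1 (Or.inr ⟨rfl, rfl⟩)] at hχ
    refine hout χ (fun e => hχ (by simp [e])) (fun j e => hχ ?_) i
    have hj : j ∈ ([4, 5, 3, 0, 2, 1] : List (Fin 6)) := (by decide : ∀ i : Fin 6, i ∈ ([4, 5, 3, 0, 2, 1] : List (Fin 6))) j
    have := List.mem_map_of_mem (f := f) hj
    simp only [List.map_cons, List.map_nil, e] at this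
    exact List.mem_cons_of_mem _ this

end CfsgLib.Recognition.ReeCentralizer.CaseData
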