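import Cfsg.Agent.Lib.Recognition.ReeCentralizer.CaseTools
import Cfsg.Agent.Lib.Recognition.ReeCentralizer.Arith

/-!
# The endgame for seven rows

A test function of norm three is `-a - gal a + e` or `-x + U + V`.  In the first case the equations have no
solution.  In the second the functions form a sunflower with centre `U`, whose value at `t` vanishes
modulo `u`, and the proportionality of the count contradicts the congruence for its degree.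
-/

set_option autoImplicit false
set_option linter.unusedSectionVars false

namespace CfsgLib.Recognition.ReeCentralizer.CaseData

open scoped _root_.Classical

universe u v

section Vectors

variable {ι : Type u} {O : Finset ι}

theorem small_of_norm_two {v : ι → ℤ} (h : ∑ χ ∈ O, v χ * v χ = 2) {χ : ι} (hχ : χ ∈ O) :
    v χ = 0 ∨ v χ = 1 ∨ v χ = -1 := by
  have h1 := sq_le_sum (v := v) hχ
  rcases small_of_sq_le (x := v χ) (by omega) with ⟨e, -⟩ | ⟨e, -⟩ | ⟨e, -⟩ <;> simp [e]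

/-- The second unit of a vector of norm two. -/
theorem second_unit {v : ι → ℤ} (h : ∑ χ ∈ O, v χ * v χ = 2) {U : ι} (hU : U ∈ O) {s : ℤ} (hs : v U = s)
    (hs1 : s * s = 1) :
    ∃ P ∈ O, P ≠ U ∧ v P * v P = 1 ∧ (∀ w : ι → ℤ, ∑ χ ∈ O, v χ * w χ = s * w U + v P * w P) ∧
      ∀ χ ∈ O, χ ≠ U → χ ≠ P → v χ = 0 := by
  subst hs
  obtain ⟨P, hP, hP1, h0⟩ := one_unit (two_units hU hs1 h)
  obtain ⟨hPU, hPO⟩ := Finset.mem_erase.1 hP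
  refine ⟨P, hPO, hPU, hP1, fun w => ?_, fun χ hχ h1 h2 => h0 χ (Finset.mem_erase.2 ⟨h1, hχ⟩) h2⟩
  rw [← Finset.add_sum_erase O _ hU, Finset.sum_eq_single_of_mem P hP fun χ hχ hne => by
    rw [h0 χ hχ hne, zero_mul]]

theorem sum_ge_three {v : ι → ℤ} {a b c : ι} (ha : a ∈ O) (hb : b ∈ O) (hc : c ∈ O) (hab : a ≠ b)
    (hac : a ≠ c) (hbc : b ≠ c) (va : v a ≠ 0) (vb : v b ≠ 0) (vc : v c ≠ 0) :
    3 ≤ ∑ χ ∈ O, v χ * v χ := by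
  have h1 : ∀ k : ℤ, k ≠ 0 → 1 ≤ k * k := fun k hk => by
    have := mul_self_pos.2 hk; omega
  have hsub : ({a, b, c} : Finset ι) ⊆ O := by
    intro χ hχ
    simp only [Finset.mem_insert, Finset.mem_singleton] at hχ
    rcases hχ with rfl | rfl | rfl <;> assumption
  refine le_trans ?_ (Finset.sum_le_sum_of_subset_of_nonneg hsub fun χ _ _ => mul_self_nonneg (v χ))
  rw [Finset.sum_insert (by simp [hab, hac]), Finset.sum_insert (by simp [hbc]), Finset.sum_singleton]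
  have := h1 _ va; have := h1 _ vb; have := h1 _ vc
  omega

/-- Two vectors share `P`, the third does not: impossible. -/
theorem no_split {f₁ f₂ f₃ : ι → ℤ} {P R : ι} {s : ℤ} (hP : P ∈ O) (hR : R ∈ O) (hs : s * s = 1)
    (n₁ : ∑ χ ∈ O, f₁ χ * f₁ χ = 2) (n₂ : ∑ χ ∈ O, f₂ χ * f₂ χ = 2) (n₃ : ∑ χ ∈ O, f₃ χ * f₃ χ = 2)
    (d₁₂ : ∑ χ ∈ O, f₁ χ * f₂ χ = 1) (d₁₃ : ∑ χ ∈ O, f₁ χ * f₃ χ = 1) (d₂₃ : ∑ χ ∈ O, f₂ χ * f₃ χ = 1)
    (p₁ : f₁ P = s) (p₂ : f₂ P = s) (p₃ : f₃ P = 0) (r₁ : f₁ R = 0) (r₂ : f₂ R = 0) (r₃ : f₃ R ≠ 0) :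
    False := by
  obtain ⟨A, hA, hAP, hA1, hAs, -⟩ := second_unit n₁ hP p₁ hs
  obtain ⟨B, hB, hBP, hB1, hBs, -⟩ := second_unit n₂ hP p₂ hs
  have hA0 : f₁ A ≠ 0 := fun e => by rw [e] at hA1; norm_num at hA1
  have hB0 : f₂ B ≠ 0 := fun e => by rw [e] at hB1; norm_num at hB1
  have h12 : f₂ A = 0 := by
    rw [hAs, p₂, hs] at d₁₂
    exact (mul_eq_zero.1 (show f₁ A * f₂ A = 0 by omega)).resolve_left hA0
  have hA3 : f₃ A ≠ 0 := fun e => by rw [hAs, p₃, e] at d₁₃; simp at d₁₃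
  have hB3 : f₃ B ≠ 0 := fun e => by rw [hBs, p₃, e] at d₂₃; simp at d₂₃
  have := sum_ge_three (v := f₃) hR hA hB (fun e => hA0 (e ▸ r₁)) (fun e => hB0 (e ▸ r₂))
    (fun e => hB0 (e ▸ h12)) r₃ hA3 hB3
  omega

/-- A vector of norm two meeting all three petals of a sunflower contains the centre. -/
theorem centre_of_meet {f₁ f₂ f₃ h : ι → ℤ} {P : ι} {s : ℤ} (hP : P ∈ O) (hs : s * s = 1)
    (n₁ : ∑ χ ∈ O, f₁ χ * f₁ χ = 2) (n₂ : ∑ χ ∈ O, f₂ χ * f₂ χ = 2) (n₃ : ∑ χ ∈ O, f₃ χ * f₃ χ = 2)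
    (d₁₂ : ∑ χ ∈ O, f₁ χ * f₂ χ = 1) (d₁₃ : ∑ χ ∈ O, f₁ χ * f₃ χ = 1) (d₂₃ : ∑ χ ∈ O, f₂ χ * f₃ χ = 1)
    (p₁ : f₁ P = s) (p₂ : f₂ P = s) (p₃ : f₃ P = s) (nh : ∑ χ ∈ O, h χ * h χ = 2)
    (e₁ : 1 ≤ ∑ χ ∈ O, f₁ χ * h χ) (e₂ : 1 ≤ ∑ χ ∈ O, f₂ χ * h χ) (e₃ : 1 ≤ ∑ χ ∈ O, f₃ χ * h χ) :
    h P = s := by
  by_contra hne
  obtain ⟨A, hA, hAP, hA1, hAs, -⟩ := second_unit n₁ hP p₁ hs
  obtain ⟨B, hB, hBP, hB1, hBs, -⟩ := second_unit n₂ hP p₂ hs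
  obtain ⟨C, hC, hCP, hC1, hCs, -⟩ := second_unit n₃ hP p₃ hs
  have hA0 : f₁ A ≠ 0 := fun e => by rw [e] at hA1; norm_num at hA1
  have hB0 : f₂ B ≠ 0 := fun e => by rw [e] at hB1; norm_num at hB1
  rw [hAs, p₂, hs] at d₁₂
  rw [hAs, p₃, hs] at d₁₃
  rw [hBs, p₃, hs] at d₂₃
  have h12 : f₂ A = 0 := (mul_eq_zero.1 (show f₁ A * f₂ A = 0 by omega)).resolve_left hA0
  have h13 : f₃ A = 0 := (mul_eq_zero.1 (show f₁ A * f₃ A = 0 by omega)).resolve_left hA0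
  have h23 : f₃ B = 0 := (mul_eq_zero.1 (show f₂ B * f₃ B = 0 by omega)).resolve_left hB0
  have hC0 : f₃ C ≠ 0 := fun e => by rw [e] at hC1; norm_num at hC1
  have hsP : s * h P ≤ 0 := by
    rcases small_of_norm_two nh hP with e | e | e <;>
      rcases Int.mul_eq_one_iff_eq_one_or_neg_one.1 hs with ⟨e', -⟩ | ⟨e', -⟩ <;> subst e' <;>
      rw [e] at hne ⊢ <;> simp at hne ⊢
  rw [hAs] at e₁
  rw [hBs] at e₂
  rw [hCs] at e₃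
  have hA3 : h A ≠ 0 := fun e => by rw [e, mul_zero] at e₁; omega
  have hB3 : h B ≠ 0 := fun e => by rw [e, mul_zero] at e₂; omega
  have hC3 : h C ≠ 0 := fun e => by rw [e, mul_zero] at e₃; omega
  have := sum_ge_three (v := h) hA hB hC (fun e => hB0 (e ▸ h12)) (fun e => hC0 (e ▸ h13))
    (fun e => hC0 (e ▸ h23)) hA3 hB3 hC3
  omega

end Vectors

variable {ι : Type u} [Fintype ι] {Ω : Type v} {Q H u ord : ℤ} {X : ℂ} (S : CaseData ι Ω Q H u ord X)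
  {a c x y : ι}

/-- The members of the triangle shape. -/
def triList (a c x y : ι) : List ι := [S.o, a, S.gal a, c, x, y, S.gal y]

theorem tri_sum (h : S.Triangle a c x y) {M : Type*} [AddCommMonoid M] (F : ι → M) :
    ∑ χ, F χ = F S.o + F a + F (S.gal a) + F c + F x + F y + F (S.gal y) +
      ∑ χ ∈ outside (S.triList a c x y), F χ := by
  rw [sum_split (l := S.triList a c x y) h.nodup F]
  simp [triList, add_assoc]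

theorem tri_T (h : S.Triangle a c x y) :
    S.T a = -H ∧ S.T c = Q ∧ S.T x = -(2 * H) ∧ S.T y = H + 1 := by
  have hQ := S.hQ
  obtain ⟨a0, a1, a2⟩ := h.row_a
  obtain ⟨c0, c1, c2⟩ := h.row_c
  obtain ⟨x0, x1, x2⟩ := h.row_x
  obtain ⟨y0, y1, y2⟩ := h.row_y
  refine ⟨?_, ?_, ?_, ?_⟩
  · rw [S.T_row a ⟨1, by omega⟩, a0, a1, a2]; ring
  · rw [S.T_row c ⟨0, by omega⟩, c0, c1, c2]; ring
  · rw [S.T_row x ⟨1, by omega⟩, x0, x1, x2]; ring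
  · rw [S.T_row y ⟨0, by omega⟩, y0, y1, y2]; linarith

theorem tri_g (h : S.Triangle a c x y) (ω : Ω) :
    S.g ω S.o = 1 ∧ S.g ω a = S.f ω a + 1 ∧ S.g ω (S.gal a) = S.f ω a + 1 ∧ S.g ω c = S.f ω c - 1 ∧
      S.g ω x = S.f ω x + 2 ∧ S.g ω y = S.f ω y ∧ S.g ω (S.gal y) = S.f ω y := by
  obtain ⟨a0, a1, a2⟩ := h.row_a
  obtain ⟨c0, c1, c2⟩ := h.row_c
  obtain ⟨x0, x1, x2⟩ := h.row_x
  obtain ⟨y0, y1, y2⟩ := h.row_y
  refine ⟨?_, ?_, ?_, ?_, ?_, ?_, ?_⟩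
  · rw [S.g_row ω _ ⟨0, by rw [S.r_o]; norm_num⟩, S.r_o, S.r_o, S.r_o, S.f_o]; norm_num
  · rw [S.g_row ω _ ⟨1, by omega⟩, a0, a1, a2]; ring
  · rw [S.g_row ω _ ⟨2, by rw [S.gal_r2]; omega⟩, S.gal_r0, S.gal_r1, S.gal_r2, a0, a1, a2, S.gal_f]; ring
  · rw [S.g_row ω _ ⟨0, by omega⟩, c0, c1, c2]; ring
  · rw [S.g_row ω _ ⟨1, by omega⟩, x0, x1, x2]; ring
  · rw [S.g_row ω _ ⟨0, by omega⟩, y0, y1, y2]; ring
  · rw [S.g_row ω _ ⟨0, by rw [S.gal_r0]; omega⟩, S.gal_r0, S.gal_r1, S.gal_r2, y0, y1, y2, S.gal_f]; ring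

theorem tri_r_sum (h : S.Triangle a c x y) {K : Type*} [CommRing K] (F : ι → K) :
    (∑ χ, (S.r 0 χ : K) * F χ = F S.o + F c + F y + F (S.gal y)) ∧
      (∑ χ, (S.r 1 χ : K) * F χ = F S.o + F a + F x + F y) := by
  obtain ⟨a0, a1, a2⟩ := h.row_a
  obtain ⟨c0, c1, c2⟩ := h.row_c
  obtain ⟨x0, x1, x2⟩ := h.row_x
  obtain ⟨y0, y1, y2⟩ := h.row_y
  constructor <;>
  · rw [S.tri_sum h, sum_outside_eq_zero fun χ hχ => by rw [h.row_out χ hχ]; simp]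
    simp [S.r_o, S.gal_r0, S.gal_r1, a0, a1, a2, c0, c1, x0, x1, y0, y1, y2]

/-- The possible test functions. -/
theorem tri_options (h : S.Triangle a c x y) (ω : Ω) :
    S.f ω c = 0 ∧ S.f ω y = 0 ∧ ((S.f ω a = -1 ∧ S.f ω x = 0) ∨ (S.f ω a = 0 ∧ S.f ω x = -1)) := by
  obtain ⟨h0, h1⟩ := S.tri_r_sum h (K := ℤ) (S.f ω)
  simp only [Int.cast_id, mul_comm _ (S.f ω _)] at h0 h1
  rw [S.f_r0, S.f_o, S.gal_f] at h0
  rw [S.f_r1, S.f_o] at h1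
  have hn := S.f_norm ω
  rw [S.tri_sum h, S.f_o, S.gal_f, S.gal_f] at hn
  have hR : 0 ≤ ∑ χ ∈ outside (S.triList a c x y), S.f ω χ * S.f ω χ :=
    Finset.sum_nonneg fun χ _ => mul_self_nonneg _
  have := mul_self_nonneg (S.f ω a)
  have := mul_self_nonneg (S.f ω c)
  have := mul_self_nonneg (S.f ω x)
  have := mul_self_nonneg (S.f ω y)
  rcases small_of_sq_le (x := S.f ω y) (by omega) with ⟨vy, vy'⟩ | ⟨vy, vy'⟩ | ⟨vy, vy'⟩ <;>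
  rcases small_of_sq_le (x := S.f ω c) (by omega) with ⟨vc, vc'⟩ | ⟨vc, vc'⟩ | ⟨vc, vc'⟩ <;>
  rcases small_of_sq_le (x := S.f ω a) (by omega) with ⟨va, va'⟩ | ⟨va, va'⟩ | ⟨va, va'⟩ <;>
  rcases small_of_sq_le (x := S.f ω x) (by omega) with ⟨vx, vx'⟩ | ⟨vx, vx'⟩ | ⟨vx, vx'⟩ <;>
  omega

theorem tri_f_rest (h : S.Triangle a c x y) (ω ω' : Ω) :
    ∑ χ, S.f ω χ * S.f ω' χ = 2 * (S.f ω a * S.f ω' a) + S.f ω c * S.f ω' c + S.f ω x * S.f ω' x +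
      2 * (S.f ω y * S.f ω' y) + ∑ χ ∈ outside (S.triList a c x y), S.f ω χ * S.f ω' χ := by
  rw [S.tri_sum h, S.f_o, S.gal_f, S.gal_f, S.gal_f, S.gal_f]; ring

/-- All test functions are of the same type. -/
theorem tri_const (h : S.Triangle a c x y) (ω₀ ω : Ω) : S.f ω a = S.f ω₀ a ∧ S.f ω x = S.f ω₀ x := by
  set O := outside (S.triList a c x y) with hO
  obtain ⟨c₀, y₀, h₀⟩ := S.tri_options h ω₀
  obtain ⟨vc, vy, hv⟩ := S.tri_options h ω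
  have hff := S.f_f ω₀ ω
  have n₀ := S.f_norm ω₀
  have n := S.f_norm ω
  rw [S.tri_f_rest h, ← hO] at hff n₀ n
  have hdot := dot_le (O := O) (S.f ω₀) (S.f ω)
  rcases h₀ with ⟨a₀, x₀⟩ | ⟨a₀, x₀⟩ <;> rcases hv with ⟨va, vx⟩ | ⟨va, vx⟩ <;>
    rw [c₀, y₀, a₀, x₀, vc, vy, va, vx] at hff <;> rw [c₀, y₀, a₀, x₀] at n₀ <;>
    rw [vc, vy, va, vx] at n <;> first | exact ⟨va.trans a₀.symm, vx.trans x₀.symm⟩ | (exfalso; omega)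

/-- The type `-a - gal a + e` is impossible. -/
theorem tri_ii (h : S.Triangle a c x y) (hI : ∀ ω, S.f ω a = -1 ∧ S.f ω x = 0) : False := by
  obtain ⟨ω⟩ := S.nonempty
  obtain ⟨va, vx⟩ := hI ω
  obtain ⟨vc, vy, -⟩ := S.tri_options h ω
  obtain ⟨ta, tc, tx, ty⟩ := S.tri_T h
  obtain ⟨dc, da⟩ := S.tri_r_sum h (K := ℤ) S.D
  simp only [Int.cast_id, S.r_D, S.D_o, S.gal_D] at dc da
  obtain ⟨h0, h1⟩ := S.tri_r_sum h (K := ℂ) fun χ => (S.T χ : ℂ) ^ 2 / (S.D χ : ℂ)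
  rw [S.count0] at h0
  rw [S.count1] at h1
  simp only [S.T_o, S.D_o, S.gal_T, S.gal_D, ta, tc, tx, ty] at h0 h1
  push_cast at h0 h1
  have hQ := S.hQ
  have hu := S.hu
  set O := outside (S.triList a c x y) with hO
  obtain ⟨go, ga, gga, gc, gx, gy, ggy⟩ := S.tri_g h ω
  rw [va] at ga gga
  rw [vc] at gc
  rw [vx] at gx
  rw [vy] at gy ggy
  have gn := S.g_norm ω
  have gT := S.g_T ω
  have gDs := S.g_D ω
  have gC := S.g_count ω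
  rw [S.tri_sum h, ← hO] at gn gT gDs gC
  simp only [go, ga, gga, gc, gx, gy, ggy, S.gal_T, S.gal_D, S.T_o, S.D_o, ta, tc, tx, ty] at gn gT gDs gC
  rw [rest_one S.D S.T (by omega), show ∑ χ ∈ O, S.g ω χ * S.T χ = 6 * H by omega,
    show ∑ χ ∈ O, S.g ω χ * S.D χ = 2 * S.D a by omega] at gC
  push_cast at gC
  have ky : 4 * u ∣ S.D y - S.T y - 4 * 0 := S.f_cong y 0 fun ω => (S.tri_options h ω).2.1
  refine Arith.caseTriangle (K := ℂ) (H := H) (u := u) (a := S.D a) (Xd := S.D x) (Y := S.D y) (c := S.D c)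
    (X := X) hQ hu S.hQ8 S.hu7 (S.D_ne y) (S.D_ne x) (S.D_ne a) (S.D_ne c) (by omega) (by omega) ?_ ?_ ?_ ?_ ?_
  · rw [show S.D y = (S.D y - S.T y - 4 * 0) + (H + 1) by rw [ty]; ring]
    exact dvd_add ((dvd_mul_left u 4).trans ky) ⟨2, by omega⟩
  · have := S.D_mod y; rwa [ty] at this
  · rw [h0]; ring
  · rw [h1]; ring
  · rw [← gC]; ring

/-- The type `-x + U + V` is impossible. -/
theorem tri_i (h : S.Triangle a c x y) (hI : ∀ ω, S.f ω a = 0 ∧ S.f ω x = -1) : False := by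
  obtain ⟨ta, tc, tx, ty⟩ := S.tri_T h
  set O := outside (S.triList a c x y) with hO
  have hnf : ∀ ω, ∑ χ ∈ O, S.f ω χ * S.f ω χ = 2 := fun ω => by
    have n := S.f_norm ω
    obtain ⟨vc, vy, -⟩ := S.tri_options h ω
    rw [S.tri_f_rest h, (hI ω).1, (hI ω).2, vc, vy, ← hO] at n
    omega
  have hgv : ∀ ω, ∑ χ ∈ O, S.g ω χ * S.g ω χ = 2 := fun ω => by
    have n := S.g_norm ω
    obtain ⟨vc, vy, -⟩ := S.tri_options h ω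
    obtain ⟨go, ga, gga, gc, gx, gy, ggy⟩ := S.tri_g h ω
    rw [S.tri_sum h, go, ga, gga, gc, gx, gy, ggy, (hI ω).1, (hI ω).2, vc, vy, ← hO] at n
    omega
  have hfg : ∀ ω ω', ∑ χ ∈ O, S.f ω χ * S.g ω' χ = 1 := fun ω ω' => by
    have n := S.f_g ω ω'
    obtain ⟨vc, vy, -⟩ := S.tri_options h ω
    obtain ⟨go, ga, gga, gc, gx, gy, ggy⟩ := S.tri_g h ω'
    rw [S.tri_sum h, S.f_o, S.gal_f, S.gal_f, gx, (hI ω).1, (hI ω).2, (hI ω').2, vc, vy, ← hO] at n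
    simp only [zero_mul] at n
    omega
  have hff : ∀ ω ω', ∑ χ, S.f ω χ * S.f ω' χ = 1 + ∑ χ ∈ O, S.f ω χ * S.f ω' χ := fun ω ω' => by
    obtain ⟨vc, vy, -⟩ := S.tri_options h ω
    rw [S.tri_f_rest h, (hI ω).1, (hI ω).2, (hI ω').2, vc, vy, ← hO]
    ring
  obtain ⟨ω₀⟩ := S.nonempty
  obtain ⟨ω₁, ω₂, hg₁, hg₂, d₀₁, d₀₂, d₁₂⟩ := S.orbit ω₀
  rw [hff] at d₀₁ d₀₂ d₁₂
  have e₀ : ∑ χ ∈ O, S.f ω₀ χ * S.f ω₁ χ = 1 := by omega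
  have e₁ : ∑ χ ∈ O, S.f ω₀ χ * S.f ω₂ χ = 1 := by omega
  have e₂ : ∑ χ ∈ O, S.f ω₁ χ * S.f ω₂ χ = 1 := by omega
  -- the two units of `g ω₀`
  obtain ⟨P, hP, hP0⟩ := Finset.exists_ne_zero_of_sum_ne_zero (hgv ω₀ ▸ two_ne_zero)
  obtain ⟨s, hs⟩ : ∃ s, S.g ω₀ P = s := ⟨_, rfl⟩
  have hs1 : s * s = 1 := by
    rcases small_of_norm_two (hgv ω₀) hP with e | e | e
    · rw [e] at hP0; simp at hP0
    all_goals rw [← hs, e]; norm_num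
  obtain ⟨R, hR, -, hR1, hsum, -⟩ := second_unit (hgv ω₀) hP hs hs1
  have hchoice : ∀ ω, S.g ω = S.g ω₀ →
      (S.f ω P = s ∧ S.f ω R = 0) ∨ (S.f ω P = 0 ∧ S.f ω R = S.g ω₀ R) := by
    intro ω hω
    have h1 := hfg ω ω₀
    simp only [mul_comm (S.f ω _)] at h1
    rw [hsum] at h1
    rcases small_of_norm_two (hnf ω) hP with e | e | e <;>
      rcases small_of_norm_two (hnf ω) hR with e' | e' | e' <;>
      rcases Int.mul_eq_one_iff_eq_one_or_neg_one.1 hs1 with ⟨q, -⟩ | ⟨q, -⟩ <;>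
      rcases Int.mul_eq_one_iff_eq_one_or_neg_one.1 hR1 with ⟨q', -⟩ | ⟨q', -⟩ <;>
      simp [e, e', q, q'] at h1 ⊢
  have hR0 : S.g ω₀ R ≠ 0 := fun e => by rw [e] at hR1; norm_num at hR1
  have hs0 : s ≠ 0 := fun e => by rw [e] at hs1; norm_num at hs1
  have n₀ := hnf ω₀
  have n₁ := hnf ω₁
  have n₂ := hnf ω₂
  have e₀' : ∑ χ ∈ O, S.f ω₁ χ * S.f ω₀ χ = 1 := by simpa only [mul_comm] using e₀
  have e₁' : ∑ χ ∈ O, S.f ω₂ χ * S.f ω₀ χ = 1 := by simpa only [mul_comm] using e₁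
  have e₂' : ∑ χ ∈ O, S.f ω₂ χ * S.f ω₁ χ = 1 := by simpa only [mul_comm] using e₂
  obtain ⟨U, hU, sU, hsU, p₀, p₁, p₂⟩ : ∃ U ∈ O, ∃ sU : ℤ, sU * sU = 1 ∧
      S.f ω₀ U = sU ∧ S.f ω₁ U = sU ∧ S.f ω₂ U = sU := by
    rcases hchoice ω₀ rfl with ⟨a1, a2⟩ | ⟨a1, a2⟩ <;> rcases hchoice ω₁ hg₁ with ⟨b1, b2⟩ | ⟨b1, b2⟩ <;>
      rcases hchoice ω₂ hg₂ with ⟨c1, c2⟩ | ⟨c1, c2⟩
    · exact ⟨P, hP, s, hs1, a1, b1, c1⟩
    · exact (no_split hP hR hs1 n₀ n₁ n₂ e₀ e₁ e₂ a1 b1 c1 a2 b2 (c2 ▸ hR0)).elim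
    · exact (no_split hP hR hs1 n₀ n₂ n₁ e₁ e₀ e₂' a1 c1 b1 a2 c2 (b2 ▸ hR0)).elim
    · exact (no_split hR hP hR1 n₁ n₂ n₀ e₂ e₀' e₁' b2 c2 a2 b1 c1 (a1 ▸ hs0)).elim
    · exact (no_split hP hR hs1 n₁ n₂ n₀ e₂ e₀' e₁' b1 c1 a1 b2 c2 (a2 ▸ hR0)).elim
    · exact (no_split hR hP hR1 n₀ n₂ n₁ e₁ e₀ e₂' a2 c2 b2 a1 c1 (b1 ▸ hs0)).elim
    · exact (no_split hR hP hR1 n₀ n₁ n₂ e₀ e₁ e₂ a2 b2 c2 a1 b1 (c1 ▸ hs0)).elim
    · exact ⟨R, hR, _, hR1, a2, b2, c2⟩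
  have hgU : ∀ ω, S.g ω U = sU := fun ω =>
    centre_of_meet hU hsU n₀ n₁ n₂ e₀ e₁ e₂ p₀ p₁ p₂ (hgv ω) (hfg ω₀ ω).ge (hfg ω₁ ω).ge (hfg ω₂ ω).ge
  have hfU : ∀ ω, S.f ω U = sU := fun ω => by
    have h1 : ∀ ω', 1 ≤ ∑ χ ∈ O, S.f ω' χ * S.f ω χ := fun ω' => by
      have := S.f_f ω' ω
      rw [hff] at this
      omega
    exact centre_of_meet hU hsU n₀ n₁ n₂ e₀ e₁ e₂ p₀ p₁ p₂ (hnf ω) (h1 ω₀) (h1 ω₁) (h1 ω₂)
  -- the second unit of `f ω₀`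
  obtain ⟨P', hP', hPU', hP'1, hsum', h0'⟩ := second_unit n₀ hU p₀ hsU
  obtain ⟨vc, vy, -⟩ := S.tri_options h ω₀
  have fT := S.f_T ω₀
  have fD := S.f_D ω₀
  rw [S.tri_sum h, ← hO, hsum'] at fT fD
  simp only [S.f_o, S.gal_f, (hI ω₀).1, (hI ω₀).2, vc, vy, tx] at fT fD
  have hfc := S.f_count ω₀
  rw [S.tri_sum h, ← hO] at hfc
  rw [← Finset.add_sum_erase O _ hU, sum_one_unit (Finset.mem_erase.2 ⟨hPU', hP'⟩)
    (fun χ hχ hne => h0' χ (Finset.mem_of_mem_erase hχ) (Finset.ne_of_mem_erase hχ) hne), p₀,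
    unit_mul_div hsU, unit_mul_div hP'1] at hfc
  simp only [S.f_o, S.gal_f, (hI ω₀).1, (hI ω₀).2, vc, vy, tx] at hfc
  obtain ⟨a₁, ha₁⟩ : ∃ a₁, sU * S.T U = a₁ := ⟨_, rfl⟩
  obtain ⟨b₁, hb₁⟩ : ∃ b₁, sU * S.D U = b₁ := ⟨_, rfl⟩
  rw [ha₁, hb₁, show S.f ω₀ P' * S.T P' = -(2 * H) - a₁ by omega,
    show S.f ω₀ P' * S.D P' = S.D x - b₁ by omega] at hfc
  push_cast at hfc
  have hb0 : (b₁ : ℂ) ≠ 0 := by
    rw [← hb₁]
    exact_mod_cast mul_ne_zero (fun e => by rw [e] at hsU; norm_num at hsU) (S.D_ne U)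
  have hx0 : (S.D x : ℂ) ≠ 0 := by exact_mod_cast S.D_ne x
  have hxb : (S.D x : ℂ) - (b₁ : ℂ) ≠ 0 := by
    have h1 : S.f ω₀ P' * S.D P' = S.D x - b₁ := by omega
    exact_mod_cast h1 ▸ mul_ne_zero (fun e => by rw [e] at hP'1; norm_num at hP'1) (S.D_ne P')
  have key : a₁ * S.D x + 2 * H * b₁ = 0 := by
    have e : ((a₁ : ℂ) * (S.D x : ℂ) + 2 * (H : ℂ) * b₁) ^ 2 = 0 := by
      field_simp at hfc
      linear_combination hfc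
    exact_mod_cast pow_eq_zero_iff two_ne_zero |>.1 e
  have k1 : 4 * u ∣ S.D U - S.T U - 4 * sU := S.f_cong U sU hfU
  have k2 : 4 * u ∣ S.D U + 3 * S.T U - 4 * sU := S.g_cong U sU hgU
  have hua : u ∣ a₁ := by
    rw [← ha₁]
    refine Dvd.dvd.mul_left ((mul_dvd_mul_iff_left (show (4 : ℤ) ≠ 0 by norm_num)).1 ?_) _
    rw [show 4 * S.T U = (S.D U + 3 * S.T U - 4 * sU) - (S.D U - S.T U - 4 * sU) by ring]
    exact dvd_sub k2 k1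
  have hub : u ∣ b₁ - 4 := by
    rw [show b₁ - 4 = sU * (S.D U - S.T U - 4 * sU) + a₁ by
      rw [← ha₁, ← hb₁]; linear_combination 4 * hsU]
    exact dvd_add (((dvd_mul_left u 4).trans k1).mul_left _) hua
  have hu8 : u ∣ 8 := by
    have h2 : u ∣ 2 * H * b₁ := by
      rw [show 2 * H * b₁ = -(a₁ * S.D x) by linarith]
      exact (hua.mul_right _).neg_right
    rw [show (8 : ℤ) = (4 * u) * b₁ - 2 * H * b₁ - 2 * (b₁ - 4) by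
      linear_combination b₁ * S.hu - b₁ * S.hQ]
    exact dvd_sub (dvd_sub ((dvd_mul_left u 4).mul_right _) h2) (hub.mul_left _)
  have hu7 := S.hu7
  have hQ8 := S.hQ8
  have hu' := S.hu
  have := Int.le_of_dvd (by norm_num) (abs_dvd_abs u 8 |>.2 hu8)
  rcases hu7 with h7 | h7
  · have : u ≤ 8 := le_trans (le_abs_self u) (by simpa using this)
    obtain rfl : u = 7 := by omega
    norm_num at hu8
  · have : -u ≤ 8 := le_trans (neg_le_abs u) (by simpa using this)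
    obtain rfl : u = -7 := by omega
    norm_num at hu8

/-- **Seven rows: impossible.** -/
theorem triangle (h : S.Triangle a c x y) : False := by
  obtain ⟨ω₀⟩ := S.nonempty
  obtain ⟨-, -, h₀⟩ := S.tri_options h ω₀
  rcases h₀ with ⟨a₀, x₀⟩ | ⟨a₀, x₀⟩
  · exact S.tri_ii h fun ω => ⟨(S.tri_const h ω₀ ω).1.trans a₀, (S.tri_const h ω₀ ω).2.trans x₀⟩
  · exact S.tri_i h fun ω => ⟨(S.tri_const h ω₀ ω).1.trans a₀, (S.tri_const h ω₀ ω).2.trans x₀⟩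

end CfsgLib.Recognition.ReeCentralizer.CaseData
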