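import Cfsg.Agent.Lib.Recognition.ReeCentralizer.CaseStandard
import Cfsg.Agent.Lib.Recognition.ReeCentralizer.CaseTriangle

/-!
# The endgame: the order is that of a Ree group
-/

set_option autoImplicit false

namespace CfsgLib.Recognition.ReeCentralizer.CaseData

universe u v

variable {ι : Type u} [Fintype ι] {Ω : Type v} {Q H u ord : ℤ} {X : ℂ}

/-- **The endgame.**  `Q` is an odd power of three and `ord` the order of the Ree group. -/
theorem endgame (S : CaseData ι Ω Q H u ord X) {p e : ℕ} (hp : p.Prime) (hQp : Q.natAbs = p ^ e)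
    (hshape : (∃ z a a' c c', S.Standard z a a' c c') ∨ (∃ a c x y, S.Triangle a c x y)) :
    p = 3 ∧ Odd e ∧ Q = (p : ℤ) ^ e ∧ ord = Q ^ 3 * (Q ^ 3 + 1) * (Q - 1) := by
  rcases hshape with ⟨z, a, a', c, c', h⟩ | ⟨a, c, x, y, h⟩
  · obtain ⟨hord, m, hm⟩ := S.standard hp hQp h
    obtain ⟨h3, he, hQ⟩ := Arith.odd_power_of_three hp hQp hm
    exact ⟨h3, he, hQ, hord⟩
  · exact (S.triangle h).elim

end CfsgLib.Recognition.ReeCentralizer.CaseData
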