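import Cfsg.Agent.Lib.Recognition.ReeCentralizer.TorusSection
import Cfsg.Agent.Lib.Recognition.ReeCentralizer.Cases
import Cfsg.Agent.Lib.Recognition.ReeCentralizer.CaseShape
import Cfsg.Agent.Lib.Char.FewSylow.Cubed

/-!
# Assembly: from the rows of the principal block to the order of the Ree group

`ree_order_of_rows` signs the irreducible characters by their rows, fills the numerical data of the
endgame from the test functions on the torus and reads off the result.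
-/

set_option autoImplicit false
set_option linter.unusedSectionVars false
set_option linter.style.haveILetI false

namespace CfsgLib.Recognition.ReeCentralizer

open Subgroup Cfsg
open scoped _root_.Classical ComplexConjugate

universe u v

/-- The rows of a shape with non-negative patterns have constant sign. -/
theorem HasShape.sign {ι : Type*} {n : ℕ} {r : Fin 3 → ι → ℤ} {pat : Fin n → Fin 3 → ℤ}
    (hpat : ∀ j i, 0 ≤ pat j i) (h : HasShape r pat) (χ : ι) : (∀ i, 0 ≤ r i χ) ∨ ∀ i, r i χ ≤ 0 := by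
  obtain ⟨f, s, -, hs, hr, hout⟩ := h
  by_cases hχ : ∀ j, f j ≠ χ
  · exact Or.inl fun i => (hout χ hχ i).ge
  push Not at hχ
  obtain ⟨j, rfl⟩ := hχ
  rcases hs j with e | e
  · exact Or.inl fun i => by rw [hr, e, one_mul]; exact hpat j i
  · exact Or.inr fun i => by rw [hr, e]; linarith [hpat j i]

/-- Changing the sign of each row keeps the shape. -/
theorem HasShape.scale {ι : Type*} {n : ℕ} {r : Fin 3 → ι → ℤ} {pat : Fin n → Fin 3 → ℤ}
    (h : HasShape r pat) {s : ι → ℤ} (hs : ∀ χ, s χ = 1 ∨ s χ = -1) :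
    HasShape (fun i χ => s χ * r i χ) pat := by
  obtain ⟨f, s', hf, hs', hr, hout⟩ := h
  refine ⟨f, fun j => s (f j) * s' j, hf, fun j => ?_, fun j i => ?_, fun χ hχ i => ?_⟩
  · rcases hs (f j) with a | a <;> rcases hs' j with b | b <;> simp [a, b]
  · simp only [hr]; ring
  · simp only [hout χ hχ i, mul_zero]

variable {G : Type u} [Group G] [Fintype G] {F : Type v} [Field F] [Fintype F] {t : G} {w : ℕ}
  {V W : Subgroup G} {s x : G}

set_option maxHeartbeats 1000000 in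
/-- **From the rows to the order of the Ree group.** -/
theorem Frame.ree_order_of_rows (Fr : Frame G t w V W s x) (S : Setting G F t) {p v : ℕ} {ε : ℤ}
    (B : PBlock (PSL F) p (Fintype.card F) w v ε)
    (r : Fin 3 → IrrCharacter G → ℤ) (d T : IrrCharacter G → ℤ)
    (hd : ∀ χ : IrrCharacter G, χ.1 1 = d χ) (hT : ∀ χ : IrrCharacter G, χ.1 t = T χ)
    (hr : ∀ i (χ : IrrCharacter G), classInner χ.1 (S.lift (B.phi i)) = r i χ)
    (hTrow : ∀ χ : IrrCharacter G, (∃ i, r i χ ≠ 0) →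
      T χ = -ε * (Fintype.card F : ℤ) * r 0 χ - (-ε * (Fintype.card F : ℤ) - 1) / 2 * (r 1 χ + r 2 χ))
    (hsect : ∀ χ : IrrCharacter G, (∃ i, r i χ ≠ 0) → ∀ y ∈ W, y ≠ 1 →
      χ.1 (t * y) = ((r 1 χ + r 2 χ - r 0 χ : ℤ) : ℂ))
    (hmod : ∀ χ, 8 ∣ d χ - T χ)
    (hcount : ∀ i : Fin 3, ∑ χ : IrrCharacter G, (r i χ : ℂ) * (χ.1 t ^ 2 / χ.1 1) =
      ![-(ε : ℂ) * (Fintype.card F : ℂ) - 1,
        -(ε : ℂ) * (Fintype.card F : ℂ) * (-(ε : ℂ) * (Fintype.card F : ℂ) - 3) / (-(ε : ℂ) * (Fintype.card F : ℂ) + 1),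
        -(ε : ℂ) * (Fintype.card F : ℂ) * (-(ε : ℂ) * (Fintype.card F : ℂ) - 3) / (-(ε : ℂ) * (Fintype.card F : ℂ) + 1)] i *
        (-(ε : ℂ) * (Nat.card (centralizer ({t} : Set G)) : ℂ) ^ 2 / Nat.card G))
    (σ : ℂ ≃+* ℂ) (hσ : ∀ z : ℂ, z ^ w = 1 → σ z = z) (π : Equiv.Perm (IrrCharacter G))
    (hπ : ∀ χ g, (π χ).1 g = σ (χ.1 g))
    (hπ0 : ∀ χ, r 0 (π χ) = r 0 χ) (hπ1 : ∀ χ, r 1 (π χ) = r 2 χ) (hπ2 : ∀ χ, r 2 (π χ) = r 1 χ)
    (hshape : HasShape (fun i χ => if χ.1 = (fun _ => (1 : ℂ)) then 0 else r i χ) stdPat ∨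
      HasShape (fun i χ => if χ.1 = (fun _ => (1 : ℂ)) then 0 else r i χ) triPat) :
    ∃ m : ℕ, 1 ≤ m ∧ Fintype.card F = 3 ^ (2 * m + 1) ∧
      Nat.card G = (3 ^ (2 * m + 1)) ^ 3 * ((3 ^ (2 * m + 1)) ^ 3 + 1) * (3 ^ (2 * m + 1) - 1) := by
  have hε : ε = 1 ∨ ε = -1 := B.sign
  have hεε : ε * ε = 1 := by rcases hε with rfl | rfl <;> norm_num
  have hεC : (ε : ℂ) * (ε : ℂ) = 1 := by exact_mod_cast hεε
  set Q : ℤ := -ε * (Fintype.card F : ℤ) with hQdef
  set u : ℤ := -ε * (w : ℤ) with hudef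
  have hlarge : 11 ≤ Fintype.card F := S.large
  have hwq := B.hw
  obtain ⟨kw, hkw⟩ := B.odd_w
  have hw1 : 1 < w := by rcases hε with rfl | rfl <;> omega
  have hw7 := Fr.one_lt_w_imp_seven_le hw1
  have hu : Q + 1 = 4 * u := by rw [hQdef, hudef]; linear_combination (-ε) * hwq - hεε
  have hQ8 : Q % 8 = 3 := by rcases hε with rfl | rfl <;> omega
  have hu7 : 7 ≤ u ∨ u ≤ -7 := by rcases hε with rfl | rfl <;> omega
  have hQH : Q = 2 * ((Q - 1) / 2) + 1 := by omega
  -- the centralizer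
  have hC : (Nat.card (centralizer ({t} : Set G)) : ℤ) = (Fintype.card F : ℤ) * ((Fintype.card F : ℤ) ^ 2 - 1) := by
    have h := CfsgLib.Char.FewSylow.card_psl_two (F := F)
    rw [Nat.gcd_eq_left (show 2 ∣ Fintype.card F - 1 by
      obtain ⟨k, hk⟩ := S.odd_card; exact ⟨k, by omega⟩)] at h
    have h1 : ((2 * Nat.card (PSL F) : ℕ) : ℤ) = ((Fintype.card F * ((Fintype.card F - 1) * (Fintype.card F + 1)) : ℕ) : ℤ) := by rw [h]
    rw [S.card_centralizer, h1]
    push_cast [show 1 ≤ Fintype.card F by omega]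
    ring
  set X : ℂ := -(ε : ℂ) * (Nat.card (centralizer ({t} : Set G)) : ℂ) ^ 2 / Nat.card G with hXdef
  set ord : ℤ := -ε * (Nat.card G : ℤ) with horddef
  have hQC : (Q : ℂ) = -(ε : ℂ) * (Fintype.card F : ℂ) := by rw [hQdef]; push_cast; ring
  have hord : X * (ord : ℂ) = (Q : ℂ) ^ 2 * ((Q : ℂ) ^ 2 - 1) ^ 2 := by
    have hG : (Nat.card G : ℂ) ≠ 0 := by exact_mod_cast Nat.card_pos.ne'
    have hC' : (Nat.card (centralizer ({t} : Set G)) : ℂ) = (Fintype.card F : ℂ) * ((Fintype.card F : ℂ) ^ 2 - 1) := by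
      exact_mod_cast hC
    rw [hXdef, horddef, hQC, hC', div_mul_eq_mul_div, div_eq_iff hG]
    push_cast
    rw [show ((-(ε : ℂ) * Fintype.card F) ^ 2) = (Fintype.card F : ℂ) ^ 2 by linear_combination (Fintype.card F : ℂ) ^ 2 * hεC]
    linear_combination (Fintype.card F : ℂ) ^ 2 * ((Fintype.card F : ℂ) ^ 2 - 1) ^ 2 * (Nat.card G : ℂ) * hεC
  have hcent : Q * (Q ^ 2 - 1) ∣ ord := by
    have e : Q * (Q ^ 2 - 1) = -ε * (Nat.card (centralizer ({t} : Set G)) : ℤ) := by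
      rw [hC, hQdef]; linear_combination (-ε * (Fintype.card F : ℤ) ^ 3) * hεε
    rw [e, horddef]
    exact mul_dvd_mul_left _ (by exact_mod_cast Subgroup.card_subgroup_dvd_card _)
  -- the signs
  set sg : IrrCharacter G → ℤ := fun χ => if ∃ i, r i χ < 0 then -1 else 1 with hsg
  have hsg1 : ∀ χ, sg χ = 1 ∨ sg χ = -1 := fun χ => by simp only [hsg]; split_ifs <;> simp
  have hsg2 : ∀ χ, sg χ * sg χ = 1 := fun χ => by rcases hsg1 χ with e | e <;> simp [e]
  have hsgπ : ∀ χ, sg (π χ) = sg χ := fun χ => by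
    simp only [hsg]
    refine if_congr ?_ rfl rfl
    simp only [Fin.exists_fin_succ, Fin.succ_zero_eq_one, Fin.succ_one_eq_two, IsEmpty.exists_iff,
      or_false, hπ0, hπ1, hπ2]
    tauto
  have hmul : ∀ (a b : IrrCharacter G → ℤ),
      ∑ χ, (sg χ * a χ) * (sg χ * b χ) = ∑ χ, a χ * b χ := fun a b =>
    Finset.sum_congr rfl fun χ _ => by linear_combination (a χ * b χ) * hsg2 χ
  have hdiv : ∀ (a : IrrCharacter G → ℤ) χ,
      ((sg χ * a χ : ℤ) : ℂ) * (((sg χ * T χ : ℤ) : ℂ) ^ 2 / ((sg χ * d χ : ℤ) : ℂ)) =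
        (a χ : ℂ) * (χ.1 t ^ 2 / χ.1 1) := fun a χ => by
    rw [hT, hd]
    rcases hsg1 χ with e | e <;> rw [e] <;> push_cast <;> ring
  let o : IrrCharacter G := ⟨fun _ => 1, Char.isIrrCharacter_one⟩
  have ho : o.1 = fun _ => (1 : ℂ) := rfl
  have hro : ∀ i, r i o = 1 := fun i => by
    have h := hr i o
    rw [S.classInner_lift (Char.IsIrrCharacter.isClassFunction o.2)] at h
    have e : classInner (fun _ : PSL F => (1 : ℂ)) (B.phi i) = 1 := by
      simp only [PBlock.phi, Char.classInner_sub_right, Char.classInner_smul_right,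
        Char.classInner_irr_self Char.isIrrCharacter_one,
        Char.classInner_irr_ne Char.isIrrCharacter_one (B.chi i).2 (B.chi_ne_one i).symm, mul_zero, sub_zero]
    rw [show S.sect o.1 = fun _ : PSL F => (1 : ℂ) from rfl, e] at h
    exact_mod_cast h.symm
  have hdo : d o = 1 := by exact_mod_cast (show (1 : ℂ) = (d o : ℂ) from hd o).symm
  have hTo : T o = 1 := by exact_mod_cast (show (1 : ℂ) = (T o : ℂ) from hT o).symm
  have hsgo : sg o = 1 := by simp [hsg, hro]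
  have hrD : ∀ i, ∑ χ, r i χ * d χ = 0 := fun i => by
    have hcl := S.isClassFunction_lift (B.phi i)
    have h1 := congrFun (Char.IsClassFunction.eq_sum_irr hcl) 1
    rw [S.lift_one] at h1
    simp only [Finset.sum_apply, Pi.smul_apply, smul_eq_mul] at h1
    have e : ((∑ χ, r i χ * d χ : ℤ) : ℂ) = 0 := by
      push_cast
      rw [h1]
      refine Finset.sum_congr rfl fun χ _ => ?_
      rw [← Char.classInner_conj_symm χ.1 (S.lift (B.phi i)), hr, map_intCast, hd]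
    exact_mod_cast e
  have hπd : ∀ χ, d (π χ) = d χ := fun χ => by
    have h := hd (π χ); rw [hπ, hd, map_intCast] at h; exact_mod_cast h.symm
  have hπT : ∀ χ, T (π χ) = T χ := fun χ => by
    have h := hT (π χ); rw [hπ, hT, map_intCast] at h; exact_mod_cast h.symm
  have hπo : π o = o := Subtype.ext (funext fun g => by rw [hπ]; exact map_one σ)
  obtain ⟨μ, hμ⟩ := Fr.exists_mu
  obtain ⟨ω₀, hω₀⟩ := Fr.exists_omega hw1
  let D : CaseData (IrrCharacter G) {ω : ↥W →* ℂˣ // ω ≠ 1} Q ((Q - 1) / 2) u ord X :=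
  { D := fun χ => sg χ * d χ
    T := fun χ => sg χ * T χ
    r := fun i χ => sg χ * r i χ
    o := o
    gal := π
    f := fun ω χ => sg χ * Fr.coef μ ω.1 χ
    g := fun ω χ => sg χ * Fr.coef 1 ω.1 χ
    hQ := hQH
    hu := hu
    hQ8 := hQ8
    hu7 := hu7
    hord := hord
    hcent := hcent
    D_ne := fun χ => mul_ne_zero (fun e => by rcases hsg1 χ with h | h <;> rw [e] at h <;> norm_num at h)
      (fun e => Char.IsIrrCharacter.apply_one_ne_zero χ.2 (by rw [hd, e]; simp))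
    D_dvd := fun χ => by
      obtain ⟨n, hn, hdvd⟩ := Char.IsIrrCharacter.apply_one_dvd_card χ.2
      have e : d χ = n := by rw [hd] at hn; exact_mod_cast hn
      have h1 : d χ ∣ ord := by rw [e, horddef]; exact (Int.natCast_dvd_natCast.2 hdvd).mul_left _
      rcases hsg1 χ with h | h <;> rw [h]
      · rwa [one_mul]
      · rwa [neg_one_mul, neg_dvd]
    D_mod := fun χ => by rw [← mul_sub]; exact (hmod χ).mul_left _
    D_o := by rw [hsgo, hdo]; norm_num
    T_o := by rw [hsgo, hTo]; norm_num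
    r_o := fun i => by rw [hsgo, hro]; norm_num
    T_row := fun χ ⟨i, hi⟩ => by
      rw [hTrow χ ⟨i, fun e => hi (by rw [e, mul_zero])⟩]; ring
    g_row := fun ω χ ⟨i, hi⟩ => by
      rw [Fr.coef_diff hμ ω.2 (hsect χ ⟨i, fun e => hi (by rw [e, mul_zero])⟩)]; ring
    gal_D := fun χ => by rw [hsgπ, hπd]
    gal_T := fun χ => by rw [hsgπ, hπT]
    gal_r0 := fun χ => by rw [hsgπ, hπ0]
    gal_r1 := fun χ => by rw [hsgπ, hπ1]
    gal_r2 := fun χ => by rw [hsgπ, hπ2]
    gal_f := fun ω χ => by rw [hsgπ, Fr.coef_map hσ μ ω.1 (hπ χ)]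
    gal_o := hπo
    r_D := fun i => by rw [hmul, hrD]
    count0 := by
      simp only [hdiv]
      rw [hcount 0, hQC]; rfl
    count1 := by
      simp only [hdiv]
      rw [hcount 1, hQC]; rfl
    f_o := fun ω => by rw [Fr.coef_trivial μ ω.2 ho, if_neg hμ, mul_zero]
    f_norm := fun ω => by rw [hmul, Fr.coef_norm hw1 hμ ω.2]
    g_norm := fun ω => by rw [hmul, Fr.coef_one_norm hw1 ω.2]
    f_f := fun ω ω' => by rw [hmul]; exact Fr.coef_inner hw1 hμ ω.2 ω'.2
    f_g := fun ω ω' => by rw [hmul, Fr.coef_orth hw1 hμ ω.2 ω'.2]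
    f_r0 := fun ω => by rw [hmul, Fr.sum_coef_row S B 0 μ ω.2 (hr 0)]; simp
    f_r1 := fun ω => by rw [hmul, Fr.sum_coef_row S B 1 μ ω.2 (hr 1), if_neg hμ]; simp
    f_D := fun ω => by rw [hmul, Fr.sum_coef_deg μ ω.1 hd]
    f_T := fun ω => by rw [hmul, Fr.sum_coef_val μ ω.1 hT]
    f_count := fun ω => by
      simp only [hdiv]
      rw [Fr.sum_coef_sq_div μ ω.2, if_neg hμ]
    g_D := fun ω => by rw [hmul, Fr.sum_coef_deg 1 ω.1 hd]
    g_T := fun ω => by rw [hmul, Fr.sum_coef_val 1 ω.1 hT]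
    g_count := fun ω => by
      simp only [hdiv]
      rw [Fr.sum_coef_sq_div 1 ω.2, if_pos rfl, hXdef]
      have e : (Q : ℂ) + 1 = 4 * (-(ε : ℂ) * (w : ℂ)) := by
        have := congrArg (fun z : ℤ => (z : ℂ)) hu
        simpa [hudef] using this
      rw [e]
      linear_combination (-4 * (w : ℂ) * ((Nat.card (centralizer ({t} : Set G)) : ℂ) ^ 2 / Nat.card G)) * hεC
    nonempty := ⟨⟨ω₀, hω₀⟩⟩
    orbit := fun ω => by
      obtain ⟨ω₁, ω₂, h1, h2, e1, e2, d1, d2, d3⟩ := Fr.coef_orbit hw1 hμ ω.2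
      exact ⟨⟨ω₁, h1⟩, ⟨ω₂, h2⟩, by simp only [e1], by simp only [e2], by rw [hmul, d1],
        by rw [hmul, d2], by rw [hmul, d3]⟩
    f_cong := fun χ m hm => by
      have h := Fr.coef_dvd hμ (m := sg χ * m) (hd χ) (hT χ) fun ω hω => by
        rw [← hm ⟨ω, hω⟩, ← mul_assoc, hsg2, one_mul]
      have h' := h.mul_left (sg χ)
      have e : 4 * u ∣ 4 * (w : ℤ) := ⟨-ε, by rw [hudef]; linear_combination (-4 * (w : ℤ)) * hεε⟩
      rw [show sg χ * d χ - sg χ * T χ - 4 * m = sg χ * (d χ - T χ - 4 * (sg χ * m)) by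
        linear_combination (4 * m) * hsg2 χ]
      exact e.trans h'
    g_cong := fun χ m hm => by
      have h := Fr.coef_one_dvd (m := sg χ * m) (hd χ) (hT χ) fun ω hω => by
        rw [← hm ⟨ω, hω⟩, ← mul_assoc, hsg2, one_mul]
      have h' := h.mul_left (sg χ)
      have e : 4 * u ∣ 4 * (w : ℤ) := ⟨-ε, by rw [hudef]; linear_combination (-4 * (w : ℤ)) * hεε⟩
      rw [show sg χ * d χ + 3 * (sg χ * T χ) - 4 * m = sg χ * (d χ + 3 * T χ - 4 * (sg χ * m)) by
        linear_combination (4 * m) * hsg2 χ]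
      exact e.trans h' }
  -- the shape of the signed rows
  have hiff : ∀ χ : IrrCharacter G, χ.1 = (fun _ => (1 : ℂ)) ↔ χ = o := fun χ =>
    ⟨fun h => Subtype.ext h, fun h => h ▸ ho⟩
  have hfun : (fun (i : Fin 3) (χ : IrrCharacter G) => sg χ * if χ.1 = (fun _ => (1 : ℂ)) then 0 else r i χ) =
      fun i χ => if χ = o then 0 else sg χ * r i χ := by
    funext i χ
    by_cases h : χ = o
    · rw [if_pos h, if_pos ((hiff χ).2 h), mul_zero]
    · rw [if_neg h, if_neg (mt (hiff χ).1 h)]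
  have hpat : (∀ j i, 0 ≤ stdPat j i) ∧ ∀ j i, 0 ≤ triPat j i := by decide
  have hsame : ∀ χ, (∀ i, 0 ≤ r i χ) ∨ ∀ i, r i χ ≤ 0 := fun χ => by
    by_cases h : χ.1 = (fun _ => (1 : ℂ))
    · exact Or.inl fun i => by rw [(hiff χ).1 h, hro]; norm_num
    · rcases hshape with hs | hs
      · simpa [h] using hs.sign hpat.1 χ
      · simpa [h] using hs.sign hpat.2 χ
  have hpos : ∀ i χ, 0 ≤ D.r i χ := fun i χ => by
    show 0 ≤ sg χ * r i χ
    by_cases hneg : ∃ j, r j χ < 0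
    · obtain ⟨j, hj⟩ := hneg
      simp only [hsg, if_pos (⟨j, hj⟩ : ∃ j, r j χ < 0)]
      rcases hsame χ with h | h
      · linarith [h j]
      · linarith [h i]
    · simp only [hsg, if_neg hneg, one_mul]
      push Not at hneg
      exact hneg i
  have hshape' : (∃ z a a' c c', D.Standard z a a' c c') ∨ ∃ a c x y, D.Triangle a c x y := by
    rcases hshape with hs | hs
    · refine Or.inl (D.shape_of_stdPat hpos ?_)
      have := hs.scale hsg1
      rw [hfun] at this; convert this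
    · refine Or.inr (D.shape_of_triPat hpos ?_)
      have := hs.scale hsg1
      rw [hfun] at this; convert this
  obtain ⟨f, hf⟩ := B.q_pow
  have hQp : Q.natAbs = p ^ f := by
    rw [hQdef, Int.natAbs_mul, Int.natAbs_neg, Int.natAbs_natCast, hf]
    rcases hε with rfl | rfl <;> simp
  obtain ⟨rfl, ⟨m, rfl⟩, hQpow, hordv⟩ := CaseData.endgame D B.prime hQp hshape'
  rcases hε with rfl | rfl
  · exfalso
    have : (0 : ℤ) < (3 : ℤ) ^ (2 * m + 1) := by positivity
    rw [hQdef] at hQpow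
    push_cast at hQpow
    nlinarith [hlarge, hQdef, hQpow, this]
  refine ⟨m, ?_, hf, ?_⟩
  · by_contra hm0
    obtain rfl : m = 0 := by omega
    norm_num at hf
    omega
  · have e : Q = (Fintype.card F : ℤ) := by rw [hQdef]; ring
    rw [horddef, e] at hordv
    have h1 : 1 ≤ 3 ^ (2 * m + 1) := Nat.one_le_pow _ _ (by norm_num)
    have hv' : (Nat.card G : ℤ) = (((3 ^ (2 * m + 1)) ^ 3 * ((3 ^ (2 * m + 1)) ^ 3 + 1) * (3 ^ (2 * m + 1) - 1) : ℕ) : ℤ) := by
      rw [hf] at hordv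
      push_cast [h1] at hordv ⊢
      linarith
    exact_mod_cast hv'

end CfsgLib.Recognition.ReeCentralizer
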