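import Mathlib

/-!
# Abelian Sylow 2-subgroups and an involution centralizer `2 × PSL₂(q)`: the setting

`Q = - ε q`, `H = (Q - 1) / 2`, `w = |Q + 1| / 4` for `q ≡ ε (mod 4)`.  `Setting` is the hypothesis of
the theorem for `q ≡ 3, 5 (mod 8)`, `q ≥ 11`; `Frame` collects what the local analysis gives about
a four group `V ∋ t` and the torus `W = O(C(V))`.
-/

set_option autoImplicit false

namespace CfsgLib.Recognition.ReeCentralizer

universe u v

open Subgroup

/-- The sign of `q` modulo 4. -/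
def epsQ (q : ℕ) : ℤ := if q % 4 = 3 then -1 else 1

/-- `Q = - ε q`, always `≡ 3 (mod 8)` for `q ≡ 3, 5 (mod 8)`. -/
def bigQ (q : ℕ) : ℤ := -epsQ q * q

/-- `H = (Q - 1) / 2`. -/
def halfQ (q : ℕ) : ℤ := (bigQ q - 1) / 2

/-- The odd order `w = (q - ε) / 4` of the torus. -/
def torusOrder (q : ℕ) : ℕ := if q % 4 = 3 then (q + 1) / 4 else (q - 1) / 4

/-- The hypothesis of the theorem in the main case. -/
structure Setting (G : Type u) [Group G] (F : Type v) [Field F] [Fintype F] (t : G) where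
  t2 : orderOf t = 2
  abelian : ∀ P : Sylow 2 G, ∀ a b : P, a * b = b * a
  iso : (centralizer ({t} : Set G)) ≃*
    Multiplicative (ZMod 2) × Matrix.ProjectiveSpecialLinearGroup (Fin 2) F
  mod_eight : Fintype.card F % 8 = 3 ∨ Fintype.card F % 8 = 5
  large : 11 ≤ Fintype.card F

/-- The local data: a four group `V ∋ t`, the odd cyclic group `W` centralised by it, an involution
`s` inverting `W`, an element `x` of order 3 rotating `V` and acting without fixed points on `W`. -/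
structure Frame (G : Type u) [Group G] (t : G) (w : ℕ) (V W : Subgroup G) (s x : G) : Prop where
  card_V : Nat.card V = 4
  sq_V : ∀ v ∈ V, v * v = 1
  t_mem : t ∈ V
  card_W : Nat.card W = w
  cyclic_W : IsCyclic W
  odd_w : Odd w
  comm_VW : ∀ v ∈ V, ∀ y ∈ W, Commute v y
  s2 : orderOf s = 2
  s_V : ∀ v ∈ V, Commute s v
  s_W : ∀ y ∈ W, s * y * s⁻¹ = y⁻¹
  x3 : orderOf x = 3
  x_V : ∀ v ∈ V, x * v * x⁻¹ ∈ V
  x_move : x * t * x⁻¹ ≠ t
  x_s : Commute x s
  x_W : ∀ y ∈ W, x * y * x⁻¹ ∈ W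
  x_fpf : ∀ y ∈ W, x * y * x⁻¹ = y → y = 1
  conj_inv : ∀ g : G, orderOf g = 2 → IsConj t g
  cent : ∀ y ∈ W, y ≠ 1 → centralizer ({y} : Set G) = V ⊔ W
  ti : ∀ g : G, ∀ y ∈ W, y ≠ 1 → g * y * g⁻¹ ∈ W → g ∈ normalizer (W : Set G)
  normalizer_eq : normalizer (W : Set G) = V ⊔ W ⊔ zpowers x ⊔ zpowers s
  card_normalizer : Nat.card (normalizer (W : Set G)) = 24 * w

end CfsgLib.Recognition.ReeCentralizer
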