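import Cfsg.Agent.Lib.Recognition.ReeCentralizer.Section
import Cfsg.Agent.Lib.Blocks.SectionSums
import Cfsg.Agent.Lib.Blocks.PCentralizer
import Cfsg.Agent.Lib.Char.Orth
import Cfsg.Agent.S0936

/-!
# Centralizer `2 × PSL₂(q)` of an involution: principal blocks on the section

The irreducible characters of `C(t)` are the `ψ ∘ proj` and their products with `sgn`; such a
character lies in the principal block exactly when `ψ` does.  By the second and third main theorems
a character in the principal block of `G` is, on the section, the part of `sect χ` in the principal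
block of `L`, and this part vanishes for the other characters.
-/

set_option autoImplicit false
set_option linter.unusedSectionVars false
set_option linter.style.haveILetI false

namespace CfsgLib.Recognition.ReeCentralizer

open Subgroup Cfsg CfsgLib.Blocks
open scoped _root_.Classical ComplexConjugate

universe u v

variable {G : Type u} [Group G] [Fintype G] {F : Type v} [Field F] [Fintype F] {t : G}

namespace Setting

variable (S : Setting G F t)
include S

/-- `ψ ∘ proj`, or its product with `sgn`. -/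
noncomputable def infl (ψ : IrrCharacter (PSL F)) (b : Bool) :
    IrrCharacter ↥(centralizer ({t} : Set G)) :=
  if b then ⟨_, Char.IsIrrCharacter.mul_hom
      (Char.IsIrrCharacter.comp_surjective ψ.2 S.proj S.proj_surjective) S.sgn⟩
    else ⟨_, Char.IsIrrCharacter.comp_surjective ψ.2 S.proj S.proj_surjective⟩

theorem infl_inj (ψ : IrrCharacter (PSL F)) (b : Bool) (y : PSL F) :
    (S.infl ψ b).1 ⟨S.inj y, S.inj_mem y⟩ = ψ.1 y := by
  cases b <;> simp [infl, S.proj_inj, S.sgn_inj]

theorem infl_tinj (ψ : IrrCharacter (PSL F)) (b : Bool) (y : PSL F) :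
    (S.infl ψ b).1 ⟨t * S.inj y, S.tinj_mem y⟩ = (if b then -1 else 1) * ψ.1 y := by
  cases b <;> simp [infl, S.proj_tinj, S.sgn_tinj]

theorem infl_one (ψ : IrrCharacter (PSL F)) (b : Bool) : (S.infl ψ b).1 1 = ψ.1 1 := by
  have h : (1 : ↥(centralizer ({t} : Set G))) = ⟨S.inj 1, S.inj_mem 1⟩ := Subtype.ext (map_one _).symm
  rw [h, S.infl_inj]

theorem infl_injective :
    Function.Injective fun p : IrrCharacter (PSL F) × Bool => S.infl p.1 p.2 := by
  rintro ⟨ψ, b⟩ ⟨ψ', b'⟩ h
  have h1 : ψ = ψ' := Subtype.ext (funext fun y => by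
    have := congrArg (fun ξ : IrrCharacter ↥(centralizer ({t} : Set G)) =>
      ξ.1 ⟨S.inj y, S.inj_mem y⟩) h
    simpa [S.infl_inj] using this)
  subst h1
  refine Prod.ext rfl ?_
  have := congrArg (fun ξ : IrrCharacter ↥(centralizer ({t} : Set G)) =>
    ξ.1 ⟨t * S.inj 1, S.tinj_mem 1⟩) h
  simp only [S.infl_tinj, mul_eq_mul_right_iff, irr_one_ne_zero, or_false] at this
  cases b <;> cases b' <;> simp_all <;> norm_num at this

theorem infl_surjective :
    Function.Surjective fun p : IrrCharacter (PSL F) × Bool => S.infl p.1 p.2 := by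
  intro ξ
  by_contra hξ
  have hsub : Finset.univ.image (fun p : IrrCharacter (PSL F) × Bool => S.infl p.1 p.2) ⊆
      Finset.univ.erase ξ := by
    intro η hη
    obtain ⟨p, -, rfl⟩ := Finset.mem_image.1 hη
    exact Finset.mem_erase.2 ⟨fun e => hξ ⟨p, e⟩, Finset.mem_univ _⟩
  have hdeg : ∀ η : IrrCharacter ↥(centralizer ({t} : Set G)),
      η.1 1 ^ 2 = (((charDegree η.1) ^ 2 : ℕ) : ℂ) := fun η => by rw [irr_one_eq]; push_cast; rfl
  have hdegL : ∀ η : IrrCharacter (PSL F),
      η.1 1 ^ 2 = (((charDegree η.1) ^ 2 : ℕ) : ℂ) := fun η => by rw [irr_one_eq]; push_cast; rfl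
  have hle := Finset.sum_le_sum_of_subset hsub
    (f := fun η : IrrCharacter ↥(centralizer ({t} : Set G)) => charDegree η.1 ^ 2)
  rw [Finset.sum_image (S.infl_injective.injOn)] at hle
  have hlt : ∑ η ∈ Finset.univ.erase ξ, charDegree η.1 ^ 2 <
      ∑ η : IrrCharacter ↥(centralizer ({t} : Set G)), charDegree η.1 ^ 2 :=
    Finset.sum_erase_lt_of_pos (Finset.mem_univ ξ) (pow_pos (charDegree_pos ξ) 2)
  have hC := CfsgLib.Char.sum_sq_apply_one (G := ↥(centralizer ({t} : Set G)))
  have hL := CfsgLib.Char.sum_sq_apply_one (G := PSL F)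
  simp only [hdeg] at hC
  simp only [hdegL] at hL
  have hC' : ∑ η : IrrCharacter ↥(centralizer ({t} : Set G)), charDegree η.1 ^ 2 =
      2 * Nat.card (PSL F) := by rw [← S.card_centralizer]; exact_mod_cast hC
  have hL' : ∑ η : IrrCharacter (PSL F), charDegree η.1 ^ 2 = Nat.card (PSL F) := by exact_mod_cast hL
  have hpair : ∑ p : IrrCharacter (PSL F) × Bool, charDegree (S.infl p.1 p.2).1 ^ 2 =
      2 * Nat.card (PSL F) := by
    rw [Fintype.sum_prod_type, ← hL', Finset.mul_sum]
    refine Finset.sum_congr rfl fun ψ _ => ?_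
    have e : ∀ b, charDegree (S.infl ψ b).1 = charDegree ψ.1 := fun b => by
      simp only [charDegree, S.infl_one]
    simp [e, two_mul]
  rw [hpair] at hle
  rw [hC'] at hlt
  omega

theorem centralizer_inj (y : PSL F) :
    centralizer ({⟨S.inj y, S.inj_mem y⟩} : Set ↥(centralizer ({t} : Set G))) =
      (centralizer ({y} : Set (PSL F))).comap S.proj := by
  ext c
  simp only [mem_centralizer_singleton_iff, Subgroup.mem_comap]
  constructor
  · intro h
    have := congrArg S.proj h
    simpa [S.proj_inj] using this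
  · intro h
    refine S.iso.injective (Prod.ext ?_ ?_)
    · simp [S.iso_inj]
    · simpa [S.iso_inj, proj] using h

theorem centralChar_infl (ψ : IrrCharacter (PSL F)) (b : Bool) (y : PSL F) :
    centralChar (S.infl ψ b).1 ⟨S.inj y, S.inj_mem y⟩ = centralChar ψ.1 y := by
  rw [centralChar, centralChar, S.centralizer_inj, Subgroup.index_comap_of_surjective _ S.proj_surjective,
    S.infl_inj, S.infl_one]

theorem not_two_dvd_iff {y : PSL F} :
    ¬ 2 ∣ orderOf (⟨S.inj y, S.inj_mem y⟩ : ↥(centralizer ({t} : Set G))) ↔ Odd (orderOf y) := by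
  rw [← Subgroup.orderOf_coe]
  show ¬ 2 ∣ orderOf (S.inj y) ↔ _
  rw [orderOf_injective S.inj S.inj_injective, ← Nat.not_even_iff_odd, even_iff_two_dvd]

variable {M : Ideal AlgInt} (hM : IsPModular 2 M)
include hM

theorem sameBlock_infl (ψ ψ' : IrrCharacter (PSL F)) (b b' : Bool) :
    SameBlock M (S.infl ψ b).1 (S.infl ψ' b').1 ↔ SameBlock M ψ.1 ψ'.1 := by
  constructor
  · intro h
    refine sameBlock_of_regular hM fun y hy => ?_
    rw [← S.centralChar_infl ψ b y, ← S.centralChar_infl ψ' b' y]
    exact h _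
  · intro h
    refine sameBlock_of_regular hM fun c hc => ?_
    obtain ⟨y, hcy, -⟩ := S.exists_eq_inj c.2 (Nat.not_even_iff_odd.1 fun he =>
      hc (by rwa [← Subgroup.orderOf_coe, ← even_iff_two_dvd]))
    have : c = ⟨S.inj y, S.inj_mem y⟩ := Subtype.ext hcy
    rw [this, S.centralChar_infl, S.centralChar_infl]
    exact h _

theorem infl_mem_iff (ψ : IrrCharacter (PSL F)) (b : Bool) :
    S.infl ψ b ∈ principalBlock M ↥(centralizer ({t} : Set G)) ↔ ψ ∈ principalBlock M (PSL F) := by
  have h1 : (S.infl (trivChar (PSL F)) false).1 = fun _ => (1 : ℂ) := by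
    funext c
    simp [infl, trivChar_apply]
  show SameBlock M (fun _ => (1 : ℂ)) (S.infl ψ b).1 ↔ SameBlock M (fun _ => (1 : ℂ)) ψ.1
  rw [← h1, S.sameBlock_infl hM]
  rfl

/-- The part of the principal block of `C(t)` of the section of a character. -/
theorem blockPart_eq (χ : IrrCharacter G) (y : PSL F) :
    blockPart (principalBlock M ↥(centralizer ({t} : Set G)))
        (fun c : ↥(centralizer ({t} : Set G)) => χ.1 (t * (c : G))) ⟨S.inj y, S.inj_mem y⟩ =
      ∑ ψ ∈ (principalBlock M (PSL F)).toFinset, classInner (S.sect χ.1) ψ.1 * ψ.1 y := by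
  rw [blockPart, Subsingleton.elim (Fintype.ofFinite ↥(centralizer ({t} : Set G))) inferInstance,
    finsum_mem_eq_toFinset_sum]
  have himg : (principalBlock M ↥(centralizer ({t} : Set G))).toFinset =
      ((principalBlock M (PSL F)).toFinset ×ˢ (Finset.univ : Finset Bool)).image
        (fun p => S.infl p.1 p.2) := by
    ext ξ
    obtain ⟨⟨ψ, b⟩, rfl⟩ := S.infl_surjective ξ
    simp only [Set.mem_toFinset, S.infl_mem_iff hM, Finset.mem_image, Finset.mem_product,
      Finset.mem_univ, and_true]
    refine ⟨fun h => ⟨(ψ, b), h, rfl⟩, ?_⟩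
    rintro ⟨p, hp, hp'⟩
    have : p = (ψ, b) := S.infl_injective hp'
    rwa [this] at hp
  rw [himg, Finset.sum_image S.infl_injective.injOn, Finset.sum_product]
  refine Finset.sum_congr rfl fun ψ _ => ?_
  rw [Fintype.sum_bool]
  simp only [S.infl_inj, ← add_mul]
  congr 1
  simp only [classInner, S.sum_centralizer, S.infl_inj, S.infl_tinj, S.card_centralizer, sect]
  push_cast
  simp only [mul_add, Finset.mul_sum, ← Finset.sum_add_distrib]
  refine Finset.sum_congr rfl fun z _ => ?_
  simp only [Bool.false_eq_true, if_false, if_true, map_mul, map_neg, map_one]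
  field_simp
  ring

/-- In the principal block the section is the part of `sect χ` in the principal block of `L`. -/
theorem sect_eq_sum {χ : IrrCharacter G} (hχ : χ ∈ principalBlock M G) {y : PSL F}
    (hy : Odd (orderOf y)) :
    S.sect χ.1 y =
      ∑ ψ ∈ (principalBlock M (PSL F)).toFinset, classInner (S.sect χ.1) ψ.1 * ψ.1 y := by
  haveI : Fact (Nat.Prime 2) := ⟨Nat.prime_two⟩
  have hC : IsClassFunction ↥(centralizer ({t} : Set G)) (fun c => χ.1 (t * (c : G))) := by
    intro c w
    have hw : (w : G) * t = t * (w : G) := mem_centralizer_singleton_iff.1 w.2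
    show χ.1 (t * ((w : G) * (c : G) * (w : G)⁻¹)) = χ.1 (t * (c : G))
    rw [← mul_assoc, ← mul_assoc, ← hw, mul_assoc (w : G) t (c : G), irr_conj_apply]
  rw [← S.blockPart_eq hM χ y, blockPart,
    Subsingleton.elim (Fintype.ofFinite ↥(centralizer ({t} : Set G))) inferInstance,
    finsum_mem_eq_toFinset_sum]
  set T := fun ξ : IrrCharacter ↥(centralizer ({t} : Set G)) =>
    classInner (fun c : ↥(centralizer ({t} : Set G)) => χ.1 (t * (c : G))) ξ.1 *
      ξ.1 ⟨S.inj y, S.inj_mem y⟩ with hT
  have h1 : S.sect χ.1 y = ∑ ξ, T ξ := by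
    show (fun c : ↥(centralizer ({t} : Set G)) => χ.1 (t * (c : G))) ⟨S.inj y, S.inj_mem y⟩ = _
    conv_lhs => rw [CfsgLib.Char.IsClassFunction.eq_sum_irr hC]
    simp [hT]
  rw [h1, ← Finset.sum_add_sum_compl (principalBlock M ↥(centralizer ({t} : Set G))).toFinset T,
    add_eq_left, ← Finset.sum_fiberwise _ (fun ξ => blockOf M ξ.1) T]
  refine Finset.sum_eq_zero fun b _ => ?_
  by_cases hb : ∃ ξ₀ : IrrCharacter ↥(centralizer ({t} : Set G)),
      blockOf M ξ₀.1 = b ∧ ξ₀ ∉ principalBlock M ↥(centralizer ({t} : Set G))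
  · obtain ⟨ξ₀, rfl, hξ₀⟩ := hb
    have hnot : ¬ IsInducedBlock M (centralizer ({t} : Set G)) (blockOf M ξ₀.1) (principalBlock M G) := by
      intro hind
      have := (Cfsg.Agent.S0936.result 2 M hM (centralizer ({t} : Set G)) _ ⟨_, hind⟩).1 hind
      exact hξ₀ (this ▸ SameBlock_refl hM _)
    have h2 := blockPart_section_eq_zero hM ⟨1, by rw [pow_one]; exact S.t2⟩ isPBlock_principalBlock hχ
      (isPBlock_blockOf ξ₀) hnot (y := ⟨S.inj y, S.inj_mem y⟩) (S.not_two_dvd_iff.2 hy)
    rw [blockPart, Subsingleton.elim (Fintype.ofFinite ↥(centralizer ({t} : Set G))) inferInstance,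
      finsum_mem_eq_toFinset_sum] at h2
    refine Eq.trans ?_ h2
    refine Finset.sum_congr ?_ fun ξ _ => rfl
    ext ξ
    simp only [Finset.mem_filter, Finset.mem_compl, Set.mem_toFinset]
    constructor
    · rintro ⟨-, he⟩
      rw [← he]; exact SameBlock_refl hM _
    · intro hξ
      refine ⟨fun hξp => hξ₀ ?_, (blockOf_eq_of_sameBlock hM hξ).symm⟩
      exact SameBlock_trans hM hξp (SameBlock_symm hξ)
  · push Not at hb
    refine Finset.sum_eq_zero fun ξ hξ => ?_
    simp only [Finset.mem_filter, Finset.mem_compl, Set.mem_toFinset] at hξ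
    exact absurd (hb ξ hξ.2) hξ.1

/-- Outside the principal block this part vanishes. -/
theorem sum_eq_zero {χ : IrrCharacter G} (hχ : χ ∉ principalBlock M G) {y : PSL F}
    (hy : Odd (orderOf y)) :
    ∑ ψ ∈ (principalBlock M (PSL F)).toFinset, classInner (S.sect χ.1) ψ.1 * ψ.1 y = 0 := by
  haveI : Fact (Nat.Prime 2) := ⟨Nat.prime_two⟩
  rw [← S.blockPart_eq hM χ y]
  have hb : IsPBlock M (principalBlock M ↥(centralizer ({t} : Set G))) := isPBlock_principalBlock
  have hz : ∃ k, orderOf t = 2 ^ k := ⟨1, by rw [pow_one]; exact S.t2⟩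
  obtain ⟨B₀, hind⟩ := exists_isInducedBlock_centralizer_singleton hM hz hb
  have hprin := (Cfsg.Agent.S0936.result 2 M hM _ _ ⟨B₀, hind⟩).mpr rfl
  exact blockPart_section_eq_zero hM hz (isPBlock_blockOf χ) (SameBlock_refl hM _) hb
    (fun h' => hχ (IsInducedBlock.unique hM h' hprin ▸ SameBlock_refl hM _))
    (S.not_two_dvd_iff.2 hy)

end Setting

end CfsgLib.Recognition.ReeCentralizer
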