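import Mathlib

/-!
# The numerical data of the principal block

`ι` indexes the irreducible characters of the group, with an arbitrary choice of sign for each of them:
`D` and `T` are the signed values at `1` and at `t`, `r` the signed coefficients in the three virtual
characters on the section of `t`, `f ω` and `g ω` those in the two test functions on the torus.
-/

set_option autoImplicit false

namespace CfsgLib.Recognition.ReeCentralizer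

universe u v

/-- The data of the endgame. -/
structure CaseData (ι : Type u) [Fintype ι] (Ω : Type v) (Q H u : ℤ) (ord : ℤ) (X : ℂ) where
  /-- signed degree -/
  D : ι → ℤ
  /-- signed value at `t` -/
  T : ι → ℤ
  /-- rows: coordinate `0` belongs to the Steinberg character -/
  r : Fin 3 → ι → ℤ
  /-- the trivial character -/
  o : ι
  /-- the field automorphism -/
  gal : Equiv.Perm ι
  /-- norm three -/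
  f : Ω → ι → ℤ
  /-- norm seven -/
  g : Ω → ι → ℤ
  hQ : Q = 2 * H + 1
  hu : Q + 1 = 4 * u
  hQ8 : Q % 8 = 3
  hu7 : 7 ≤ u ∨ u ≤ -7
  hord : X * (ord : ℂ) = (Q : ℂ) ^ 2 * ((Q : ℂ) ^ 2 - 1) ^ 2
  hcent : Q * (Q ^ 2 - 1) ∣ ord
  D_ne : ∀ χ, D χ ≠ 0
  D_dvd : ∀ χ, D χ ∣ ord
  D_mod : ∀ χ, 8 ∣ D χ - T χ
  D_o : D o = 1
  T_o : T o = 1
  r_o : ∀ i, r i o = 1
  T_row : ∀ χ, (∃ i, r i χ ≠ 0) → T χ = Q * r 0 χ - H * (r 1 χ + r 2 χ)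
  g_row : ∀ ω χ, (∃ i, r i χ ≠ 0) → g ω χ = f ω χ + (r 1 χ + r 2 χ - r 0 χ)
  gal_D : ∀ χ, D (gal χ) = D χ
  gal_T : ∀ χ, T (gal χ) = T χ
  gal_r0 : ∀ χ, r 0 (gal χ) = r 0 χ
  gal_r1 : ∀ χ, r 1 (gal χ) = r 2 χ
  gal_r2 : ∀ χ, r 2 (gal χ) = r 1 χ
  gal_f : ∀ ω χ, f ω (gal χ) = f ω χ
  gal_o : gal o = o
  r_D : ∀ i, ∑ χ, r i χ * D χ = 0
  count0 : ∑ χ, (r 0 χ : ℂ) * ((T χ : ℂ) ^ 2 / (D χ : ℂ)) = ((Q : ℂ) - 1) * X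
  count1 : ∑ χ, (r 1 χ : ℂ) * ((T χ : ℂ) ^ 2 / (D χ : ℂ)) = (Q : ℂ) * ((Q : ℂ) - 3) / ((Q : ℂ) + 1) * X
  f_o : ∀ ω, f ω o = 0
  f_norm : ∀ ω, ∑ χ, f ω χ * f ω χ = 3
  g_norm : ∀ ω, ∑ χ, g ω χ * g ω χ = 7
  f_f : ∀ ω ω', ∑ χ, f ω χ * f ω' χ = 2 ∨ ∑ χ, f ω χ * f ω' χ = 3
  f_g : ∀ ω ω', ∑ χ, f ω χ * g ω' χ = 0
  f_r0 : ∀ ω, ∑ χ, f ω χ * r 0 χ = 0
  f_r1 : ∀ ω, ∑ χ, f ω χ * r 1 χ = -1
  f_D : ∀ ω, ∑ χ, f ω χ * D χ = 0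
  f_T : ∀ ω, ∑ χ, f ω χ * T χ = 0
  f_count : ∀ ω, ∑ χ, (f ω χ : ℂ) * ((T χ : ℂ) ^ 2 / (D χ : ℂ)) = 0
  g_D : ∀ ω, ∑ χ, g ω χ * D χ = 0
  g_T : ∀ ω, ∑ χ, g ω χ * T χ = 0
  g_count : ∀ ω, ∑ χ, (g ω χ : ℂ) * ((T χ : ℂ) ^ 2 / (D χ : ℂ)) = ((Q : ℂ) + 1) * X
  nonempty : Nonempty Ω
  orbit : ∀ ω, ∃ ω₁ ω₂, g ω₁ = g ω ∧ g ω₂ = g ω ∧ ∑ χ, f ω χ * f ω₁ χ = 2 ∧
    ∑ χ, f ω χ * f ω₂ χ = 2 ∧ ∑ χ, f ω₁ χ * f ω₂ χ = 2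
  f_cong : ∀ χ m, (∀ ω, f ω χ = m) → 4 * u ∣ D χ - T χ - 4 * m
  g_cong : ∀ χ m, (∀ ω, g ω χ = m) → 4 * u ∣ D χ + 3 * T χ - 4 * m

namespace CaseData

variable {ι : Type u} [Fintype ι] {Ω : Type v} {Q H u ord : ℤ} {X : ℂ} (S : CaseData ι Ω Q H u ord X)

/-- The row of `χ` is `(p₀, p₁, p₂)`. -/
def Row (χ : ι) (p₀ p₁ p₂ : ℤ) : Prop := S.r 0 χ = p₀ ∧ S.r 1 χ = p₁ ∧ S.r 2 χ = p₂

/-- Eight rows `(111), (010), (001), (100)`, each twice; `gal a` and `gal a'` have rows `(001)`. -/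
structure Standard (z a a' c c' : ι) : Prop where
  nodup : [S.o, z, a, a', S.gal a, S.gal a', c, c'].Nodup
  row_z : S.Row z 1 1 1
  row_a : S.Row a 0 1 0
  row_a' : S.Row a' 0 1 0
  row_c : S.Row c 1 0 0
  row_c' : S.Row c' 1 0 0
  row_out : ∀ χ, χ ∉ [S.o, z, a, a', S.gal a, S.gal a', c, c'] → ∀ i, S.r i χ = 0

/-- Seven rows `(111), (010), (001), (100), (011), (110), (101)`. -/
structure Triangle (a c x y : ι) : Prop where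
  nodup : [S.o, a, S.gal a, c, x, y, S.gal y].Nodup
  row_a : S.Row a 0 1 0
  row_c : S.Row c 1 0 0
  row_x : S.Row x 0 1 1
  row_y : S.Row y 1 1 0
  row_out : ∀ χ, χ ∉ [S.o, a, S.gal a, c, x, y, S.gal y] → ∀ i, S.r i χ = 0

end CaseData

end CfsgLib.Recognition.ReeCentralizer
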