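import Cfsg.Agent.Lib.Recognition.ReeCentralizer.CaseTools
import Cfsg.Agent.Lib.Recognition.ReeCentralizer.Arith

/-!
# The endgame for eight rows

Every test function of norm three is `-z + c + e` or `-a - gal a + e`, the same one for all `ω`; the first
gives the order of the Ree group, the second is impossible.
-/

set_option autoImplicit false
set_option linter.unusedSectionVars false

namespace CfsgLib.Recognition.ReeCentralizer.CaseData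

open scoped _root_.Classical

universe u v

variable {ι : Type u} [Fintype ι] {Ω : Type v} {Q H u ord : ℤ} {X : ℂ} (S : CaseData ι Ω Q H u ord X)
  {z a a' c c' : ι}

/-- The members of the standard shape. -/
def stdList (z a a' c c' : ι) : List ι := [S.o, z, a, a', S.gal a, S.gal a', c, c']

theorem std_sum (h : S.Standard z a a' c c') {M : Type*} [AddCommMonoid M] (F : ι → M) :
    ∑ χ, F χ = F S.o + F z + F a + F a' + F (S.gal a) + F (S.gal a') + F c + F c' +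
      ∑ χ ∈ outside (S.stdList z a a' c c'), F χ := by
  rw [sum_split (l := S.stdList z a a' c c') h.nodup F]
  simp [stdList, add_assoc]

theorem std_swap_a (h : S.Standard z a a' c c') : S.Standard z a' a c c' := by
  have hp : [S.o, z, a', a, S.gal a', S.gal a, c, c'].Perm
      [S.o, z, a, a', S.gal a, S.gal a', c, c'] :=
    List.Perm.cons _ (List.Perm.cons _ ((List.Perm.swap a a' _).trans
      (List.Perm.cons _ (List.Perm.cons _ (List.Perm.swap _ _ _)))))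
  exact ⟨hp.nodup_iff.2 h.nodup, h.row_z, h.row_a', h.row_a, h.row_c, h.row_c',
    fun χ hχ => h.row_out χ (fun hm => hχ (hp.mem_iff.2 hm))⟩

theorem std_swap_c (h : S.Standard z a a' c c') : S.Standard z a a' c' c := by
  have hp : [S.o, z, a, a', S.gal a, S.gal a', c', c].Perm
      [S.o, z, a, a', S.gal a, S.gal a', c, c'] :=
    List.Perm.cons _ (List.Perm.cons _ (List.Perm.cons _ (List.Perm.cons _
      (List.Perm.cons _ (List.Perm.cons _ (List.Perm.swap c c' _))))))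
  exact ⟨hp.nodup_iff.2 h.nodup, h.row_z, h.row_a, h.row_a', h.row_c', h.row_c,
    fun χ hχ => h.row_out χ (fun hm => hχ (hp.mem_iff.2 hm))⟩

theorem std_T (h : S.Standard z a a' c c') :
    S.T z = 1 ∧ S.T a = -H ∧ S.T a' = -H ∧ S.T c = Q ∧ S.T c' = Q := by
  have hQ := S.hQ
  obtain ⟨z0, z1, z2⟩ := h.row_z
  obtain ⟨a0, a1, a2⟩ := h.row_a
  obtain ⟨b0, b1, b2⟩ := h.row_a'
  obtain ⟨c0, c1, c2⟩ := h.row_c
  obtain ⟨d0, d1, d2⟩ := h.row_c'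
  refine ⟨?_, ?_, ?_, ?_, ?_⟩
  · rw [S.T_row z ⟨0, by omega⟩, z0, z1, z2]; linarith
  · rw [S.T_row a ⟨1, by omega⟩, a0, a1, a2]; ring
  · rw [S.T_row a' ⟨1, by omega⟩, b0, b1, b2]; ring
  · rw [S.T_row c ⟨0, by omega⟩, c0, c1, c2]; ring
  · rw [S.T_row c' ⟨0, by omega⟩, d0, d1, d2]; ring

theorem std_g (h : S.Standard z a a' c c') (ω : Ω) :
    S.g ω S.o = 1 ∧ S.g ω z = S.f ω z + 1 ∧ S.g ω a = S.f ω a + 1 ∧ S.g ω a' = S.f ω a' + 1 ∧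
      S.g ω (S.gal a) = S.f ω a + 1 ∧ S.g ω (S.gal a') = S.f ω a' + 1 ∧
      S.g ω c = S.f ω c - 1 ∧ S.g ω c' = S.f ω c' - 1 := by
  obtain ⟨z0, z1, z2⟩ := h.row_z
  obtain ⟨a0, a1, a2⟩ := h.row_a
  obtain ⟨b0, b1, b2⟩ := h.row_a'
  obtain ⟨c0, c1, c2⟩ := h.row_c
  obtain ⟨d0, d1, d2⟩ := h.row_c'
  refine ⟨?_, ?_, ?_, ?_, ?_, ?_, ?_, ?_⟩
  · rw [S.g_row ω _ ⟨0, by rw [S.r_o]; norm_num⟩, S.r_o, S.r_o, S.r_o, S.f_o]; norm_num
  · rw [S.g_row ω _ ⟨0, by omega⟩, z0, z1, z2]; ring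
  · rw [S.g_row ω _ ⟨1, by omega⟩, a0, a1, a2]; ring
  · rw [S.g_row ω _ ⟨1, by omega⟩, b0, b1, b2]; ring
  · rw [S.g_row ω _ ⟨2, by rw [S.gal_r2]; omega⟩, S.gal_r0, S.gal_r1, S.gal_r2, a0, a1, a2, S.gal_f]; ring
  · rw [S.g_row ω _ ⟨2, by rw [S.gal_r2]; omega⟩, S.gal_r0, S.gal_r1, S.gal_r2, b0, b1, b2, S.gal_f]; ring
  · rw [S.g_row ω _ ⟨0, by omega⟩, c0, c1, c2]; ring
  · rw [S.g_row ω _ ⟨0, by omega⟩, d0, d1, d2]; ring

theorem std_r_sum (h : S.Standard z a a' c c') {K : Type*} [CommRing K] (F : ι → K) :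
    (∑ χ, (S.r 0 χ : K) * F χ = F S.o + F z + F c + F c') ∧
      (∑ χ, (S.r 1 χ : K) * F χ = F S.o + F z + F a + F a') := by
  obtain ⟨z0, z1, z2⟩ := h.row_z
  obtain ⟨a0, a1, a2⟩ := h.row_a
  obtain ⟨b0, b1, b2⟩ := h.row_a'
  obtain ⟨c0, c1, c2⟩ := h.row_c
  obtain ⟨d0, d1, d2⟩ := h.row_c'
  constructor <;>
  · rw [S.std_sum h, sum_outside_eq_zero fun χ hχ => by rw [h.row_out χ hχ]; simp]
    simp [S.r_o, S.gal_r0, S.gal_r1, z0, z1, a0, a1, a2, b0, b1, b2, c0, c1, d0, d1]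

theorem std_degrees (h : S.Standard z a a' c c') :
    1 + S.D z + S.D c + S.D c' = 0 ∧ 1 + S.D z + S.D a + S.D a' = 0 := by
  obtain ⟨h0, h1⟩ := S.std_r_sum h (K := ℤ) S.D
  simp only [Int.cast_id, S.r_D, S.D_o] at h0 h1
  exact ⟨h0.symm, h1.symm⟩

theorem std_counts (h : S.Standard z a a' c c') :
    1 + 1 / (S.D z : ℂ) + (Q : ℂ) ^ 2 * (1 / (S.D c : ℂ) + 1 / (S.D c' : ℂ)) = ((Q : ℂ) - 1) * X ∧
      1 + 1 / (S.D z : ℂ) + (H : ℂ) ^ 2 * (1 / (S.D a : ℂ) + 1 / (S.D a' : ℂ)) =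
        (Q : ℂ) * ((Q : ℂ) - 3) / ((Q : ℂ) + 1) * X := by
  obtain ⟨h0, h1⟩ := S.std_r_sum h (K := ℂ) fun χ => (S.T χ : ℂ) ^ 2 / (S.D χ : ℂ)
  obtain ⟨tz, ta, ta', tc, tc'⟩ := S.std_T h
  rw [S.count0] at h0
  rw [S.count1] at h1
  rw [h0, h1]
  simp only [S.T_o, S.D_o, tz, ta, ta', tc, tc']
  push_cast
  constructor <;> ring

/-- The possible test functions. -/
theorem std_options (h : S.Standard z a a' c c') (ω : Ω) :
    (S.f ω z = -1 ∧ S.f ω a = 0 ∧ S.f ω a' = 0 ∧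
      ((S.f ω c = 1 ∧ S.f ω c' = 0) ∨ (S.f ω c = 0 ∧ S.f ω c' = 1))) ∨
    (S.f ω z = 0 ∧ S.f ω c = 0 ∧ S.f ω c' = 0 ∧
      ((S.f ω a = -1 ∧ S.f ω a' = 0) ∨ (S.f ω a = 0 ∧ S.f ω a' = -1))) := by
  obtain ⟨h0, h1⟩ := S.std_r_sum h (K := ℤ) (S.f ω)
  have e0 := S.f_r0 ω
  have e1 := S.f_r1 ω
  simp only [Int.cast_id, mul_comm _ (S.f ω _)] at h0 h1
  rw [e0, S.f_o] at h0
  rw [e1, S.f_o] at h1
  have hn := S.f_norm ω
  rw [S.std_sum h, S.f_o, S.gal_f, S.gal_f] at hn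
  have hR : 0 ≤ ∑ χ ∈ outside (S.stdList z a a' c c'), S.f ω χ * S.f ω χ :=
    Finset.sum_nonneg fun χ _ => mul_self_nonneg _
  have := mul_self_nonneg (S.f ω z)
  have := mul_self_nonneg (S.f ω a)
  have := mul_self_nonneg (S.f ω a')
  have := mul_self_nonneg (S.f ω c)
  have := mul_self_nonneg (S.f ω c')
  rcases small_of_sq_le (x := S.f ω z) (by omega) with ⟨vz, vz'⟩ | ⟨vz, vz'⟩ | ⟨vz, vz'⟩ <;>
  rcases small_of_sq_le (x := S.f ω a) (by omega) with ⟨va, va'⟩ | ⟨va, va'⟩ | ⟨va, va'⟩ <;>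
  rcases small_of_sq_le (x := S.f ω a') (by omega) with ⟨vb, vb'⟩ | ⟨vb, vb'⟩ | ⟨vb, vb'⟩ <;>
  first
    | omega
    | (rcases small_of_sq_le (x := S.f ω c) (by omega) with ⟨vc, vc'⟩ | ⟨vc, vc'⟩ | ⟨vc, vc'⟩ <;>
       rcases small_of_sq_le (x := S.f ω c') (by omega) with ⟨vd, vd'⟩ | ⟨vd, vd'⟩ | ⟨vd, vd'⟩ <;>
       omega)

/-- The test functions outside the block rows. -/
theorem std_f_rest (h : S.Standard z a a' c c') (ω ω' : Ω) :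
    ∑ χ, S.f ω χ * S.f ω' χ = S.f ω z * S.f ω' z + 2 * (S.f ω a * S.f ω' a) + 2 * (S.f ω a' * S.f ω' a') +
      S.f ω c * S.f ω' c + S.f ω c' * S.f ω' c' +
      ∑ χ ∈ outside (S.stdList z a a' c c'), S.f ω χ * S.f ω' χ := by
  rw [S.std_sum h, S.f_o, S.gal_f, S.gal_f, S.gal_f, S.gal_f]; ring

/-- Option I with the same member `c` for all `ω`. -/
theorem std_const_I (h : S.Standard z a a' c c') {ω₀ : Ω}
    (h₀ : S.f ω₀ z = -1 ∧ S.f ω₀ a = 0 ∧ S.f ω₀ a' = 0 ∧ S.f ω₀ c = 1 ∧ S.f ω₀ c' = 0) (ω : Ω) :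
    S.f ω z = -1 ∧ S.f ω a = 0 ∧ S.f ω a' = 0 ∧ S.f ω c = 1 ∧ S.f ω c' = 0 := by
  obtain ⟨z₀, a₀, b₀, c₀, d₀⟩ := h₀
  set O := outside (S.stdList z a a' c c') with hO
  have hff := S.f_f ω₀ ω
  rw [S.std_f_rest h, z₀, a₀, b₀, c₀, d₀, ← hO] at hff
  have n₀ := S.f_norm ω₀
  rw [S.std_f_rest h, z₀, a₀, b₀, c₀, d₀, ← hO] at n₀
  have n := S.f_norm ω
  rw [S.std_f_rest h, ← hO] at n
  have hdot := dot_le (O := O) (S.f ω₀) (S.f ω)
  rcases S.std_options h ω with ⟨vz, va, vb, ⟨vc, vd⟩ | ⟨vc, vd⟩⟩ | ⟨vz, vc, vd, ⟨va, vb⟩ | ⟨va, vb⟩⟩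
  · exact ⟨vz, va, vb, vc, vd⟩
  all_goals exfalso
  all_goals rw [vz, va, vb, vc, vd] at hff n
  rotate_left
  · omega
  · omega
  -- the members `c` and `c'` both occur
  have hdot1 : ∑ χ ∈ O, S.f ω₀ χ * S.f ω χ = 1 := by omega
  have heq : ∀ χ ∈ O, S.f ω₀ χ = S.f ω χ := by
    intro χ hχ
    have hz : ∑ ψ ∈ O, (S.f ω₀ ψ - S.f ω ψ) * (S.f ω₀ ψ - S.f ω ψ) = 0 := by
      have e : ∀ ψ, (S.f ω₀ ψ - S.f ω ψ) * (S.f ω₀ ψ - S.f ω ψ) =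
          S.f ω₀ ψ * S.f ω₀ ψ + S.f ω ψ * S.f ω ψ - 2 * (S.f ω₀ ψ * S.f ω ψ) := fun ψ => by ring
      simp only [e, Finset.sum_sub_distrib, Finset.sum_add_distrib, ← Finset.mul_sum]
      omega
    exact sub_eq_zero.1 (zero_of_norm_zero hz hχ)
  have h1 := S.f_g ω₀ ω
  have h2 := S.f_g ω ω
  obtain ⟨go, gz, ga, gb, gga, ggb, gc, gd⟩ := S.std_g h ω
  rw [S.std_sum h, ← hO] at h1 h2
  simp only [S.f_o, S.gal_f, z₀, a₀, b₀, c₀, d₀, vz, va, vb, vc, vd, gz, gc, gd,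
    Finset.sum_congr rfl fun χ hχ => congrArg (· * S.g ω χ) (heq χ hχ)] at h1 h2
  omega

/-- Option II with the same member `a` for all `ω`. -/
theorem std_const_II (h : S.Standard z a a' c c') {ω₀ : Ω}
    (h₀ : S.f ω₀ z = 0 ∧ S.f ω₀ a = -1 ∧ S.f ω₀ a' = 0 ∧ S.f ω₀ c = 0 ∧ S.f ω₀ c' = 0) (ω : Ω) :
    S.f ω z = 0 ∧ S.f ω a = -1 ∧ S.f ω a' = 0 ∧ S.f ω c = 0 ∧ S.f ω c' = 0 := by
  obtain ⟨z₀, a₀, b₀, c₀, d₀⟩ := h₀
  set O := outside (S.stdList z a a' c c') with hO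
  have hff := S.f_f ω₀ ω
  rw [S.std_f_rest h, z₀, a₀, b₀, c₀, d₀, ← hO] at hff
  have n₀ := S.f_norm ω₀
  rw [S.std_f_rest h, z₀, a₀, b₀, c₀, d₀, ← hO] at n₀
  have n := S.f_norm ω
  rw [S.std_f_rest h, ← hO] at n
  have hdot := dot_le (O := O) (S.f ω₀) (S.f ω)
  rcases S.std_options h ω with ⟨vz, va, vb, ⟨vc, vd⟩ | ⟨vc, vd⟩⟩ | ⟨vz, vc, vd, ⟨va, vb⟩ | ⟨va, vb⟩⟩
  rotate_left 2
  · exact ⟨vz, va, vb, vc, vd⟩
  all_goals exfalso; rw [vz, va, vb, vc, vd] at hff n; omega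

/-- Option I gives the order of the Ree group. -/
theorem std_I (h : S.Standard z a a' c c')
    (hI : ∀ ω, S.f ω z = -1 ∧ S.f ω a = 0 ∧ S.f ω a' = 0 ∧ S.f ω c = 1 ∧ S.f ω c' = 0) :
    ord = Q ^ 3 * (Q ^ 3 + 1) * (Q - 1) ∧ ∃ m : ℤ, Q = 3 * m ^ 2 := by
  obtain ⟨ω⟩ := S.nonempty
  obtain ⟨vz, va, vb, vc, vd⟩ := hI ω
  obtain ⟨tz, ta, ta', tc, tc'⟩ := S.std_T h
  obtain ⟨dc, da⟩ := S.std_degrees h
  obtain ⟨h0, h1⟩ := S.std_counts h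
  have hQ := S.hQ
  have hu := S.hu
  have hu7 := S.hu7
  set O := outside (S.stdList z a a' c c') with hO
  have n := S.f_norm ω
  rw [S.std_f_rest h, vz, va, vb, vc, vd, ← hO] at n
  have fT := S.f_T ω
  have fD := S.f_D ω
  rw [S.std_sum h, ← hO] at fT fD
  simp only [S.f_o, S.gal_f, vz, va, vb, vc, vd, tz, tc] at fT fD
  have hfc := S.f_count ω
  rw [S.std_sum h, ← hO, rest_one S.D S.T (by omega), show ∑ χ ∈ O, S.f ω χ * S.T χ = 1 - Q by omega,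
    show ∑ χ ∈ O, S.f ω χ * S.D χ = S.D z - S.D c by omega] at hfc
  simp only [S.f_o, S.gal_f, vz, va, vb, vc, vd, tz, tc] at hfc
  push_cast at hfc
  have hz3 : S.D c = Q * S.D z := by
    have hzc : (S.D z : ℂ) - (S.D c : ℂ) ≠ 0 := by
      intro e
      obtain ⟨e'', he'', h11, h00⟩ := one_unit (show ∑ χ ∈ O, S.f ω χ * S.f ω χ = 1 by omega)
      have hD : S.D z = S.D c := by exact_mod_cast sub_eq_zero.1 e
      have hs : ∑ χ ∈ O, S.f ω χ * S.D χ = 0 := by omega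
      rw [Finset.sum_eq_single_of_mem e'' he'' fun χ hχ hne => by rw [h00 χ hχ hne, zero_mul]] at hs
      rcases mul_eq_zero.1 hs with h' | h'
      · rw [h'] at h11; norm_num at h11
      · exact S.D_ne _ h'
    have hz0 : (S.D z : ℂ) ≠ 0 := by exact_mod_cast S.D_ne z
    have hc0 : (S.D c : ℂ) ≠ 0 := by exact_mod_cast S.D_ne c
    have e : ((S.D c : ℂ) - (Q : ℂ) * (S.D z : ℂ)) ^ 2 = 0 := by
      field_simp at hfc
      linear_combination hfc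
    exact_mod_cast sub_eq_zero.1 (pow_eq_zero_iff two_ne_zero |>.1 e)
  obtain ⟨go, gz, ga, gb, gga, ggb, gc, gd⟩ := S.std_g h ω
  rw [vz] at gz
  rw [va] at ga gga
  rw [vb] at gb ggb
  rw [vc] at gc
  rw [vd] at gd
  have gn := S.g_norm ω
  have gT := S.g_T ω
  have gDs := S.g_D ω
  have gC := S.g_count ω
  rw [S.std_sum h, ← hO] at gn gT gDs gC
  simp only [go, gz, ga, gb, gga, ggb, gc, gd, S.gal_T, S.gal_D, S.T_o, S.D_o, tz, ta, ta', tc, tc'] at gn gT gDs gC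
  have e0 : ∑ χ ∈ O, S.g ω χ * S.D χ = (Q - 1) * -S.D z := by
    have : (Q - 1) * -S.D z = S.D z - S.D c := by rw [hz3]; ring
    omega
  rw [rest_one S.D S.T (by omega), e0, show ∑ χ ∈ O, S.g ω χ * S.T χ = 3 * (Q - 1) by omega] at gC
  push_cast at gC
  refine Arith.caseI (H := H) (u := u) (n := -S.D z) (A := S.D a) (A' := S.D a') (z₃ := S.D c) (N := S.D c')
    (X := X) hQ hu hu7 (neg_ne_zero.2 (S.D_ne z)) (S.D_ne c') (S.D_ne a) (S.D_ne a') (by omega)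
    (by rw [hz3]; ring) (by linear_combination dc - hz3) ?_ ?_ ?_ S.hord
  · rw [← h0]; push_cast; ring
  · rw [← h1]; push_cast; ring
  · have hQ1 : (Q : ℂ) - 1 ≠ 0 := by exact_mod_cast (show Q - 1 ≠ 0 by omega)
    rw [← gC]; push_cast
    field_simp
    ring

/-- Option II is impossible. -/
theorem std_II {p e : ℕ} (hp : p.Prime) (hQp : Q.natAbs = p ^ e) (h : S.Standard z a a' c c')
    (hI : ∀ ω, S.f ω z = 0 ∧ S.f ω a = -1 ∧ S.f ω a' = 0 ∧ S.f ω c = 0 ∧ S.f ω c' = 0) : False := by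
  obtain ⟨ω⟩ := S.nonempty
  obtain ⟨vz, va, vb, vc, vd⟩ := hI ω
  obtain ⟨tz, ta, ta', tc, tc'⟩ := S.std_T h
  obtain ⟨dc, da⟩ := S.std_degrees h
  obtain ⟨h0, h1⟩ := S.std_counts h
  have hQ := S.hQ
  have hu := S.hu
  have hu7 := S.hu7
  set O := outside (S.stdList z a a' c c') with hO
  obtain ⟨go, gz, ga, gb, gga, ggb, gc, gd⟩ := S.std_g h ω
  rw [vz] at gz
  rw [va] at ga gga
  rw [vb] at gb ggb
  rw [vc] at gc
  rw [vd] at gd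
  have gn := S.g_norm ω
  have gT := S.g_T ω
  have gDs := S.g_D ω
  have gC := S.g_count ω
  rw [S.std_sum h, ← hO] at gn gT gDs gC
  simp only [go, gz, ga, gb, gga, ggb, gc, gd, S.gal_T, S.gal_D, S.T_o, S.D_o, tz, ta, ta', tc, tc'] at gn gT gDs gC
  rw [rest_one S.D S.T (by omega), show ∑ χ ∈ O, S.g ω χ * S.T χ = 6 * H by omega,
    show ∑ χ ∈ O, S.g ω χ * S.D χ = 2 * S.D a by omega] at gC
  push_cast at gC
  have ka : 4 * u ∣ S.D a' - S.T a' - 4 * 0 := S.f_cong a' 0 fun ω => (hI ω).2.2.1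
  have kz : 4 * u ∣ S.D z - S.T z - 4 * 0 := S.f_cong z 0 fun ω => (hI ω).1
  have hu4 : u ∣ 4 * u := dvd_mul_left u 4
  refine Arith.caseII (H := H) (u := u) (n := -S.D z) (A := S.D a) (A' := S.D a') (X := X)
    (R := 1 / (S.D c : ℂ) + 1 / (S.D c' : ℂ)) hp hQp hQ hu S.hQ8 hu7 (neg_ne_zero.2 (S.D_ne z)) (S.D_ne a)
    (S.D_ne a') (by omega) ?_ ?_ ?_ S.hord ?_ ?_ ?_ ?_ (S.D_dvd a') S.hcent
  · rw [← h0]; push_cast; ring
  · rw [← h1]; push_cast; ring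
  · rw [← gC]; push_cast; ring
  · have := S.D_mod a; rwa [ta, sub_neg_eq_add] at this
  · have := S.D_mod a'; rwa [ta', sub_neg_eq_add] at this
  · rw [show S.D a' - 1 = (S.D a' - S.T a' - 4 * 0) - (H + 1) by rw [ta']; ring]
    exact dvd_sub (hu4.trans ka) ⟨2, by omega⟩
  · rw [show -S.D z + 1 = -(S.D z - S.T z - 4 * 0) by rw [tz]; ring, dvd_neg]
    exact hu4.trans kz

/-- **Eight rows.** -/
theorem standard {p e : ℕ} (hp : p.Prime) (hQp : Q.natAbs = p ^ e) (h : S.Standard z a a' c c') :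
    ord = Q ^ 3 * (Q ^ 3 + 1) * (Q - 1) ∧ ∃ m : ℤ, Q = 3 * m ^ 2 := by
  obtain ⟨ω₀⟩ := S.nonempty
  rcases S.std_options h ω₀ with ⟨vz, va, vb, ⟨vc, vd⟩ | ⟨vc, vd⟩⟩ | ⟨vz, vc, vd, ⟨va, vb⟩ | ⟨va, vb⟩⟩
  · exact S.std_I h (S.std_const_I h ⟨vz, va, vb, vc, vd⟩)
  · exact S.std_I (S.std_swap_c h) (S.std_const_I (S.std_swap_c h) ⟨vz, va, vb, vd, vc⟩)
  · exact (S.std_II hp hQp h (S.std_const_II h ⟨vz, va, vb, vc, vd⟩)).elim
  · exact (S.std_II hp hQp (S.std_swap_a h) (S.std_const_II (S.std_swap_a h) ⟨vz, vb, va, vc, vd⟩)).elim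

end CfsgLib.Recognition.ReeCentralizer.CaseData
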