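import Cfsg.Agent.Lib.Recognition.ReeCentralizer.CaseData

/-!
# Small integral vectors
-/

set_option autoImplicit false
set_option linter.unusedSectionVars false

namespace CfsgLib.Recognition.ReeCentralizer.CaseData

open scoped _root_.Classical

universe u

theorem small_of_sq_le {x : ℤ} (h : x * x ≤ 3) :
    (x = 0 ∧ x * x = 0) ∨ (x = 1 ∧ x * x = 1) ∨ (x = -1 ∧ x * x = 1) := by
  obtain ⟨h1, h2⟩ : -2 < x ∧ x < 2 := ⟨by nlinarith, by nlinarith⟩
  interval_cases x <;> simp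

variable {ι : Type u}

/-- The indices outside a list. -/
noncomputable def outside [Fintype ι] (l : List ι) : Finset ι :=
  Finset.univ.filter fun χ => χ ∉ l

theorem mem_outside [Fintype ι] {l : List ι} {χ : ι} : χ ∈ outside l ↔ χ ∉ l := by simp [outside]

theorem sum_split [Fintype ι] {M : Type*} [AddCommMonoid M] {l : List ι} (hl : l.Nodup) (F : ι → M) :
    ∑ χ, F χ = (l.map F).sum + ∑ χ ∈ outside l, F χ := by
  rw [← List.sum_toFinset F hl, ← Finset.sum_union]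
  · refine Finset.sum_congr ?_ fun _ _ => rfl
    ext χ; simp [mem_outside, em]
  · rw [Finset.disjoint_left]
    intro χ h h'
    exact mem_outside.1 h' (List.mem_toFinset.1 h)

theorem sum_outside_eq_zero [Fintype ι] {M : Type*} [AddCommMonoid M] {l : List ι} {F : ι → M}
    (h : ∀ χ, χ ∉ l → F χ = 0) : ∑ χ ∈ outside l, F χ = 0 :=
  Finset.sum_eq_zero fun χ hχ => h χ (mem_outside.1 hχ)

theorem sq_le_sum {O : Finset ι} {v : ι → ℤ} {χ : ι} (hχ : χ ∈ O) : v χ * v χ ≤ ∑ ψ ∈ O, v ψ * v ψ :=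
  Finset.single_le_sum (f := fun ψ => v ψ * v ψ) (fun ψ _ => mul_self_nonneg (v ψ)) hχ

theorem zero_of_norm_zero {O : Finset ι} {v : ι → ℤ} (h : ∑ χ ∈ O, v χ * v χ = 0) {χ : ι} (hχ : χ ∈ O) :
    v χ = 0 :=
  mul_self_eq_zero.1 (le_antisymm (h ▸ sq_le_sum hχ) (mul_self_nonneg _))

theorem one_unit {O : Finset ι} {v : ι → ℤ} (h : ∑ χ ∈ O, v χ * v χ = 1) :
    ∃ e ∈ O, v e * v e = 1 ∧ (∀ χ ∈ O, χ ≠ e → v χ = 0) := by
  obtain ⟨e, he, hne⟩ := Finset.exists_ne_zero_of_sum_ne_zero (h ▸ one_ne_zero)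
  have hle := h ▸ sq_le_sum (v := v) he
  have h1 : v e * v e = 1 := by have := mul_self_nonneg (v e); omega
  refine ⟨e, he, h1, fun χ hχ hne' => ?_⟩
  rw [← Finset.add_sum_erase O _ he, h1, add_eq_left] at h
  exact zero_of_norm_zero h (Finset.mem_erase.2 ⟨hne', hχ⟩)

theorem sum_one_unit {K : Type*} [CommRing K] {O : Finset ι} {v : ι → ℤ} {e : ι} (he : e ∈ O)
    (h : ∀ χ ∈ O, χ ≠ e → v χ = 0) (F : ι → K) :
    ∑ χ ∈ O, (v χ : K) * F χ = (v e : K) * F e :=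
  Finset.sum_eq_single_of_mem e he fun χ hχ hne => by rw [h χ hχ hne, Int.cast_zero, zero_mul]

/-- A unit times `T² / D` is the signed square over the signed degree. -/
theorem unit_mul_div {c T D : ℤ} (hc : c * c = 1) :
    (c : ℂ) * ((T : ℂ) ^ 2 / (D : ℂ)) = ((c * T : ℤ) : ℂ) ^ 2 / ((c * D : ℤ) : ℂ) := by
  rcases Int.mul_eq_one_iff_eq_one_or_neg_one.1 hc with ⟨rfl, -⟩ | ⟨rfl, -⟩ <;> push_cast <;> simp [div_neg]

/-- A vector of norm one outside: degree, value and count. -/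
theorem rest_one {O : Finset ι} {v : ι → ℤ} (D T : ι → ℤ) (h : ∑ χ ∈ O, v χ * v χ = 1) :
    ∑ χ ∈ O, (v χ : ℂ) * ((T χ : ℂ) ^ 2 / (D χ : ℂ)) =
      ((∑ χ ∈ O, v χ * T χ : ℤ) : ℂ) ^ 2 / ((∑ χ ∈ O, v χ * D χ : ℤ) : ℂ) := by
  obtain ⟨e, he, h1, h0⟩ := one_unit h
  rw [sum_one_unit he h0, unit_mul_div h1]
  rw [Finset.sum_eq_single_of_mem (f := fun χ => v χ * T χ) e he fun χ hχ hne => by
      show v χ * T χ = 0; rw [h0 χ hχ hne, zero_mul],
    Finset.sum_eq_single_of_mem (f := fun χ => v χ * D χ) e he fun χ hχ hne => by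
      show v χ * D χ = 0; rw [h0 χ hχ hne, zero_mul]]

theorem two_units {O : Finset ι} {v : ι → ℤ} {e : ι} (he : e ∈ O) (h1 : v e * v e = 1)
    (h : ∑ χ ∈ O, v χ * v χ = 2) : ∑ χ ∈ O.erase e, v χ * v χ = 1 := by
  rw [← Finset.add_sum_erase O _ he] at h; omega

theorem dot_le {O : Finset ι} (v v' : ι → ℤ) :
    2 * ∑ χ ∈ O, v χ * v' χ ≤ (∑ χ ∈ O, v χ * v χ) + ∑ χ ∈ O, v' χ * v' χ := by
  rw [Finset.mul_sum, ← Finset.sum_add_distrib]
  exact Finset.sum_le_sum fun χ _ => by nlinarith [mul_self_nonneg (v χ - v' χ)]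

end CfsgLib.Recognition.ReeCentralizer.CaseData
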