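import Cfsg.Agent.Lib.KnownB.GL2.TableSLApps
import Cfsg.Agent.Lib.KnownB.GL2.TableSLBlocks
import Cfsg.Agent.Lib.KnownB.GL2.TableSLTorus
import Cfsg.Agent.Lib.Char.Quotient
import Cfsg.Agent.Lib.Blocks.PConjugates
import Cfsg.Agent.Lib.Char.Integral
import Cfsg.Agent.Lib.Char.Virtual
import Cfsg.Agent.Lib.Char.CyclicTIGalois
import Cfsg.Agent.Lib.Recognition.ReeCentralizer.Basic
import Mathlib.LinearAlgebra.Matrix.ProjectiveSpecialLinearGroup

/-!
# The principal `2`-block of `PSL₂(q)`, `q ≡ 3, 5 (mod 8)`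

With `ε ≡ q (mod 4)`, `q - ε = 4w` and `q + ε = 2v` (`w`, `v` odd) the block has the trivial
character, the Steinberg character `s` and the two halves `e₁`, `e₂` of degree `(q + ε)/2`.  Their
values depend only on the type of the element: unipotent, in a torus of order `2w`, or in a torus of
order `v`.  With `σ = (ε, -ε, -ε)` the generalized characters `1 - σ_i χ_i` vanish on the elements of
even order; a field automorphism fixing the roots of unity of order prime to `p` exchanges `e₁`, `e₂`;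
all other irreducible characters have even degree.
-/

set_option autoImplicit false
set_option linter.unusedSectionVars false
set_option linter.style.haveILetI false

namespace CfsgLib.Recognition.ReeCentralizer

open scoped MatrixGroups ComplexConjugate _root_.Classical
open CfsgLib CfsgLib.KnownB.GL2

universe u

/-- The principal `2`-block data of `PSL₂(q)`. -/
structure PBlock (L : Type u) [Group L] (p q w v : ℕ) (ε : ℤ) where
  s : Cfsg.IrrCharacter L
  e₁ : Cfsg.IrrCharacter L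
  e₂ : Cfsg.IrrCharacter L
  sign : ε = 1 ∨ ε = -1
  prime : p.Prime
  p_ne_two : p ≠ 2
  q_pow : ∃ f : ℕ, q = p ^ f
  five_le : 5 ≤ q
  hw : (q : ℤ) - ε = 4 * w
  hv : (q : ℤ) + ε = 2 * v
  odd_w : Odd w
  odd_v : Odd v
  ne : e₁ ≠ e₂
  deg_s : (s : L → ℂ) 1 = q
  deg_e₁ : (e₁ : L → ℂ) 1 = v
  deg_e₂ : (e₂ : L → ℂ) 1 = v
  cases : ∀ x : L, x ≠ 1 →
    (x ^ p = 1 ∧ (s : L → ℂ) x = 0 ∧ (e₁ : L → ℂ) x + (e₂ : L → ℂ) x = ε ∧
      ((e₁ : L → ℂ) x - (e₂ : L → ℂ) x) ^ 2 = (ε : ℂ) * q) ∨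
    (x ^ (2 * w) = 1 ∧ (s : L → ℂ) x = ε ∧
      (e₁ : L → ℂ) x = (if x ^ w = 1 then (ε : ℂ) else -(ε : ℂ)) ∧
      (e₂ : L → ℂ) x = (if x ^ w = 1 then (ε : ℂ) else -(ε : ℂ))) ∨
    (x ^ v = 1 ∧ (s : L → ℂ) x = -(ε : ℂ) ∧ (e₁ : L → ℂ) x = 0 ∧ (e₂ : L → ℂ) x = 0)
  others : ∀ χ : Cfsg.IrrCharacter L, (χ : L → ℂ) ≠ (fun _ => 1) → χ ≠ s → χ ≠ e₁ → χ ≠ e₂ →
    ∃ k : ℕ, (χ : L → ℂ) 1 = 2 * k

namespace PBlock

variable {L : Type u} [Group L] [Fintype L] {p q w v : ℕ} {ε : ℤ} (B : PBlock L p q w v ε)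
include B

theorem v_le : 2 ≤ v ∧ v < q := by
  have h1 := B.hv
  have h5 := B.five_le
  rcases B.sign with rfl | rfl <;> constructor <;> omega

theorem e₁_ne_s : B.e₁ ≠ B.s := fun e => by
  have h := B.deg_e₁
  rw [e, B.deg_s, Nat.cast_inj] at h
  exact absurd h.symm B.v_le.2.ne

theorem e₂_ne_s : B.e₂ ≠ B.s := fun e => by
  have h := B.deg_e₂
  rw [e, B.deg_s, Nat.cast_inj] at h
  exact absurd h.symm B.v_le.2.ne

theorem s_ne_one : (B.s : L → ℂ) ≠ fun _ => 1 := fun e => by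
  have h := (congrFun e 1).symm.trans B.deg_s
  have h5 := B.five_le
  rw [← Nat.cast_one, Nat.cast_inj] at h
  omega

theorem e₁_ne_one : (B.e₁ : L → ℂ) ≠ fun _ => 1 := fun e => by
  have h := (congrFun e 1).symm.trans B.deg_e₁
  have h5 := B.v_le.1
  rw [← Nat.cast_one, Nat.cast_inj] at h
  omega

theorem e₂_ne_one : (B.e₂ : L → ℂ) ≠ fun _ => 1 := fun e => by
  have h := (congrFun e 1).symm.trans B.deg_e₂
  have h5 := B.v_le.1
  rw [← Nat.cast_one, Nat.cast_inj] at h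
  omega

theorem coprime_pw : Nat.Coprime p (2 * w) := by
  refine (Nat.Prime.coprime_iff_not_dvd B.prime).2 fun hd => ?_
  obtain ⟨f, hf⟩ := B.q_pow
  have hpq : (p : ℤ) ∣ q := by
    rcases Nat.eq_zero_or_pos f with rfl | hpos
    · have := B.five_le; rw [pow_zero] at hf; omega
    · exact_mod_cast hf ▸ dvd_pow_self p hpos.ne'
  have h4 : (p : ℤ) ∣ ε := by
    have h2w : (p : ℤ) ∣ 4 * (w : ℤ) := by
      have : p ∣ 4 * w := hd.trans ⟨2, by ring⟩
      exact_mod_cast this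
    rw [← B.hw] at h2w
    simpa using dvd_sub hpq h2w
  have h1 : (p : ℤ) ∣ 1 := by rcases B.sign with rfl | rfl <;> simpa using h4
  exact B.prime.not_dvd_one (by exact_mod_cast h1)

theorem coprime_vw : Nat.Coprime v (2 * w) := by
  have h1 := B.hw
  have h2 := B.hv
  have hεv : (v : ℤ) - 2 * w = ε := by omega
  refine Nat.isCoprime_iff_coprime.1 ?_
  rcases B.sign with rfl | rfl
  · exact ⟨1, -1, by push_cast; linarith⟩
  · exact ⟨-1, 1, by push_cast; linarith⟩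

/-- The elements of the torus of order `2w`. -/
theorem of_pow_two_w {x : L} (hx : x ≠ 1) (h : x ^ (2 * w) = 1) :
    (B.s : L → ℂ) x = ε ∧ (B.e₁ : L → ℂ) x = (if x ^ w = 1 then (ε : ℂ) else -(ε : ℂ)) ∧
      (B.e₂ : L → ℂ) x = (if x ^ w = 1 then (ε : ℂ) else -(ε : ℂ)) := by
  rcases B.cases x hx with ⟨hp, -⟩ | ⟨-, h'⟩ | ⟨hv', -⟩
  · exact absurd (by simpa [B.coprime_pw.gcd_eq_one] using pow_gcd_eq_one.2 ⟨hp, h⟩) hx
  · exact h'
  · exact absurd (by simpa [B.coprime_vw.gcd_eq_one] using pow_gcd_eq_one.2 ⟨hv', h⟩) hx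

/-- The elements of odd order: the three types. -/
theorem of_odd {x : L} (hx : x ≠ 1) (ho : Odd (orderOf x)) :
    (x ^ p = 1 ∧ (B.s : L → ℂ) x = 0 ∧ (B.e₁ : L → ℂ) x + (B.e₂ : L → ℂ) x = ε ∧
      ((B.e₁ : L → ℂ) x - (B.e₂ : L → ℂ) x) ^ 2 = (ε : ℂ) * q) ∨
    (x ^ w = 1 ∧ (B.s : L → ℂ) x = ε ∧ (B.e₁ : L → ℂ) x = ε ∧ (B.e₂ : L → ℂ) x = ε) ∨
    (x ^ v = 1 ∧ (B.s : L → ℂ) x = -(ε : ℂ) ∧ (B.e₁ : L → ℂ) x = 0 ∧ (B.e₂ : L → ℂ) x = 0) := by
  rcases B.cases x hx with h | ⟨hw', hs, h1, h2⟩ | h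
  · exact Or.inl h
  · have hd : orderOf x ∣ w :=
      (Nat.coprime_two_right.2 ho).dvd_of_dvd_mul_left (orderOf_dvd_of_pow_eq_one hw')
    have hxw : x ^ w = 1 := orderOf_dvd_iff_pow_eq_one.1 hd
    rw [if_pos hxw] at h1 h2
    exact Or.inr (Or.inl ⟨hxw, hs, h1, h2⟩)
  · exact Or.inr (Or.inr h)

/-- The three non-trivial characters of the block. -/
def chi : Fin 3 → Cfsg.IrrCharacter L := ![B.s, B.e₁, B.e₂]

/-- Their values at an involution. -/
def sgn (_ : PBlock L p q w v ε) : Fin 3 → ℤ := ![ε, -ε, -ε]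

/-- The generalized characters vanishing on the elements of even order. -/
noncomputable def phi (i : Fin 3) : L → ℂ :=
  (fun _ => 1) - (B.sgn i : ℂ) • (B.chi i : L → ℂ)

theorem phi_apply (i : Fin 3) (x : L) :
    B.phi i x = 1 - (B.sgn i : ℂ) * (B.chi i : L → ℂ) x := by simp [phi]

theorem sgn_sq (i : Fin 3) : B.sgn i * B.sgn i = 1 := by
  rcases B.sign with rfl | rfl <;> fin_cases i <;> simp [sgn]

theorem chi_injective : Function.Injective B.chi := by
  intro i j e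
  fin_cases i <;> fin_cases j <;> simp [chi] at e ⊢
  · exact B.e₁_ne_s e.symm
  · exact B.e₂_ne_s e.symm
  · exact B.e₁_ne_s e
  · exact B.ne e
  · exact B.e₂_ne_s e
  · exact B.ne e.symm

theorem chi_ne_one (i : Fin 3) : (B.chi i : L → ℂ) ≠ fun _ => 1 := by
  fin_cases i
  · exact B.s_ne_one
  · exact B.e₁_ne_one
  · exact B.e₂_ne_one

/-- The values at the elements of even order. -/
theorem chi_of_even (i : Fin 3) {x : L} (hx : Even (orderOf x)) :
    x ^ (2 * w) = 1 ∧ (B.chi i : L → ℂ) x = B.sgn i := by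
  have hx1 : x ≠ 1 := fun e => by rw [e, orderOf_one] at hx; exact Nat.not_even_one hx
  have hno : ∀ m : ℕ, Odd m → x ^ m ≠ 1 := fun m hm e =>
    (Nat.not_odd_iff_even.2 hx) (hm.of_dvd_nat (orderOf_dvd_of_pow_eq_one e))
  rcases B.cases x hx1 with ⟨hp, -⟩ | ⟨h2, hs, h1, h1'⟩ | ⟨hv', -⟩
  · exact absurd hp (hno p (B.prime.odd_of_ne_two B.p_ne_two))
  · rw [if_neg (hno w B.odd_w)] at h1 h1'
    refine ⟨h2, ?_⟩
    fin_cases i <;> simp [chi, sgn, hs, h1, h1']
  · exact absurd hv' (hno v B.odd_v)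

theorem phi_vanish (i : Fin 3) {x : L} (hx : Even (orderOf x)) : B.phi i x = 0 := by
  rw [B.phi_apply, (B.chi_of_even i hx).2, ← Int.cast_mul, B.sgn_sq i, Int.cast_one, sub_self]

/-- The values at a non-trivial element killed by `w`. -/
theorem chi_of_pow_w (i : Fin 3) {x : L} (hx : x ≠ 1) (h : x ^ w = 1) :
    (B.chi i : L → ℂ) x = ε := by
  obtain ⟨hs, h1, h2⟩ := B.of_pow_two_w hx (by rw [mul_comm, pow_mul, h, one_pow])
  rw [if_pos h] at h1 h2
  fin_cases i <;> simp [chi, hs, h1, h2]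

/-- The signed degrees `-Q, H, H`. -/
theorem sgn_mul_deg (i : Fin 3) : (B.sgn i : ℂ) * (B.chi i : L → ℂ) 1 =
    ![(ε : ℂ) * q, (-(ε : ℂ) * q - 1) / 2, (-(ε : ℂ) * q - 1) / 2] i := by
  have h : (q : ℂ) + (ε : ℂ) = 2 * (v : ℂ) := by exact_mod_cast B.hv
  rcases B.sign with rfl | rfl <;> fin_cases i <;>
    simp [chi, sgn, B.deg_s, B.deg_e₁, B.deg_e₂] <;> push_cast at h <;>
    first | linear_combination (-h) / 2 | linear_combination h / 2

theorem isGeneralizedCharacter_phi (i : Fin 3) : Cfsg.IsGeneralizedCharacter L (B.phi i) := by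
  have h1 : Cfsg.IsGeneralizedCharacter L (fun _ => 1 : L → ℂ) :=
    Char.IsCharacter.isGeneralizedCharacter Char.isCharacter_one
  have h2 : Cfsg.IsGeneralizedCharacter L (B.chi i : L → ℂ) :=
    Char.IsCharacter.isGeneralizedCharacter (Char.IsIrrCharacter.isCharacter (B.chi i).2)
  rcases Int.eq_one_or_neg_one_of_mul_eq_one (B.sgn_sq i) with e | e
  · rw [phi, e, Int.cast_one, one_smul]
    exact Char.IsGeneralizedCharacter.sub h1 h2
  · rw [phi, e, Int.cast_neg, Int.cast_one, neg_one_smul, sub_neg_eq_add]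
    exact Char.IsCharacter.isGeneralizedCharacter (Char.IsCharacter.add Char.isCharacter_one
      (Char.IsIrrCharacter.isCharacter (B.chi i).2))

/-- The Gram matrix `I + J`. -/
theorem phi_gram (i j : Fin 3) :
    Cfsg.classInner (B.phi i) (B.phi j) = if i = j then 2 else 1 := by
  have h1 : Cfsg.IsIrrCharacter L (fun _ => 1 : L → ℂ) := Char.isIrrCharacter_one
  have hi := Char.classInner_irr_ne (B.chi i).2 h1 (B.chi_ne_one i)
  have hj := Char.classInner_irr_ne h1 (B.chi j).2 (B.chi_ne_one j).symm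
  simp only [phi, Char.classInner_sub_left, Char.classInner_sub_right, Char.classInner_smul_left,
    Char.classInner_smul_right, Char.classInner_irr_self h1, hi, hj]
  by_cases hij : i = j
  · subst hij
    rw [if_pos rfl, Char.classInner_irr_self (B.chi i).2, map_intCast]
    rcases Int.eq_one_or_neg_one_of_mul_eq_one (B.sgn_sq i) with e | e <;> rw [e] <;> norm_num
  · rw [if_neg hij, Char.classInner_irr_ne (B.chi i).2 (B.chi j).2
      fun e => hij (B.chi_injective (Subtype.ext e))]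
    ring

/-- An automorphism of `ℂ` fixing the roots of unity of a given order prime to `p` exchanges the
halves. -/
theorem exists_gal {m : ℕ} (hm : ¬ p ∣ m) :
    ∃ σ : ℂ ≃+* ℂ, (∀ z : ℂ, z ^ m = 1 → σ z = z) ∧
      ∀ x : L, σ ((B.e₁ : L → ℂ) x) = (B.e₂ : L → ℂ) x ∧ σ ((B.e₂ : L → ℂ) x) = (B.e₁ : L → ℂ) x ∧
        σ ((B.s : L → ℂ) x) = (B.s : L → ℂ) x := by
  haveI := Fact.mk B.prime
  haveI : NeZero p := ⟨B.prime.ne_zero⟩
  have hm0 : m ≠ 0 := fun e => hm (e ▸ dvd_zero p)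
  obtain ⟨j, hj⟩ := IsCyclic.exists_generator (α := (ZMod p)ˣ)
  have hcop : p.Coprime m := B.prime.coprime_iff_not_dvd.2 hm
  obtain ⟨K, hK1, hK2⟩ := Blocks.PConjugates.exists_exponent hcop (j : ZMod p).val
  set N := p * m
  have hN0 : N ≠ 0 := mul_ne_zero B.prime.ne_zero hm0
  have hK : K.Coprime N := by
    refine Nat.Coprime.mul_right ?_ ?_
    · rw [Nat.coprime_iff_gcd_eq_one, hK1.gcd_eq]
      exact ZMod.val_coe_unit_coprime j
    · rw [Nat.coprime_iff_gcd_eq_one, hK2.gcd_eq]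
      exact Nat.gcd_one_left _
  have hω := Complex.isPrimitiveRoot_exp N hN0
  obtain ⟨σ, hσ⟩ := CfsgLib.CharDeep.Galois.exists_ringEquiv_primitive hN0 hω
    (hω.pow_of_coprime K hK)
  haveI : NeZero N := ⟨hN0⟩
  have hpow : ∀ z : ℂ, z ^ N = 1 → σ z = z ^ K := by
    intro z hz
    obtain ⟨i, -, rfl⟩ := hω.eq_pow_of_pow_eq_one hz
    rw [map_pow, hσ, ← pow_mul, ← pow_mul, mul_comm K i]
  have hp' : ∀ z : ℂ, z ^ p = 1 → σ z = z ^ (j : ZMod p).val := fun z hz => by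
    rw [hpow z (by rw [pow_mul, hz, one_pow]), pow_eq_pow_of_modEq hK1 hz]
  refine ⟨σ, fun z hz => ?_, fun x => ?_⟩
  · rw [hpow z (by rw [show N = m * p from mul_comm p m, pow_mul, hz, one_pow]),
      pow_eq_pow_of_modEq hK2 hz, pow_one]
  by_cases hx : x = 1
  · rw [hx, B.deg_e₁, B.deg_e₂, B.deg_s]; simp
  rcases B.cases x hx with ⟨hxp, hs, hadd, hsq⟩ | ⟨-, hs, h1, h2⟩ | ⟨-, hs, h1, h2⟩
  swap
  · rw [hs, h1, h2]
    split_ifs <;> simp
  swap
  · rw [hs, h1, h2]; simp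
  set α := (B.e₁ : L → ℂ) x with hα
  set β := (B.e₂ : L → ℂ) x with hβ
  have hsum : σ α + σ β = ε := by rw [← map_add, hadd, map_intCast]
  suffices hne : σ α ≠ α by
    have h2 : (σ α - σ β) ^ 2 = (α - β) ^ 2 := by
      rw [hsq, ← map_sub, ← map_pow, hsq, map_mul, map_intCast, map_natCast]
    rcases sq_eq_sq_iff_eq_or_eq_neg.1 h2 with h | h
    · exact absurd (by linear_combination (h + hsum - hadd) / 2) hne
    · exact ⟨by linear_combination (h + hsum - hadd) / 2,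
        by linear_combination (hsum - hadd - h) / 2, by rw [hs, map_zero]⟩
  intro hfix
  -- then `α` is rational, so `ε q` is a square
  have hord : ∀ r : ℂ, r ^ orderOf x = 1 → r ^ p = 1 := fun r hr => by
    obtain ⟨c, hc⟩ := orderOf_dvd_of_pow_eq_one hxp
    rw [hc, pow_mul, hr, one_pow]
  have hall : ∀ τ : ℂ ≃+* ℂ, τ α = α := by
    intro τ
    obtain ⟨ζ, hζ⟩ : ∃ ζ : ℂ, IsPrimitiveRoot ζ p :=
      ⟨_, Complex.isPrimitiveRoot_exp p B.prime.ne_zero⟩
    obtain ⟨i, hi, hτ⟩ := hζ.eq_pow_of_pow_eq_one (hζ.map_of_injective τ.injective).pow_eq_one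
    have hine : (i : ZMod p) ≠ 0 := fun e => by
      obtain ⟨c, hc⟩ := (ZMod.natCast_eq_zero_iff i p).1 e
      rw [hc, pow_mul, hζ.pow_eq_one, one_pow] at hτ
      exact hζ.ne_one B.prime.one_lt (τ.injective (hτ.symm.trans (map_one τ).symm))
    obtain ⟨n, hn⟩ := (Submonoid.mem_powers_iff _ _).1
      (mem_powers_iff_mem_zpowers.2 (hj (Units.mk0 (i : ZMod p) hine)))
    have hit : ∀ k : ℕ, ∀ r : ℂ, r ^ p = 1 →
        (σ ^ k : RingAut ℂ) r = r ^ ((j : ZMod p).val ^ k) := by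
      intro k
      induction k with
      | zero => intro r _; simp
      | succ k ih =>
        intro r hr
        rw [pow_succ, RingAut.mul_apply, hp' r hr, map_pow, ih r hr, ← pow_mul, pow_succ]
    have hagree : ∀ r : ℂ, r ^ orderOf x = 1 → τ r = (σ ^ n : RingAut ℂ) r := by
      intro r hr
      obtain ⟨l, -, rfl⟩ := hζ.eq_pow_of_pow_eq_one (hord r hr)
      rw [map_pow, map_pow, hit n ζ hζ.pow_eq_one, ← hτ]
      congr 1
      refine pow_eq_pow_of_modEq ?_ hζ.pow_eq_one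
      rw [← ZMod.natCast_eq_natCast_iff, Nat.cast_pow, ZMod.natCast_zmod_val]
      exact (congrArg Units.val hn).symm
    have h := Char.IsCharacter.map_apply_eq (Char.IsIrrCharacter.isCharacter B.e₁.2) x
      τ.toRingHom ((σ ^ n : RingAut ℂ) : ℂ ≃+* ℂ).toRingHom hagree
    refine h.trans ?_
    have : ∀ k : ℕ, (σ ^ k : RingAut ℂ) α = α := by
      intro k
      induction k with
      | zero => simp
      | succ k ih => rw [pow_succ, RingAut.mul_apply, hfix, ih]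
    exact this n
  obtain ⟨r, hr⟩ := Char.exists_rat_of_fixed
    ((Char.IsCharacter.isIntegral (Char.IsIrrCharacter.isCharacter B.e₁.2) x).tower_top) hall
  have hsquare : ((2 * r - ε : ℚ)) ^ 2 = (ε : ℚ) * q := by
    have : ((2 * r - ε : ℚ) : ℂ) ^ 2 = (ε : ℂ) * q := by
      push_cast
      rw [← hr, ← hsq]
      linear_combination (α - β + 2 * α - ε) * hadd
    exact_mod_cast this
  obtain ⟨z, hz⟩ : ∃ z : ℤ, z ^ 2 = ε * q := by
    refine ⟨(2 * r - ε : ℚ).num, ?_⟩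
    have h := congrArg Rat.num hsquare
    rw [Rat.num_pow] at h
    rw [h, show (ε : ℚ) * q = ((ε * q : ℤ) : ℚ) by push_cast; rfl, Rat.num_intCast]
  have hw := B.hw
  obtain ⟨k, hk⟩ := B.odd_w
  subst hk
  rcases B.sign with rfl | rfl
  · obtain ⟨l, hl⟩ : Odd z := by
      rcases Int.even_or_odd z with ⟨l, hl⟩ | h
      · exfalso; subst hl; ring_nf at hz; omega
      · exact h
    subst hl
    obtain ⟨o, ho⟩ := Int.even_mul_succ_self l
    have : (2 * l + 1) ^ 2 = 8 * o + 1 := by linear_combination 4 * ho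
    omega
  · have := sq_nonneg z
    have := B.five_le
    omega

/-- For `ε = -1` the halves are complex conjugate. -/
theorem conj_e₁ (hε : ε = -1) (x : L) : conj ((B.e₁ : L → ℂ) x) = (B.e₂ : L → ℂ) x := by
  subst hε
  by_cases hx : x = 1
  · rw [hx, B.deg_e₁, B.deg_e₂, map_natCast]
  rcases B.cases x hx with ⟨-, -, hadd, hsq⟩ | ⟨-, -, h1, h2⟩ | ⟨-, -, h1, h2⟩
  · push_cast at hadd hsq
    set α := (B.e₁ : L → ℂ) x
    set β := (B.e₂ : L → ℂ) x
    have hre : ((α - β) ^ 2).re = -(q : ℝ) := by rw [hsq]; simp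
    have him : ((α - β) ^ 2).im = 0 := by rw [hsq]; simp
    have ha1 : α.re + β.re = -1 := by simpa using congrArg Complex.re hadd
    have ha2 : α.im + β.im = 0 := by simpa using congrArg Complex.im hadd
    rw [sq] at hre him
    simp only [Complex.mul_re, Complex.mul_im, Complex.sub_re, Complex.sub_im] at hre him
    have hq : (5 : ℝ) ≤ q := by exact_mod_cast B.five_le
    have h0 : α.re = β.re := by
      by_contra hne
      have hi : α.im - β.im = 0 := by
        have : (α.re - β.re) * (α.im - β.im) = 0 := by linarith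
        exact (mul_eq_zero.1 this).resolve_left (sub_ne_zero.2 hne)
      rw [hi] at hre
      nlinarith [mul_self_nonneg (α.re - β.re)]
    refine Complex.ext ?_ ?_
    · rw [Complex.conj_re, h0]
    · rw [Complex.conj_im]; linarith
  · rw [h1, h2]
    split_ifs <;> simp
  · rw [h1, h2, map_zero]

end PBlock

section Existence

variable {F : Type u} [Field F] [Fintype F] [DecidableEq F]

local notation "Mat" => Matrix (Fin 2) (Fin 2) F
local notation "qC" => (Fintype.card F : ℂ)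
local notation "PSL" => Matrix.ProjectiveSpecialLinearGroup (Fin 2) F

theorem mk_eq_one_iff_scal (g : SL(2, F)) :
    (QuotientGroup.mk g : PSL) = 1 ↔ Scal (g : Mat) :=
  (QuotientGroup.eq_one_iff g).trans ⟨scal_of_center, scal_center⟩

theorem scal_pow_iff_of_isConj {g k : SL(2, F)} (h : IsConj g k) (m : ℕ) :
    Scal ((g ^ m : SL(2, F)) : Mat) ↔ Scal ((k ^ m : SL(2, F)) : Mat) := by
  obtain ⟨x, hx⟩ := isConj_iff.1 h
  have hm : IsConj (g ^ m) (k ^ m) := isConj_iff.2 ⟨x, by rw [← hx, conj_pow]⟩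
  have key : ∀ {a b : SL(2, F)}, IsConj a b → Scal (a : Mat) → Scal (b : Mat) := fun hab ha =>
    (sl_isConj_trace hab).2 ha ▸ ha
  exact ⟨key hm, key hm.symm⟩

theorem diagSL_pow (a : Fˣ) (m : ℕ) : diagSL a ^ m = diagSL (a ^ m) := by
  induction m with
  | zero =>
    refine Subtype.ext ?_
    show (1 : Mat) = (diagSL (a ^ 0) : Mat)
    rw [coe_diagSL, pow_zero, Units.val_one, inv_one, Matrix.one_fin_two]
  | succ m ih =>
    rw [pow_succ, ih, pow_succ]
    refine Subtype.ext ?_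
    show (diagSL (a ^ m) : Mat) * (diagSL a : Mat) = (diagSL (a ^ m * a) : Mat)
    rw [coe_diagSL, coe_diagSL, coe_diagSL]
    ext i j
    fin_cases i <;> fin_cases j <;> simp [Matrix.mul_apply, Fin.sum_univ_two, mul_comm]

theorem scal_diagSL_iff (a : Fˣ) : Scal (diagSL a : Mat) ↔ (a : F) ^ 2 = 1 := by
  refine ⟨fun h => by_contra fun hn => not_scal_diagSL hn h, fun h => ?_⟩
  have : (a : F)⁻¹ = a := inv_eq_of_mul_eq_one_right (by rw [← sq]; exact h)
  simp [Scal, coe_diagSL, this]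

theorem scal_diag_pow (a : Fˣ) (m : ℕ) :
    Scal ((diagSL a ^ m : SL(2, F)) : Mat) ↔ a ^ (2 * m) = 1 := by
  rw [diagSL_pow, scal_diagSL_iff, ← Units.val_pow_eq_pow_val, ← pow_mul, mul_comm,
    Units.val_eq_one]

theorem scal_tor_pow {t₀ d₀ : F} {h₀ : rts t₀ d₀ = ∅} (c : torS h₀) (m : ℕ) :
    Scal (((c : SL(2, F)) ^ m : SL(2, F)) : Mat) ↔ c ^ (2 * m) = 1 := by
  rw [mul_comm, pow_mul, ← Subgroup.coe_pow]
  constructor
  · intro hs
    refine Subtype.ext (Subtype.ext ?_)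
    have hd := sl_det ((c ^ m : torS h₀) : SL(2, F))
    rw [scal_eq hs, Matrix.det_smul, Matrix.det_one, mul_one, Fintype.card_fin] at hd
    show ((((c ^ m) ^ 2 : torS h₀) : SL(2, F)) : Mat) = 1
    rw [Subgroup.coe_pow, Matrix.SpecialLinearGroup.coe_pow, scal_eq hs, smul_pow, one_pow, hd,
      one_smul]
  · intro h
    by_contra hn
    exact inv_ne_torS h₀ hn ((sq_one_iff_inv (c ^ m)).1 h)

variable {t₀ d₀ : F} {h₀ : rts t₀ d₀ = ∅}

theorem stS_apply (g : SL(2, F)) : stS F g = indS (1 : MulChar F ℂ) g - 1 := rfl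

theorem stS_scal (r : Sg F) : stS F (scalSL r.1 (sg_sq r)) = qC := by
  rw [stS_apply, indS_sg, MulChar.one_apply (sg_ne r).isUnit]; ring

theorem stS_par (r : Sg F) {b : F} (hb : b ≠ 0) : stS F (parSL r.1 b (sg_sq r)) = 0 := by
  rw [stS_apply, indS_par 1 r hb, MulChar.one_apply (sg_ne r).isUnit]; ring

theorem stS_diag {a : Fˣ} (ha : (a : F) ^ 2 ≠ 1) : stS F (diagSL a) = 1 := by
  rw [stS_apply, indS_diag 1 ha, MulChar.one_apply a.isUnit, MulChar.one_apply a.isUnit.inv]; ring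

theorem stS_tor {c : torS h₀} (hc : ¬ Scal ((c : SL(2, F)) : Mat)) : stS F c = -1 := by
  rw [stS_apply, indS_tor 1 hc]; ring

theorem odd_card_of_eight (hq : Fintype.card F % 8 = 3 ∨ Fintype.card F % 8 = 5) :
    Odd (Fintype.card F) := Nat.odd_iff.2 (by omega)

variable (p : ℕ) [hp : Fact p.Prime] [CharP F p]

include hp in
theorem scal_par_pow (r : Sg F) (b : F) :
    Scal ((parSL r.1 b (sg_sq r) ^ p : SL(2, F)) : Mat) := by
  have hpow : ∀ m : ℕ, ((parSL r.1 b (sg_sq r) ^ m : SL(2, F)) : Mat) =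
      !![r.1 ^ m, (m : F) * r.1 ^ (m - 1) * b; 0, r.1 ^ m] := by
    intro m
    induction m with
    | zero =>
      rw [pow_zero, Matrix.SpecialLinearGroup.coe_one, Matrix.one_fin_two]
      simp
    | succ m ih =>
      rw [pow_succ, Matrix.SpecialLinearGroup.coe_mul, ih, coe_parSL]
      ext i j
      fin_cases i <;> fin_cases j <;> simp [Matrix.mul_apply, Fin.sum_univ_two, pow_succ]
      rcases m with _ | m
      · simp
      · simp [pow_succ]; ring
  simp [Scal, hpow, CharP.cast_eq_zero]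

/-- The block from the halves of the character of norm two. -/
theorem exists_of_halves {θ a b : SL(2, F) → ℂ} (H : Halves h₀ θ a b) {w v : ℕ} {ε : ℤ}
    (hε : ε = 1 ∨ ε = -1) (h5 : 5 ≤ Fintype.card F) (hw : (Fintype.card F : ℤ) - ε = 4 * w)
    (hv : (Fintype.card F : ℤ) + ε = 2 * v) (how : Odd w) (hov : Odd v) (hp2 : p ≠ 2)
    (hsign : (-1 : ℂ) ^ ((Fintype.card F - 1) / 2) = ε)
    (hscal : ∀ r : Sg F, θ (scalSL r.1 (sg_sq r)) = qC + ε)
    (hpar : ∀ (r : Sg F) (u : Fˣ), θ (parSL r.1 u (sg_sq r)) = ε)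
    (hsemi : ∀ g : SL(2, F), ((∃ x : Fˣ, (x : F) ^ 2 ≠ 1 ∧ g = diagSL x) ∨
        ∃ c : torS h₀, ¬ Scal ((c : SL(2, F)) : Mat) ∧ g = (c : SL(2, F))) →
      (Scal ((g ^ (2 * w) : SL(2, F)) : Mat) ∧ stS F g = ε ∧
        θ g = if Scal ((g ^ w : SL(2, F)) : Mat) then 2 * (ε : ℂ) else -(2 * (ε : ℂ))) ∨
      (Scal ((g ^ v : SL(2, F)) : Mat) ∧ stS F g = -(ε : ℂ) ∧ θ g = 0))
    (hirr : ∀ χ : SL(2, F) → ℂ, Cfsg.IsIrrCharacter SL(2, F) χ →
      χ = (fun _ => 1) ∨ χ = stS F ∨ χ = a ∨ χ = b ∨ ∃ k : ℕ, χ 1 = 2 * k) :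
    Nonempty (PBlock PSL p (Fintype.card F) w v ε) := by
  have hodd : Odd (Fintype.card F) := by
    rw [Nat.odd_iff]; rcases hε with rfl | rfl <;> omega
  have h2 := two_ne_zero_of_odd hodd
  have hv2 : qC + (ε : ℂ) = 2 * (v : ℂ) := by exact_mod_cast hv
  -- triviality on the centre
  have hcen : ∀ {χ : SL(2, F) → ℂ}, (∀ r : Sg F, χ (scalSL r.1 (sg_sq r)) = χ 1) →
      ∀ z ∈ Subgroup.center SL(2, F), χ z = χ 1 := fun hχ z hz => by
    obtain ⟨r, rfl⟩ : ∃ r : Sg F, z = scalSL r.1 (sg_sq r) := by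
      rcases sl_cases h₀ z with h | ⟨r, u, hc⟩ | ⟨x, hx, hc⟩ | ⟨c, hc0, hc⟩
      · exact h
      · exact absurd ((sl_isConj_trace hc.symm).2 (scal_of_center hz) ▸ scal_of_center hz)
          (not_scal_parSL _ u.ne_zero)
      · exact absurd ((sl_isConj_trace hc.symm).2 (scal_of_center hz) ▸ scal_of_center hz)
          (not_scal_diagSL hx)
      · exact absurd ((sl_isConj_trace hc.symm).2 (scal_of_center hz) ▸ scal_of_center hz) hc0
    exact hχ r
  have hθ1 : θ 1 = qC + ε := by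
    have := hscal ⟨1, sg_one⟩
    rwa [show scalSL (1 : F) (sg_sq (⟨1, sg_one⟩ : Sg F)) = (1 : SL(2, F)) from Subtype.ext (by
      show (scalSL (1 : F) _ : Mat) = 1; rw [coe_scalSL, one_smul])] at this
  have hdeg : ∀ {χ : SL(2, F) → ℂ} {χ' : SL(2, F) → ℂ}, Halves h₀ θ χ χ' →
      (∀ r : Sg F, χ (scalSL r.1 (sg_sq r)) = χ 1) ∧ χ 1 = v := fun {χ χ'} H' => by
    refine ⟨fun r => ?_, ?_⟩
    · rw [(H'.semi_eq (Or.inl (scal_scalSL _ _))).1, H'.apply_one, hscal, hθ1]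
    · rw [H'.apply_one, hθ1, hv2]; ring
  obtain ⟨S, hS, eS⟩ := Char.IsIrrCharacter.exists_deflate (isIrr_stS (F := F))
    (Subgroup.center SL(2, F)) (hcen fun r => by rw [stS_scal, stS_apply_one])
  obtain ⟨E₁, hE₁, eE₁⟩ := Char.IsIrrCharacter.exists_deflate H.ha
    (Subgroup.center SL(2, F)) (hcen (hdeg H).1)
  obtain ⟨E₂, hE₂, eE₂⟩ := Char.IsIrrCharacter.exists_deflate H.hb
    (Subgroup.center SL(2, F)) (hcen (hdeg H.symm).1)
  have vS : ∀ g : SL(2, F), S (QuotientGroup.mk g : PSL) = stS F g := fun g => (congrFun eS g).symm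
  have v1 : ∀ g : SL(2, F), E₁ (QuotientGroup.mk g : PSL) = a g := fun g => (congrFun eE₁ g).symm
  have v2 : ∀ g : SL(2, F), E₂ (QuotientGroup.mk g : PSL) = b g := fun g => (congrFun eE₂ g).symm
  have hinvz : ∀ (r : Sg F) (g : SL(2, F)),
      (a - b) (scalSL r.1 (sg_sq r) * g) = (a - b) g := fun r g => by
    rw [Pi.sub_apply, Pi.sub_apply, ← v1, ← v2, ← v1 g, ← v2 g, QuotientGroup.mk_mul,
      (mk_eq_one_iff_scal _).2 (scal_scalSL _ _), one_mul]
  have hoth : ∀ χ : Cfsg.IrrCharacter PSL, (χ : PSL → ℂ) ≠ (fun _ => 1) → (χ : PSL → ℂ) ≠ S →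
      (χ : PSL → ℂ) ≠ E₁ → (χ : PSL → ℂ) ≠ E₂ → ∃ k : ℕ, (χ : PSL → ℂ) 1 = 2 * k := by
    intro χ n0 n1 n2 n3
    have hi := Char.IsIrrCharacter.comp_surjective χ.2 (QuotientGroup.mk' _)
      (QuotientGroup.mk'_surjective (Subgroup.center SL(2, F)))
    have hext : ∀ f : PSL → ℂ, (∀ g : SL(2, F), (χ : PSL → ℂ) (QuotientGroup.mk g) =
        f (QuotientGroup.mk g)) → (χ : PSL → ℂ) = f := fun f h =>
      funext fun y => QuotientGroup.induction_on y h
    rcases hirr _ hi with e | e | e | e | ⟨k, hk⟩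
    · exact absurd (hext (fun _ => 1) fun g => congrFun e g) n0
    · exact absurd (hext _ fun g => (congrFun e g).trans (vS g).symm) n1
    · exact absurd (hext _ fun g => (congrFun e g).trans (v1 g).symm) n2
    · exact absurd (hext _ fun g => (congrFun e g).trans (v2 g).symm) n3
    · exact ⟨k, hk⟩
  refine ⟨⟨⟨S, hS⟩, ⟨E₁, hE₁⟩, ⟨E₂, hE₂⟩, hε, hp.out, hp2, ?_, h5, hw, hv, how, hov, ?_, ?_, ?_, ?_,
    fun x hx => ?_, fun χ n0 n1 n2 n3 => hoth χ n0 (fun e => n1 (Subtype.ext e))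
      (fun e => n2 (Subtype.ext e)) fun e => n3 (Subtype.ext e)⟩⟩
  · obtain ⟨n, -, hn⟩ := FiniteField.card F p
    exact ⟨n, hn⟩
  · intro e
    refine H.ne (funext fun g => ?_)
    rw [← v1, ← v2]
    exact congrFun (congrArg Subtype.val e) _
  · show S 1 = _
    rw [← stS_apply_one, ← vS 1]; rfl
  · show E₁ 1 = _
    rw [← (hdeg H).2, ← v1 1]; rfl
  · show E₂ 1 = _
    rw [← (hdeg H.symm).2, ← v2 1]; rfl
  obtain ⟨g, rfl⟩ := QuotientGroup.mk_surjective x
  show ((QuotientGroup.mk g : PSL) ^ p = 1 ∧ S _ = 0 ∧ E₁ _ + E₂ _ = _ ∧ (E₁ _ - E₂ _) ^ 2 = _) ∨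
    (_ ∧ S _ = _ ∧ E₁ _ = _ ∧ E₂ _ = _) ∨ (_ ∧ S _ = _ ∧ E₁ _ = _ ∧ E₂ _ = _)
  simp only [vS, v1, v2, ← QuotientGroup.mk_pow, mk_eq_one_iff_scal]
  have hg : ¬ Scal (g : Mat) := fun h => hx ((mk_eq_one_iff_scal g).2 h)
  have hSc : ∀ {k : SL(2, F)}, IsConj k g → stS F g = stS F k ∧ a g = a k ∧ b g = b k := fun hk =>
    ⟨(irr_conj (isIrr_stS (F := F)) hk).symm, (irr_conj H.ha hk).symm, (irr_conj H.hb hk).symm⟩
  have hss : ∀ k : SL(2, F), IsConj k g → Semi k →
      ((∃ x : Fˣ, (x : F) ^ 2 ≠ 1 ∧ k = diagSL x) ∨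
        ∃ c : torS h₀, ¬ Scal ((c : SL(2, F)) : Mat) ∧ k = (c : SL(2, F))) →
      (Scal ((g ^ (2 * w) : SL(2, F)) : Mat) ∧ stS F g = ε ∧
          a g = (if Scal ((g ^ w : SL(2, F)) : Mat) then (ε : ℂ) else -(ε : ℂ)) ∧
          b g = (if Scal ((g ^ w : SL(2, F)) : Mat) then (ε : ℂ) else -(ε : ℂ))) ∨
        (Scal ((g ^ v : SL(2, F)) : Mat) ∧ stS F g = -(ε : ℂ) ∧ a g = 0 ∧ b g = 0) := by
    intro k hk hs hk'
    obtain ⟨e1, e2, e3⟩ := hSc hk
    rw [e1, e2, e3, (H.semi_eq hs).1, (H.semi_eq hs).2, ← scal_pow_iff_of_isConj hk v,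
      ← scal_pow_iff_of_isConj hk (2 * w)]
    simp only [← scal_pow_iff_of_isConj hk w]
    rcases hsemi k hk' with ⟨h1, h2', h3⟩ | ⟨h1, h2', h3⟩
    · refine Or.inl ⟨h1, h2', ?_, ?_⟩ <;> rw [h3] <;> split_ifs <;> ring
    · exact Or.inr ⟨h1, h2', by rw [h3]; ring, by rw [h3]; ring⟩
  rcases sl_cases h₀ g with ⟨r, rfl⟩ | ⟨r, u, hc⟩ | ⟨z, hz, hc⟩ | ⟨c, hc0, hc⟩
  · exact absurd (scal_scalSL _ _) hg
  · left
    obtain ⟨e1, e2, e3⟩ := hSc hc
    rw [e1, e2, e3]
    refine ⟨(scal_pow_iff_of_isConj hc p).1 (scal_par_pow p r (u : F)), stS_par r u.ne_zero, ?_, ?_⟩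
    · rw [← Pi.add_apply, ← H.add]; exact hpar r u
    · rw [← Pi.sub_apply]
      -- reduce to the sign `1`
      have hm : scalSL r.1 (sg_sq r) * parSL 1 ((sgU r * u : Fˣ) : F) (one_pow 2) =
          parSL r.1 (u : F) (sg_sq r) := by
        refine Subtype.ext ?_
        show (scalSL r.1 (sg_sq r) : Mat) * (parSL 1 ((sgU r * u : Fˣ) : F) (one_pow 2) : Mat) = _
        rw [coe_scalSL, coe_parSL]
        show _ = !![r.1, (u : F); 0, r.1]
        ext i j
        fin_cases i <;> fin_cases j <;> simp [sgU, ← mul_assoc, ← sq, sg_sq r]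
      rw [← hm, hinvz, ← hsign]
      set x := sgU r * u
      by_cases hx' : x ∈ sqUnits F
      · obtain ⟨t, ht⟩ := mem_sqUnits.1 hx'
        rw [← H.diff_sq h2, H.diff_class _ _ ((parSL_isConj (one_pow 2) (one_pow 2) one_ne_zero).2
          ⟨rfl, (t : F), t.ne_zero, by rw [one_mul, ← Units.val_pow_eq_pow_val, ht]⟩)]
      · have h := H.diff_par h2 (e := x⁻¹) (fun h => hx' (inv_mem_iff.1 h)) ⟨1, sg_one⟩ 1
        rw [inv_inv, one_mul] at h
        rw [← H.diff_sq h2, ← neg_sq ((a - b) (parSL 1 1 (one_pow 2)))]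
        exact congrArg (· ^ 2) h
  · exact Or.inr (hss _ hc (semi_diag hz) (Or.inl ⟨z, hz, rfl⟩))
  · exact Or.inr (hss _ hc (semi_tor hc0) (Or.inr ⟨c, hc0, rfl⟩))

/-- The principal `2`-block of `PSL₂(q)`. -/
theorem exists_pBlock (h5 : 5 ≤ Fintype.card F)
    (hq : Fintype.card F % 8 = 3 ∨ Fintype.card F % 8 = 5) :
    ∃ v : ℕ, Nonempty (PBlock PSL p (Fintype.card F) (torusOrder (Fintype.card F)) v
      (epsQ (Fintype.card F))) := by
  have hodd := odd_card_of_eight hq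
  have hp2 : p ≠ 2 := fun h => by
    subst h
    exact two_ne_zero_of_odd hodd (by exact_mod_cast CharP.cast_eq_zero F 2)
  obtain ⟨t₀, d₀, -, h₀⟩ := exists_irreducible (F := F)
  obtain ⟨T⟩ := exists_oddTable h₀ hodd
  haveI := isCyclic_torS h₀
  have htor : ∀ c : torS h₀, c ^ (Fintype.card F + 1) = 1 := fun c => by
    rw [← card_torS h₀]; exact pow_card_eq_one'
  have hdia : ∀ x : Fˣ, x ^ (Fintype.card F - 1) = 1 := fun x => by
    rw [← Fintype.card_units]; exact pow_card_eq_one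
  rcases hq with h3 | h5'
  · -- `q ≡ 3`
    rw [torusOrder, epsQ, if_pos (by omega), if_pos (by omega)]
    refine ⟨(Fintype.card F - 1) / 2,
      exists_of_halves p T.HP (Or.inr rfl) h5 (by omega) (by omega)
        (Nat.odd_iff.2 (by omega)) (Nat.odd_iff.2 (by omega)) hp2 ?_ ?_ ?_
        ?_ (fun χ hχ => by
          obtain ⟨n, hn, hc⟩ := irr_SL_odd T hodd hχ
          rcases hc with ⟨-, h⟩ | ⟨-, h⟩ | ⟨e, -⟩ | ⟨e, -⟩ | ⟨e, -⟩ | ⟨-, h | h⟩
          · exact Or.inl h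
          · exact Or.inr (Or.inl h)
          pick_goal 4
          · exact Or.inr (Or.inr (Or.inl h))
          pick_goal 4
          · exact Or.inr (Or.inr (Or.inr (Or.inl h)))
          all_goals exact Or.inr (Or.inr (Or.inr (Or.inr
            ⟨n / 2, by rw [hn]; exact_mod_cast (show n = 2 * (n / 2) by omega)⟩))))⟩
    · rw [(Nat.odd_iff.2 (by omega) : Odd ((Fintype.card F - 1) / 2)).neg_one_pow]
      norm_num
    all_goals
      have hcard : Nat.card (torS h₀) = 2 * (2 * ((Fintype.card F + 1) / 4)) := by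
        rw [card_torS]; omega
      have hψ : ∀ c : torS h₀,
          (T.ψ c : ℂ) = if c ^ (2 * ((Fintype.card F + 1) / 4)) = 1 then 1 else -1 :=
        fun c => quad_value hcard T.ψ_ne T.ψ_sq c
      have hψr : ∀ r : Sg F, (T.ψ (sgT h₀ r) : ℂ) = 1 := fun r => by
        rw [hψ, if_pos]
        have h2 : sgT h₀ r ^ (2 * 1) = 1 :=
          (scal_tor_pow (sgT h₀ r) 1).1 (by rw [pow_one]; exact scal_scalSL r.1 (sg_sq r))
        rw [mul_one] at h2
        rw [pow_mul, h2, one_pow]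
    · intro r; rw [piS_scal, hψr]; push_cast; ring
    · intro r u; rw [piS_par h₀ _ r u.ne_zero, hψr]; norm_num
    rintro g (⟨x, hx, rfl⟩ | ⟨c, hc, rfl⟩)
    · refine Or.inr ⟨?_, by rw [stS_diag hx]; norm_num, piS_diag h₀ _ hx⟩
      rw [scal_diag_pow, show 2 * ((Fintype.card F - 1) / 2) = Fintype.card F - 1 by omega]
      exact hdia x
    · refine Or.inl ⟨?_, by rw [stS_tor hc]; norm_num, ?_⟩
      · rw [scal_tor_pow, show 2 * (2 * ((Fintype.card F + 1) / 4)) = Fintype.card F + 1 by omega]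
        exact htor c
      · rw [piS_tor h₀ _ hc, hψ c]
        simp only [scal_tor_pow, Units.val_inv_eq_inv_val, hψ c]
        split_ifs <;> norm_num
  · -- `q ≡ 5`
    rw [torusOrder, epsQ, if_neg (by omega), if_neg (by omega)]
    refine ⟨(Fintype.card F + 1) / 2,
      exists_of_halves p T.HI (Or.inl rfl) h5 (by omega) (by omega)
        (Nat.odd_iff.2 (by omega)) (Nat.odd_iff.2 (by omega)) hp2 ?_ ?_ ?_
        ?_ (fun χ hχ => by
          obtain ⟨n, hn, hc⟩ := irr_SL_odd T hodd hχ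
          rcases hc with ⟨-, h⟩ | ⟨-, h⟩ | ⟨e, -⟩ | ⟨e, -⟩ | ⟨-, h | h⟩ | ⟨e, -⟩
          · exact Or.inl h
          · exact Or.inr (Or.inl h)
          pick_goal 3
          · exact Or.inr (Or.inr (Or.inl h))
          pick_goal 3
          · exact Or.inr (Or.inr (Or.inr (Or.inl h)))
          all_goals exact Or.inr (Or.inr (Or.inr (Or.inr
            ⟨n / 2, by rw [hn]; exact_mod_cast (show n = 2 * (n / 2) by omega)⟩))))⟩
    · rw [(Nat.even_iff.2 (by omega) : Even ((Fintype.card F - 1) / 2)).neg_one_pow]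
      norm_num
    all_goals
      have hcard : Nat.card Fˣ = 2 * (2 * ((Fintype.card F - 1) / 4)) := by
        rw [Nat.card_units, Nat.card_eq_fintype_card]; omega
      have hne : T.α.toUnitHom ≠ 1 := fun h => T.α_ne (MulChar.ext fun u => by
        rw [← MulChar.coe_toUnitHom, h, MulChar.one_apply_coe]; rfl)
      have hsq : T.α.toUnitHom ^ 2 = 1 := MonoidHom.ext fun u => Units.ext (by
        show ((T.α.toUnitHom u ^ 2 : ℂˣ) : ℂ) = 1
        rw [Units.val_pow_eq_pow_val, MulChar.coe_toUnitHom, ← MulChar.pow_apply_coe, T.α_sq,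
          MulChar.one_apply_coe])
      have hα : ∀ x : Fˣ, T.α (x : F) =
          if x ^ (2 * ((Fintype.card F - 1) / 4)) = 1 then 1 else -1 := fun x => by
        rw [← MulChar.coe_toUnitHom]; exact quad_value hcard hne hsq x
      have hαr : ∀ r : Sg F, T.α r.1 = 1 := fun r => by
        show T.α ((sgU r : Fˣ) : F) = 1
        rw [hα, if_pos]
        rw [pow_mul, show sgU r ^ 2 = 1 from Units.ext (sg_sq r), one_pow]
    · intro r; rw [indS_sg, hαr]; push_cast; ring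
    · intro r u; rw [indS_par _ r u.ne_zero, hαr]; norm_num
    rintro g (⟨x, hx, rfl⟩ | ⟨c, hc, rfl⟩)
    · refine Or.inl ⟨?_, by rw [stS_diag hx]; norm_num, ?_⟩
      · rw [scal_diag_pow, show 2 * (2 * ((Fintype.card F - 1) / 4)) = Fintype.card F - 1 by omega]
        exact hdia x
      · rw [indS_diag _ hx, ← Units.val_inv_eq_inv_val, hα, hα]
        simp only [scal_diag_pow, inv_pow, inv_eq_one]
        split_ifs <;> norm_num
    · refine Or.inr ⟨?_, by rw [stS_tor hc]; norm_num, indS_tor _ hc⟩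
      rw [scal_tor_pow, show 2 * ((Fintype.card F + 1) / 2) = Fintype.card F + 1 by omega]
      exact htor c

end Existence

end CfsgLib.Recognition.ReeCentralizer
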