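import Cfsg.Agent.Lib.Recognition.ReeCentralizer.Section
import Cfsg.Agent.Lib.Recognition.ReeCentralizer.PSLBlock
import Cfsg.Agent.Lib.Blocks.FourGroupOrder
import Cfsg.Agent.Lib.GWDihedral.ModelTorus
import Cfsg.Agent.Lib.Recognition.ReeCentralizer.Small
import Cfsg.Agent.Lib.ClassSizePSL.Structure

/-!
# The count for the rows

An involution `a` inverting `t y`, `y ∈ L` of odd order, centralises `t`; so the number of pairs of
involutions with product `t y` is twice the number of pairs of involutions of `L` with product `y`,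
and the latter is given by the characters of `L`.  Only `1` and `χ_i` meet `1 - σ_i χ_i`.
-/

set_option autoImplicit false
set_option linter.unusedSectionVars false
set_option linter.style.haveILetI false

namespace CfsgLib.Recognition.ReeCentralizer

open Subgroup Cfsg CfsgLib.Blocks
open scoped _root_.Classical ComplexConjugate

universe u v

/-- The class multiplication coefficient of one class of involutions. -/
theorem sum_classInd_involutions {K : Type*} [Group K] [Fintype K] {t : K} (ht : orderOf t = 2)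
    (hone : ∀ g : K, orderOf g = 2 → IsConj t g) (z : K) :
    ∑ x : K, classInd t x * classInd t (x⁻¹ * z⁻¹) =
      ((Finset.univ.filter fun x : K => orderOf x = 2 ∧ orderOf (x * z⁻¹) = 2).card : ℂ) := by
  have hiff : ∀ g : K, IsConj t g ↔ orderOf g = 2 := fun g => by
    refine ⟨fun h => ?_, hone g⟩
    obtain ⟨c, hc⟩ := isConj_iff.1 h
    rw [← hc, show c * t * c⁻¹ = MulAut.conj c t from rfl, MulEquiv.orderOf_eq, ht]
  rw [Finset.card_filter, Nat.cast_sum]
  refine Finset.sum_congr rfl fun x _ => ?_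
  simp only [classInd, hiff]
  by_cases h : orderOf x = 2
  · rw [BrauerSuzuki.inv_eq_of_orderOf_two h]
    simp [h]
  · simp [h]

/-- All involutions of `PSL₂(q)`, `q` odd, are conjugate. -/
theorem psl_isConj_involutions {F : Type v} [Field F] [Fintype F] (hodd : Odd (Fintype.card F))
    (hq : 4 ≤ Fintype.card F) {u v : PSL F} (hu : orderOf u = 2) (hv : orderOf v = 2) :
    IsConj u v := by
  obtain ⟨p, hpc⟩ := CharP.exists F
  obtain ⟨f, hp, hf⟩ := FiniteField.card F p
  haveI := Fact.mk hp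
  refine ClassSizePSL.Structure.involutions_conj p hq (fun e => ?_) hu hv
  rw [hf, e] at hodd
  exact (Nat.not_odd_iff_even.2 (Nat.even_pow.2 ⟨even_two, f.ne_zero⟩)) hodd

namespace Setting

variable {G : Type u} [Group G] {F : Type v} [Field F] [Fintype F] {t : G}
variable (S : Setting G F t)

/-- `X = - ε |C(t)|² / |G|`. -/
noncomputable def bigX (_ : Setting G F t) : ℂ :=
  -(epsQ (Fintype.card F) : ℂ) * (Nat.card (centralizer ({t} : Set G)) : ℂ) ^ 2 / (Nat.card G : ℂ)

include S

/-- The order of `L` and of the centraliser of an involution of `L`. -/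
theorem exists_involution_psl : ∃ u : PSL F, orderOf u = 2 ∧
    2 * (Nat.card (PSL F) : ℂ) =
      (Fintype.card F : ℂ) * ((Fintype.card F : ℂ) ^ 2 - 1) ∧
    (Nat.card (centralizer ({u} : Set (PSL F))) : ℂ) =
      (Fintype.card F : ℂ) - (epsQ (Fintype.card F) : ℂ) := by
  have hq := S.large
  have hm := S.mod_eight
  obtain ⟨u, hu⟩ := exists_prime_orderOf_dvd_card' (G := PSL F) 2 (two_dvd_psl (by omega))
  obtain ⟨A, hA⟩ := GWDihedral.exists_torus (MulEquiv.refl (PSL F)) S.odd_card (by omega) hu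
  refine ⟨u, hu, ?_, ?_⟩
  · have h := hA.card_group
    have h' : ((2 * Nat.card (PSL F) : ℕ) : ℂ) =
        (((Fintype.card F + 1) * Fintype.card F * (Fintype.card F - 1) : ℕ) : ℂ) := by rw [h]
    push_cast [Nat.cast_sub (show 1 ≤ Fintype.card F by omega)] at h'
    linear_combination h'
  · have h2 : 2 ∣ Nat.card A := by
      have h := orderOf_dvd_natCard (⟨u, hA.mem⟩ : A)
      rwa [Subgroup.orderOf_mk, hu] at h
    have hc : (Nat.card (centralizer ({u} : Set (PSL F))) : ℤ) =
        (Fintype.card F : ℤ) - epsQ (Fintype.card F) := by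
      rw [hA.card_centralizer]
      obtain ⟨m, hm2⟩ := h2
      rw [epsQ]
      split_ifs with h4 <;> rcases hA.card with e | e <;> omega
    exact_mod_cast hc

variable [Fintype G]

/-- The pairs of involutions with product `t y`, `y` of odd order. -/
theorem card_pairs {y : PSL F} (hy : Odd (orderOf y)) :
    (Finset.univ.filter fun a : G => orderOf a = 2 ∧ orderOf (a * (t * S.inj y)⁻¹) = 2).card =
      2 * (Finset.univ.filter fun i : PSL F => orderOf i = 2 ∧ orderOf (i * y⁻¹) = 2).card := by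
  set M := Finset.univ.filter fun i : PSL F => orderOf i = 2 ∧ orderOf (i * y⁻¹) = 2 with hM
  have hoi : ∀ i : PSL F, orderOf (S.inj i) = orderOf i := fun i =>
    orderOf_injective S.inj S.inj_injective i
  have hne : ∀ i j : PSL F, S.inj i ≠ t * S.inj j := fun i j e => by
    have h1 := S.sgn_inj i
    have h2 := S.sgn_tinj j
    simp only [← e] at h2
    rw [h1] at h2
    norm_num at h2
  have hot : ∀ j : PSL F, orderOf (t * S.inj j) = 2 ↔ j * j = 1 := fun j => by
    have hsq : (t * S.inj j) * (t * S.inj j) = S.inj (j * j) := by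
      rw [map_mul, (S.commute_inj j).symm.mul_mul_mul_comm, S.t_mul_self, one_mul]
    rw [orderOf_eq_prime_iff, sq, hsq]
    constructor
    · exact fun h => S.inj_injective (h.1.trans (map_one _).symm)
    · exact fun h => ⟨by rw [h, map_one], fun e => hne 1 j (by rw [map_one, e])⟩
  have hzi : (t * S.inj y)⁻¹ = t * S.inj y⁻¹ := by
    rw [mul_inv_rev, S.t_inv, ← map_inv, (S.commute_inj y⁻¹).eq]
  have he1 : ∀ i : PSL F, S.inj i * (t * S.inj y⁻¹) = t * S.inj (i * y⁻¹) := fun i => by
    rw [map_mul, ← mul_assoc, ← (S.commute_inj i).eq, mul_assoc]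
  have he2 : ∀ j : PSL F, t * S.inj j * (t * S.inj y⁻¹) = S.inj (j * y⁻¹) := fun j => by
    rw [(S.commute_inj j).symm.mul_mul_mul_comm, S.t_mul_self, one_mul, ← map_mul]
  have hset : (Finset.univ.filter fun a : G => orderOf a = 2 ∧ orderOf (a * (t * S.inj y)⁻¹) = 2) =
      M.image (fun i => S.inj i) ∪ M.image (fun i => t * S.inj i) := by
    ext a
    simp only [hM, hzi, Finset.mem_union, Finset.mem_image, Finset.mem_filter, Finset.mem_univ,
      true_and]
    constructor
    · rintro ⟨ha, hb⟩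
      -- `a` centralises `t`
      have haa : a * a = 1 := BrauerSuzuki.mul_self_of_orderOf_two ha
      have hbb := BrauerSuzuki.mul_self_of_orderOf_two hb
      have h1 : a * (t * S.inj y⁻¹) * a = (t * S.inj y⁻¹)⁻¹ := by
        rw [eq_inv_iff_mul_eq_one]
        simpa only [mul_assoc] using hbb
      have hat : a ∈ centralizer ({t} : Set G) := by
        have hy' : Odd (orderOf y⁻¹) := by rwa [orderOf_inv]
        have h2 := congrArg (fun g : G => g ^ orderOf y⁻¹) h1
        simp only [inv_pow, S.tinj_pow hy'] at h2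
        rw [show a * (t * S.inj y⁻¹) * a = a * (t * S.inj y⁻¹) * a⁻¹ by
          rw [BrauerSuzuki.inv_eq_of_orderOf_two ha], conj_pow, S.tinj_pow hy', S.t_inv] at h2
        exact mem_centralizer_singleton_iff.2 (mul_inv_eq_iff_eq_mul.1 h2)
      obtain ⟨i, rfl | rfl⟩ := S.exists_eq hat
      · rw [hoi] at ha
        rw [he1, hot] at hb
        refine Or.inl ⟨i, ⟨ha, orderOf_eq_prime (by rw [sq, hb]) fun e => ?_⟩, rfl⟩
        rw [mul_inv_eq_one] at e
        rw [← e, ha] at hy
        exact absurd hy (by decide)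
      · rw [he2, hoi] at hb
        refine Or.inr ⟨i, ⟨orderOf_eq_prime (by rw [sq]; exact (hot i).1 ha) fun e => ?_, hb⟩, rfl⟩
        rw [e, one_mul, orderOf_inv] at hb
        rw [hb] at hy
        exact absurd hy (by decide)
    · rintro (⟨i, ⟨hi, hj⟩, rfl⟩ | ⟨i, ⟨hi, hj⟩, rfl⟩)
      · exact ⟨by rw [hoi, hi], by
          rw [he1, hot]; exact BrauerSuzuki.mul_self_of_orderOf_two hj⟩
      · exact ⟨(hot i).2 (BrauerSuzuki.mul_self_of_orderOf_two hi), by rw [he2, hoi, hj]⟩
  rw [hset, Finset.card_union_of_disjoint, Finset.card_image_of_injective,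
    Finset.card_image_of_injective, two_mul]
  · exact fun i j e => S.inj_injective (mul_left_cancel e)
  · exact S.inj_injective
  · rw [Finset.disjoint_left]
    simp only [Finset.mem_image]
    rintro a ⟨i, -, rfl⟩ ⟨j, -, e⟩
    exact hne i j e.symm

/-- **The count for the rows.** -/
theorem count_row (hone : ∀ g : G, orderOf g = 2 → IsConj t g) {p v : ℕ}
    (B : PBlock (PSL F) p (Fintype.card F) (torusOrder (Fintype.card F)) v (epsQ (Fintype.card F)))
    (i : Fin 3) :
    ∑ χ : IrrCharacter G, classInner χ.1 (S.lift (B.phi i)) * (χ.1 t ^ 2 / χ.1 1) =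
      ![(bigQ (Fintype.card F) : ℂ) - 1,
        (bigQ (Fintype.card F) : ℂ) * ((bigQ (Fintype.card F) : ℂ) - 3) / ((bigQ (Fintype.card F) : ℂ) + 1),
        (bigQ (Fintype.card F) : ℂ) * ((bigQ (Fintype.card F) : ℂ) - 3) / ((bigQ (Fintype.card F) : ℂ) + 1)] i
        * S.bigX := by
  haveI : Fact (Nat.Prime 2) := ⟨Nat.prime_two⟩
  obtain ⟨u, hu, hL, hcu⟩ := S.exists_involution_psl
  have honeL : ∀ g : PSL F, orderOf g = 2 → IsConj u g := fun g hg =>
    psl_isConj_involutions S.odd_card S.four_le hu hg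
  set N : PSL F → ℂ := fun y =>
    ((Finset.univ.filter fun i : PSL F => orderOf i = 2 ∧ orderOf (i * y⁻¹) = 2).card : ℂ) with hN
  set c : ℂ := (Nat.card (centralizer ({t} : Set G)) : ℂ) with hc
  set g0 : ℂ := (Nat.card G : ℂ) with hg0
  set l0 : ℂ := (Nat.card (PSL F) : ℂ) with hl0
  set cu : ℂ := (Nat.card (centralizer ({u} : Set (PSL F))) : ℂ) with hcu0
  have hg : g0 ≠ 0 := Nat.cast_ne_zero.2 Nat.card_pos.ne'
  have hl : l0 ≠ 0 := Nat.cast_ne_zero.2 Nat.card_pos.ne'
  have hcu' : cu ≠ 0 := Nat.cast_ne_zero.2 Nat.card_pos.ne'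
  -- the sum over the characters of `G`
  have hG : ∀ y : PSL F, Odd (orderOf y) →
      ∑ χ : IrrCharacter G, χ.1 (t * S.inj y) * (χ.1 t ^ 2 / χ.1 1) = c ^ 2 / g0 * (2 * N y) := by
    intro y hy
    have h := FourGroup.sum_sq_mul_div_eq t (t * S.inj y)
    rw [sum_classInd_involutions S.t2 hone, S.card_pairs hy, Nat.cast_mul, Nat.cast_ofNat] at h
    rw [div_mul_eq_mul_div, eq_div_iff hg, mul_comm, ← h]
    congr 1
    exact Finset.sum_congr rfl fun χ _ => by ring
  have hLs : ∀ y : PSL F, N y = l0 / cu ^ 2 *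
      ∑ ψ : IrrCharacter (PSL F), ψ.1 u ^ 2 * ψ.1 y / ψ.1 1 := by
    intro y
    have h := FourGroup.sum_sq_mul_div_eq u y
    rw [sum_classInd_involutions hu honeL] at h
    rw [div_mul_eq_mul_div, eq_div_iff (pow_ne_zero 2 hcu'), mul_comm, h]
  have hterm : ∀ y : PSL F,
      (∑ χ : IrrCharacter G, χ.1 (t * S.inj y) * (χ.1 t ^ 2 / χ.1 1)) * conj (B.phi i y) =
        c ^ 2 / g0 * (2 * (l0 / cu ^ 2)) *
          ((∑ ψ : IrrCharacter (PSL F), ψ.1 u ^ 2 * ψ.1 y / ψ.1 1) * conj (B.phi i y)) := by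
    intro y
    by_cases hy : Odd (orderOf y)
    · rw [hG y hy, hLs y]; ring
    · rw [B.phi_vanish i (Nat.not_odd_iff_even.1 hy)]; simp
  have hswap : ∑ χ : IrrCharacter G, classInner χ.1 (S.lift (B.phi i)) * (χ.1 t ^ 2 / χ.1 1) =
      l0⁻¹ * ∑ y : PSL F,
        (∑ χ : IrrCharacter G, χ.1 (t * S.inj y) * (χ.1 t ^ 2 / χ.1 1)) * conj (B.phi i y) := by
    rw [Finset.sum_congr rfl fun χ _ => by
      rw [S.classInner_lift (Char.IsIrrCharacter.isClassFunction χ.2), classInner, Finset.mul_sum,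
        Finset.sum_mul], Finset.sum_comm, Finset.mul_sum]
    refine Finset.sum_congr rfl fun y _ => ?_
    rw [Finset.sum_mul, Finset.mul_sum]
    refine Finset.sum_congr rfl fun χ _ => ?_
    show l0⁻¹ * (S.sect χ.1 y * conj (B.phi i y)) * _ = _
    rw [sect]; ring
  rw [hswap, Finset.sum_congr rfl fun y _ => hterm y, ← Finset.mul_sum]
  have hψ : ∑ y : PSL F,
      (∑ ψ : IrrCharacter (PSL F), ψ.1 u ^ 2 * ψ.1 y / ψ.1 1) * conj (B.phi i y) =
        l0 * ∑ ψ : IrrCharacter (PSL F), ψ.1 u ^ 2 / ψ.1 1 * classInner ψ.1 (B.phi i) := by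
    rw [Finset.sum_congr rfl fun y _ => Finset.sum_mul _ _ _, Finset.sum_comm, Finset.mul_sum]
    refine Finset.sum_congr rfl fun ψ _ => ?_
    rw [classInner, Finset.mul_sum, Finset.mul_sum, Finset.mul_sum]
    refine Finset.sum_congr rfl fun y _ => ?_
    rw [← hl0]
    field_simp
  rw [hψ]
  -- only `1` and `χ_i` count
  have hu1 : Even (orderOf u) := by rw [hu]; exact even_two
  have hinner : ∀ ψ : IrrCharacter (PSL F), classInner ψ.1 (B.phi i) =
      (if ψ = trivChar (PSL F) then 1 else 0) - (B.sgn i : ℂ) * (if ψ = B.chi i then 1 else 0) := by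
    intro ψ
    have h1 : B.phi i = (trivChar (PSL F)).1 - (B.sgn i : ℂ) • (B.chi i).1 := by
      funext y
      rw [B.phi_apply, Pi.sub_apply, Pi.smul_apply, smul_eq_mul]
      rfl
    have key : ∀ η : IrrCharacter (PSL F), classInner ψ.1 η.1 = if ψ = η then 1 else 0 := fun η => by
      by_cases e : ψ = η
      · rw [if_pos e, e]; exact Char.classInner_irr_self η.2
      · rw [if_neg e]; exact Char.classInner_irr_ne ψ.2 η.2 fun e' => e (Subtype.ext e')
    rw [h1, Char.classInner_sub_right, Char.classInner_smul_right, map_intCast, key, key]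
  have hval : ∑ ψ : IrrCharacter (PSL F), ψ.1 u ^ 2 / ψ.1 1 * classInner ψ.1 (B.phi i) =
      1 - 1 / ((B.sgn i : ℂ) * (B.chi i).1 1) := by
    simp only [hinner, mul_sub, Finset.sum_sub_distrib, mul_ite, mul_one, mul_zero,
      Finset.sum_ite_eq', Finset.mem_univ, if_true, trivChar_apply, one_pow, div_one]
    rw [(B.chi_of_even i hu1).2]
    rcases Int.eq_one_or_neg_one_of_mul_eq_one (B.sgn_sq i) with e | e <;> rw [e] <;>
      push_cast <;> ring
  rw [hval, B.sgn_mul_deg i]
  -- the numbers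
  rw [Setting.bigX, ← hg0, ← hc, show bigQ (Fintype.card F) =
    -epsQ (Fintype.card F) * (Fintype.card F : ℤ) from rfl]
  have hsum : l0⁻¹ * (c ^ 2 / g0 * (2 * (l0 / cu ^ 2)) * l0) = c ^ 2 / g0 * (2 * l0 / cu ^ 2) := by
    field_simp
  rw [← mul_assoc (c ^ 2 / g0 * (2 * (l0 / cu ^ 2))), ← mul_assoc, hsum, hL, hcu]
  have h11 := S.large
  set q := Fintype.card F with hq
  rcases B.sign with e | e <;> rw [e] <;> push_cast
  · have h1 : (q : ℂ) - 1 ≠ 0 := by
      rw [sub_ne_zero]; exact_mod_cast (by omega : q ≠ 1)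
    have h2 : -(q : ℂ) + 1 ≠ 0 := by rw [neg_add_eq_sub, sub_ne_zero]; exact_mod_cast (by omega : 1 ≠ q)
    have h3 : -(q : ℂ) - 1 ≠ 0 := by
      rw [← neg_add', neg_ne_zero]; exact_mod_cast (by omega : q + 1 ≠ 0)
    have h0 : (q : ℂ) ≠ 0 := by exact_mod_cast (by omega : q ≠ 0)
    fin_cases i <;> simp <;> field_simp <;> ring
  · have h1 : (q : ℂ) + 1 ≠ 0 := by exact_mod_cast (by omega : q + 1 ≠ 0)
    have h3 : (q : ℂ) - 1 ≠ 0 := by
      rw [sub_ne_zero]; exact_mod_cast (by omega : q ≠ 1)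
    have h0 : (q : ℂ) ≠ 0 := by exact_mod_cast (by omega : q ≠ 0)
    fin_cases i <;> simp <;> field_simp <;> ring

end Setting

end CfsgLib.Recognition.ReeCentralizer
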