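import Cfsg.Agent.Lib.FrobRealize.FixedPointFree

/-!
# A dihedral group acting on a Frobenius kernel

If `y` of odd prime order `r` acts without fixed points on `K` of odd order and the involution `a`
inverts `y`, then `|C_K(a)|² = |K| ≡ 1 (mod r)`.
-/

set_option autoImplicit false
set_option linter.unusedSectionVars false
set_option linter.style.haveILetI false

namespace CfsgLib.Recognition.ReeCentralizer

open Subgroup

theorem fpf_count {M : Type*} [Group M] [Finite M] {K : Subgroup M} (hK : Odd (Nat.card K))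
    {y a : M} {r : ℕ} (hr : r.Prime) (hy : orderOf y = r) (hr2 : Odd r)
    (hyK : y ∈ normalizer (K : Set M)) (haK : a ∈ normalizer (K : Set M)) (ha : a * a = 1)
    (hay : a * y * a = y⁻¹) (hfpf : ∀ k ∈ K, Commute k y → k = 1) :
    Nat.card ↥(K ⊓ centralizer ({a} : Set M)) ^ 2 = Nat.card K ∧ Nat.card K ≡ 1 [MOD r] := by
  classical
  have hyinv : ∀ k ∈ K, Commute k y⁻¹ → k = 1 := fun k hk h => hfpf k hk (Commute.inv_right_iff.1 h)
  have haa : ∀ z : M, a * (a * z) = z := fun z => by rw [← mul_assoc, ha, one_mul]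
  have hai : a⁻¹ = a := inv_eq_of_mul_eq_one_right ha
  have haKm : ∀ k ∈ K, a * k * a ∈ K := fun k hk => by
    have := (mem_normalizer_iff.1 haK k).1 hk
    rwa [hai] at this
  obtain ⟨b, hbdef⟩ : ∃ b, b = a * y := ⟨_, rfl⟩
  have hb : b * b = 1 := by
    rw [hbdef]
    calc a * y * (a * y) = (a * y * a) * y := by group
      _ = 1 := by rw [hay, inv_mul_cancel]
  have hbi : b⁻¹ = b := inv_eq_of_mul_eq_one_right hb
  have hbK : b ∈ normalizer (K : Set M) := hbdef ▸ mul_mem haK hyK
  obtain ⟨z, hzdef⟩ : ∃ z, z = b * a := ⟨_, rfl⟩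
  have hz : z = y⁻¹ := by rw [hzdef, hbdef, hay]
  set Ca := K ⊓ centralizer ({a} : Set M) with hCa
  set Cb := K ⊓ centralizer ({b} : Set M) with hCb
  have hmemC : ∀ {u k : M}, k ∈ K ⊓ centralizer ({u} : Set M) ↔ k ∈ K ∧ k * u = u * k := by
    intro u k; rw [mem_inf, mem_centralizer_singleton_iff]
  let I : Set M := {k | k ∈ K ∧ a * k * a = k⁻¹}
  -- `C_K(b)` is in bijection with the inverted elements
  have hIb : Nat.card Cb = Nat.card I := by
    let f : Cb → I := fun c => ⟨(c : M)⁻¹ * a * c * a, ⟨by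
        have := mul_mem (inv_mem (hmemC.1 c.2).1) (haKm _ (hmemC.1 c.2).1)
        simpa [mul_assoc] using this, by
        simp only [_root_.mul_inv_rev, inv_inv, hai, mul_assoc, ha, mul_one]⟩⟩
    refine Nat.card_eq_of_bijective f ⟨fun c d hcd => ?_, fun k => ?_⟩
    · have h1 : (c : M)⁻¹ * a * c = (d : M)⁻¹ * a * d := mul_right_cancel (congrArg Subtype.val hcd)
      have h2 : (c : M)⁻¹ * b * c = (d : M)⁻¹ * b * d := by
        rw [mul_assoc, mul_assoc, ← (hmemC.1 c.2).2, ← (hmemC.1 d.2).2, inv_mul_cancel_left,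
          inv_mul_cancel_left]
      set u := (d : M) * (c : M)⁻¹ with hu
      have hua : u * a = a * u := by
        calc u * a = (d : M) * ((c : M)⁻¹ * a * c) * (c : M)⁻¹ := by rw [hu]; group
          _ = a * u := by rw [h1, hu]; group
      have hub : u * b = b * u := by
        calc u * b = (d : M) * ((c : M)⁻¹ * b * c) * (c : M)⁻¹ := by rw [hu]; group
          _ = b * u := by rw [h2, hu]; group
      have huy : Commute u y := by
        have hy' : y = a * b := by rw [hbdef, haa]
        rw [hy']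
        exact (show Commute u a from hua).mul_right (show Commute u b from hub)
      have := hfpf u (mul_mem (hmemC.1 d.2).1 (inv_mem (hmemC.1 c.2).1)) huy
      exact Subtype.ext (eq_of_mul_inv_eq_one this).symm
    · obtain ⟨k, hkK, hk⟩ := k
      -- the coset of `z` is one class under `K`
      let φ : K → K := fun h => ⟨(h : M) * (z * (h : M)⁻¹ * z⁻¹), mul_mem h.2
        ((mem_normalizer_iff.1 (hz ▸ inv_mem hyK) _).1 (inv_mem h.2))⟩
      have hφ : Function.Injective φ := fun h h' e => by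
        have e' : (h : M) * (z * (h : M)⁻¹ * z⁻¹) = (h' : M) * (z * (h' : M)⁻¹ * z⁻¹) :=
          congrArg Subtype.val e
        have hc : ((h' : M)⁻¹ * h) * z = z * ((h' : M)⁻¹ * h) := by
          calc (h' : M)⁻¹ * h * z = (h' : M)⁻¹ * ((h : M) * (z * (h : M)⁻¹ * z⁻¹)) * z * h := by group
            _ = z * ((h' : M)⁻¹ * h) := by rw [e']; group
        exact Subtype.ext (inv_mul_eq_one.1 (hyinv _ (mul_mem (inv_mem h'.2) h.2) (hz ▸ hc))).symm
      have hbk : b * k * b ∈ K := by
        have := (mem_normalizer_iff.1 hbK k).1 hkK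
        rwa [hbi] at this
      obtain ⟨h, hh⟩ := (Finite.injective_iff_surjective.1 hφ) ⟨b * k * b, hbk⟩
      have hh' : (h : M) * z * (h : M)⁻¹ = b * k * b * z := by
        have e : (h : M) * (z * (h : M)⁻¹ * z⁻¹) = b * k * b := congrArg Subtype.val hh
        rw [← e]; group
      have hka : k * a * (k * a) = 1 := by
        calc k * a * (k * a) = k * (a * k * a) := by group
          _ = 1 := by rw [hk, mul_inv_cancel]
      set d := (h : M)⁻¹ * b * h with hd
      set a2 := (h : M)⁻¹ * (k * a) * h with ha2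
      have hd2 : d * d = 1 := by
        rw [hd, show (h : M)⁻¹ * b * h * ((h : M)⁻¹ * b * h) = (h : M)⁻¹ * (b * b) * h by group, hb]
        group
      have ha22 : a2 * a2 = 1 := by
        rw [ha2, show (h : M)⁻¹ * (k * a) * h * ((h : M)⁻¹ * (k * a) * h) =
          (h : M)⁻¹ * (k * a * (k * a)) * h by group, hka]
        group
      have hda : d * a2 = z := by
        calc d * a2 = (h : M)⁻¹ * (b * k * a) * h := by rw [hd, ha2]; group
          _ = (h : M)⁻¹ * (b * k * b * (b * a)) * h := by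
            rw [show b * k * b * (b * a) = b * k * (b * b) * a by group, hb]; group
          _ = z := by rw [← hzdef, ← hh']; group
      have hzd : d * z * d = z⁻¹ := by
        calc d * z * d = d * (d * a2) * d := by rw [hda]
          _ = (d * d) * a2 * d := by group
          _ = a2⁻¹ * d⁻¹ := by
            rw [hd2, one_mul, inv_eq_of_mul_eq_one_right ha22, inv_eq_of_mul_eq_one_right hd2]
          _ = z⁻¹ := by rw [← hda]; group
      have hzb : b * z * b = z⁻¹ := by rw [hzdef, ← mul_assoc, hb, one_mul, _root_.mul_inv_rev, hai, hbi]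
      have hdbK : d * b ∈ K := by
        have h1 : b * (h : M) * b ∈ K := by
          have := (mem_normalizer_iff.1 hbK _).1 h.2
          rwa [hbi] at this
        have := mul_mem (inv_mem h.2) h1
        simpa [hd, mul_assoc] using this
      have hdbz : Commute (d * b) z⁻¹ := by
        show d * b * z⁻¹ = z⁻¹ * (d * b)
        calc d * b * z⁻¹ = d * b * (b * z * b) := by rw [hzb]
          _ = d * z * b := by rw [show d * b * (b * z * b) = d * (b * b) * z * b by group, hb]; group
          _ = d * z * d * (d * b) := by rw [show d * z * d * (d * b) = d * z * (d * d) * b by group, hd2]; group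
          _ = z⁻¹ * (d * b) := by rw [hzd]
      have hdb : d * b = 1 := hfpf _ hdbK (by rw [hz, inv_inv] at hdbz; exact hdbz)
      have hdeq : d = b := (eq_inv_of_mul_eq_one_left hdb).trans hbi
      have hcb : (h : M) * b = b * h := by
        rw [hd, mul_assoc, inv_mul_eq_iff_eq_mul] at hdeq
        exact hdeq.symm
      have ha2a : a2 = a := by
        rw [hdeq, hzdef] at hda
        exact mul_left_cancel hda
      refine ⟨⟨(h : M)⁻¹, hmemC.2 ⟨inv_mem h.2, (Commute.inv_left (show Commute (h : M) b from hcb)).eq⟩⟩,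
        Subtype.ext ?_⟩
      show (h : M)⁻¹⁻¹ * a * (h : M)⁻¹ * a = k
      rw [inv_inv, ← ha2a]
      calc (h : M) * a2 * (h : M)⁻¹ * a2 = (k * a) * a2 := by rw [ha2]; group
        _ = k := by rw [ha2a, mul_assoc, ha, mul_one]
  -- `C_K(a)` and `C_K(b)` are conjugate
  have hab : Nat.card Ca = Nat.card Cb := by
    obtain ⟨m, hm⟩ := hr2
    set c := (y ^ (m + 1))⁻¹ with hc
    have hcK : c ∈ normalizer (K : Set M) := inv_mem (pow_mem hyK _)
    have hcab : c * a * c⁻¹ = b := by
      have h1 : a * y ^ (m + 1) * a = (y ^ (m + 1))⁻¹ := by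
        have e : MulAut.conj a (y ^ (m + 1)) = MulAut.conj a y ^ (m + 1) := map_pow _ _ _
        simpa [hai, hay, inv_pow] using e
      calc c * a * c⁻¹ = (a * y ^ (m + 1) * a) * a * y ^ (m + 1) := by rw [h1, hc, inv_inv]
        _ = a * y ^ (m + 1) * (a * a) * y ^ (m + 1) := by group
        _ = a * y ^ (2 * m + 2) := by rw [ha, mul_one, mul_assoc, ← pow_add]; congr 2; omega
        _ = b := by
          rw [show 2 * m + 2 = r + 1 by omega, pow_succ, ← hy, pow_orderOf_eq_one, one_mul, hbdef]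
    refine Nat.card_congr ((MulEquiv.subgroupMap (MulAut.conj c) Ca).trans
      (MulEquiv.subgroupCongr ?_)).toEquiv
    ext u
    simp only [mem_map]
    constructor
    · rintro ⟨v, hv, rfl⟩
      refine hmemC.2 ⟨(mem_normalizer_iff.1 hcK v).1 (hmemC.1 hv).1, ?_⟩
      show c * v * c⁻¹ * b = b * (c * v * c⁻¹)
      rw [← hcab]
      calc c * v * c⁻¹ * (c * a * c⁻¹) = c * (v * a) * c⁻¹ := by group
        _ = c * (a * v) * c⁻¹ := by rw [(hmemC.1 hv).2]
        _ = _ := by group
    · intro hu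
      refine ⟨c⁻¹ * u * c, hmemC.2 ⟨?_, ?_⟩, by simp [mul_assoc]⟩
      · have := (mem_normalizer_iff.1 (inv_mem hcK) u).1 (hmemC.1 hu).1
        simpa [mul_assoc] using this
      · calc c⁻¹ * u * c * a = c⁻¹ * (u * (c * a * c⁻¹)) * c := by group
          _ = c⁻¹ * ((c * a * c⁻¹) * u) * c := by rw [hcab, (hmemC.1 hu).2]
          _ = a * (c⁻¹ * u * c) := by group
  -- `|K| = |C_K(a)| · |I|`
  have hKI : Nat.card K = Nat.card Ca * Nat.card I := by
    let g : K ⧸ Ca.subgroupOf K → I := fun q => ⟨(q.out : M) * a * (q.out : M)⁻¹ * a, ⟨by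
        have := mul_mem q.out.2 (haKm _ (inv_mem q.out.2))
        simpa [mul_assoc] using this, by
        simp only [_root_.mul_inv_rev, inv_inv, hai, mul_assoc, ha, mul_one]⟩⟩
    have hg : Function.Bijective g := by
      refine ⟨fun q q' e => ?_, fun k => ?_⟩
      · have e' : (q.out : M) * a * (q.out : M)⁻¹ = (q'.out : M) * a * (q'.out : M)⁻¹ :=
          mul_right_cancel (congrArg Subtype.val e)
        rw [← q.out_eq, ← q'.out_eq, QuotientGroup.eq]
        rw [mem_subgroupOf, hmemC]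
        refine ⟨((q.out)⁻¹ * q'.out).2, ?_⟩
        push_cast
        calc (q.out : M)⁻¹ * q'.out * a = (q.out : M)⁻¹ * ((q'.out : M) * a * (q'.out : M)⁻¹) * q'.out := by
              group
          _ = a * ((q.out : M)⁻¹ * q'.out) := by rw [← e']; group
      · obtain ⟨k, hkK, hk⟩ := k
        obtain ⟨n, hn⟩ := hK
        have hl : ∃ l ∈ K, a * l * a = l⁻¹ ∧ l * l = k := by
          refine ⟨k ^ (n + 1), pow_mem hkK _, ?_, ?_⟩
          · have := conj_pow (i := n + 1) (a := a) (b := k)
            rw [hai] at this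
            rw [← this, hk, inv_pow]
          · rw [← pow_add, show n + 1 + (n + 1) = (2 * n + 1) + 1 by omega, pow_succ, ← hn,
              orderOf_dvd_iff_pow_eq_one.1 (K.orderOf_dvd_natCard hkK), one_mul]
        obtain ⟨l, hlK, hla, hlk⟩ := hl
        refine ⟨QuotientGroup.mk ⟨l, hlK⟩, Subtype.ext ?_⟩
        obtain ⟨⟨c, hc⟩, hcq⟩ := QuotientGroup.mk_out_eq_mul (Ca.subgroupOf K) ⟨l, hlK⟩
        show (_ : M) * a * (_ : M)⁻¹ * a = k
        rw [hcq, Subgroup.coe_mul]
        have hc' := (hmemC.1 (mem_subgroupOf.1 hc)).2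
        calc l * (c : M) * a * (l * (c : M))⁻¹ * a = l * ((c : M) * a) * (c : M)⁻¹ * l⁻¹ * a := by group
          _ = l * (a * l⁻¹ * a) := by rw [hc']; group
          _ = k := by
            rw [← hla, show a * (a * l * a) * a = (a * a) * l * (a * a) by group, ha, one_mul, mul_one,
              hlk]
    rw [← Nat.card_congr (subgroupOfEquivOfLe (inf_le_left : Ca ≤ K)).toEquiv,
      ← Nat.card_eq_of_bijective g hg, ← index_eq_card, card_mul_index]
  refine ⟨by rw [hKI, ← hIb, ← hab, pow_two], ?_⟩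
  haveI : Fact r.Prime := ⟨hr⟩
  let _ : MulAction (zpowers y) K := MulAction.compHom K
    ((Subgroup.normalizerMonoidHom K).comp (inclusion (zpowers_le.2 hyK)))
  have hP : IsPGroup r (zpowers y) := IsPGroup.of_card (n := 1) (by rw [Nat.card_zpowers, hy, pow_one])
  have h := hP.card_modEq_card_fixedPoints (α := K)
  have hfix : Nat.card (MulAction.fixedPoints (zpowers y) K) = 1 := by
    rw [Nat.card_eq_one_iff_unique]
    refine ⟨⟨fun u v => Subtype.ext ?_⟩, ⟨⟨1, fun g => Subtype.ext (show (g : M) * 1 * (g : M)⁻¹ = 1 by group)⟩⟩⟩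
    have key : ∀ u : MulAction.fixedPoints (zpowers y) K, (u : K) = 1 := fun u => Subtype.ext
      (hfpf _ (u : K).2 (by
        have h1 : y * ((u : K) : M) * y⁻¹ = (u : K) := congrArg Subtype.val (u.2 ⟨y, mem_zpowers y⟩)
        exact (mul_inv_eq_iff_eq_mul.1 h1).symm))
    rw [key u, key v]
  rwa [hfix] at h

/-- A group `O` of odd order with the TI self-normalising subgroup `H`, both normalised by the
involution `a`, which inverts `H`. -/
theorem frobenius_count {M : Type*} [Group M] [Finite M] {O H : Subgroup M} (hO : Odd (Nat.card O))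
    (hHO : H ≤ O) (hne : H ≠ O) {a : M} (ha : a * a = 1) (haO : a ∈ normalizer (O : Set M))
    (hainv : ∀ h ∈ H, a * h * a = h⁻¹) {r : ℕ} (hr : r.Prime) (hrH : r ∣ Nat.card H)
    (hTI : ∀ g ∈ O, g ∉ H → ∀ h ∈ H, h ≠ 1 → g⁻¹ * h * g ∉ H) :
    Nat.card ↥(O ⊓ centralizer ({a} : Set M)) ^ 2 ≡ 1 [MOD r] := by
  classical
  haveI : Fact r.Prime := ⟨hr⟩
  obtain ⟨y₀, hy₀⟩ := exists_prime_orderOf_dvd_card' r hrH
  set y : M := (y₀ : M) with hydef
  have hyo : orderOf y = r := by rw [hydef, Subgroup.orderOf_coe, hy₀]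
  have hy1 : y ≠ 1 := fun h => hr.one_lt.ne' (by rw [← hyo, h, orderOf_one])
  have hyH : y ∈ H := y₀.2
  have hr2 : Odd r := hO.of_dvd_nat (hrH.trans (card_dvd_of_le hHO))
  have hai : a⁻¹ = a := inv_eq_of_mul_eq_one_right ha
  set H' : Subgroup O := H.subgroupOf O with hH'
  have hFC : Cfsg.IsFrobeniusComplement H' := by
    refine ⟨fun h => ?_, fun h => ?_, fun g hg => ?_⟩
    · have : (⟨y, hHO hyH⟩ : O) ∈ H' := mem_subgroupOf.2 hyH
      rw [h, mem_bot] at this
      exact hy1 (congrArg Subtype.val this)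
    · exact hne (le_antisymm hHO (subgroupOf_eq_top.1 h))
    · rw [eq_bot_iff]
      intro u hu
      obtain ⟨hu1, hu2⟩ := mem_inf.1 hu
      rw [FrobRealize.Kernel.mem_conj_smul] at hu2
      by_contra hu'
      exact hTI g g.2 hg u hu1 (fun h => hu' (Subtype.ext h)) hu2
  obtain ⟨N, -, -, -, hfpf, hcompl, hset⟩ := CfsgLib.FrobRealize.FPF.exists_fpf_kernel hFC
  set K := N.map O.subtype with hKdef
  have hKO : K ≤ O := by rintro _ ⟨k, -, rfl⟩; exact k.2
  have hK : Odd (Nat.card K) := hO.of_dvd_nat (card_dvd_of_le hKO)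
  have hfix : ∀ k ∈ K, Commute k y → k = 1 := by
    rintro _ ⟨k, hk, rfl⟩ hc
    have hmem : k ∈ N ⊓ centralizer {(⟨y, hHO hyH⟩ : O)} :=
      mem_inf.2 ⟨hk, mem_centralizer_singleton_iff.2 (Subtype.ext hc.eq)⟩
    rw [hfpf _ (mem_subgroupOf.2 hyH) (fun h => hy1 (congrArg Subtype.val h)), mem_bot] at hmem
    rw [hmem]; rfl
  have hyK : y ∈ normalizer (K : Set M) := by
    refine mem_normalizer_iff_map_conj_eq.2 (eq_of_le_of_card_ge ?_
      (card_map_of_injective (MulAut.conj y).injective).ge)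
    rintro _ ⟨_, ⟨k, hk, rfl⟩, rfl⟩
    have hk' : k ∈ (N : Set O) := hk
    rw [hset] at hk'
    have h2 := CfsgLib.FrobRealize.Kernel.conj_mem_frobeniusKernel hk' ⟨y, hHO hyH⟩
    rw [← hset] at h2
    exact ⟨_, h2, rfl⟩
  have hmemO : ∀ z ∈ O, a * z * a ∈ O := fun z hz => by
    have := (mem_normalizer_iff.1 haO z).1 hz
    rwa [hai] at this
  have haH : ∀ h ∈ H, a * h * a ∈ H := fun h hh => by rw [hainv h hh]; exact inv_mem hh
  have haK : a ∈ normalizer (K : Set M) := by
    refine mem_normalizer_iff_map_conj_eq.2 (eq_of_le_of_card_ge ?_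
      (card_map_of_injective (MulAut.conj a).injective).ge)
    rintro _ ⟨_, ⟨k, hk, rfl⟩, rfl⟩
    show a * (k : M) * a⁻¹ ∈ K
    rw [hai]
    refine ⟨⟨_, hmemO _ k.2⟩, ?_, rfl⟩
    have hk' : k ∈ (N : Set O) := hk
    rw [hset, CfsgLib.FrobRealize.Kernel.mem_frobeniusKernel] at hk'
    show (⟨_, hmemO _ k.2⟩ : O) ∈ (N : Set O)
    rw [hset, CfsgLib.FrobRealize.Kernel.mem_frobeniusKernel]
    rcases hk' with rfl | hk'
    · exact Or.inl (Subtype.ext (by simp [ha]))
    · refine Or.inr fun g hg => hk' ⟨_, hmemO _ g.2⟩ ?_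
      rw [mem_subgroupOf] at hg ⊢
      simp only [Subgroup.coe_mul, Subgroup.coe_inv] at hg ⊢
      have h3 := haH _ hg
      convert h3 using 1
      rw [_root_.mul_inv_rev, _root_.mul_inv_rev, hai]
      group
  have hay : a * y * a = y⁻¹ := hainv y hyH
  obtain ⟨hcard, hmod⟩ := fpf_count hK hr hyo hr2 hyK haK ha hay hfix
  have hle : O ⊓ centralizer ({a} : Set M) = K ⊓ centralizer ({a} : Set M) := by
    refine le_antisymm (fun g hg => mem_inf.2 ⟨?_, (mem_inf.1 hg).2⟩)
      (inf_le_inf_right _ hKO)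
    obtain ⟨hgO, hgc⟩ := mem_inf.1 hg
    obtain ⟨⟨k, h⟩, hkh⟩ := hcompl.2 ⟨g, hgO⟩
    have hg' : ((k : O) : M) * ((h : O) : M) = g := congrArg Subtype.val hkh
    have hfixg : a * g * a = g := by
      rw [mem_centralizer_singleton_iff] at hgc
      rw [← hgc, mul_assoc, ha, mul_one]
    have hk2 : a * ((k : O) : M) * a ∈ K := by
      have := (mem_normalizer_iff.1 haK _).1 (show ((k : O) : M) ∈ K from ⟨k, k.2, rfl⟩)
      rwa [hai] at this
    have hhH : ((h : O) : M) ∈ H := mem_subgroupOf.1 h.2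
    have e1 : ((k : O) : M) * ((h : O) : M) = a * ((k : O) : M) * a * ((h : O) : M)⁻¹ := by
      rw [hg', ← hainv _ hhH]
      calc g = a * g * a := hfixg.symm
        _ = a * (((k : O) : M) * ((h : O) : M)) * a := by rw [hg']
        _ = a * ((k : O) : M) * (a * a) * ((h : O) : M) * a := by rw [ha]; group
        _ = _ := by group
    have hh2 : ((h : O) : M) * ((h : O) : M) ∈ K := by
      have : ((h : O) : M) * ((h : O) : M) = ((k : O) : M)⁻¹ * (a * ((k : O) : M) * a) := by
        calc _ = ((k : O) : M)⁻¹ * (((k : O) : M) * ((h : O) : M)) * ((h : O) : M) := by group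
          _ = _ := by rw [e1]; group
      rw [this]
      exact mul_mem (inv_mem ⟨k, k.2, rfl⟩) hk2
    obtain ⟨z, hz, hz'⟩ := hh2
    have hz1 : z = 1 := hcompl.disjoint.le_bot (mem_inf.2 ⟨hz, mem_subgroupOf.2
      (by rw [show ((z : O) : M) = _ from hz']; exact mul_mem hhH hhH)⟩)
    have hsq : ((h : O) : M) * ((h : O) : M) = 1 := by rw [← hz', hz1]; rfl
    have hh1 : ((h : O) : M) = 1 := orderOf_eq_one_iff.1 (Nat.eq_one_of_dvd_coprimes
      (Nat.coprime_two_right.2 (hO.of_dvd_nat (O.orderOf_dvd_natCard (h : O).2))) dvd_rfl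
      (orderOf_dvd_of_pow_eq_one (by rw [pow_two]; exact hsq)))
    rw [← hg', hh1, mul_one]
    exact ⟨k, k.2, rfl⟩
  rw [hle, hcard]
  exact hmod

end CfsgLib.Recognition.ReeCentralizer
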