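import Cfsg.Agent.Lib.Recognition.ReeCentralizer.FixedBasic
import Cfsg.Agent.Lib.Recognition.ReeCentralizer.FixedCount

/-!
# The rotation is fixed-point-free on the torus

If `3 ∣ w` the element `x` is conjugate to an element `y₀` of `W` of order three and some element
exchanges `y₀` and `x`, which with `s` gives a non-abelian 2-group. If `3 ∤ w` the group
`O(C(x))/⟨x⟩` is a Frobenius group with complement `C_W(x)` inverted by `s`, so
`|C(s) ∩ O(C(x))|² = 9 |K|` contradicts `q² ≡ 1 (mod w)`.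
-/

set_option autoImplicit false
set_option linter.unusedSectionVars false
set_option linter.style.haveILetI false

namespace CfsgLib.Recognition.ReeCentralizer

open Subgroup

theorem odd_inv_fix {H : Type*} [Group H] {g y : H} (hg : Odd (orderOf g)) (hy : Odd (orderOf y))
    (h : g * y * g⁻¹ = y⁻¹) : y = 1 := by
  obtain ⟨k, hk⟩ := hg
  have h2 : Commute (g ^ 2) y := mul_inv_eq_iff_eq_mul.1 (by
    calc g ^ 2 * y * (g ^ 2)⁻¹ = g * (g * y * g⁻¹) * g⁻¹ := by rw [pow_two]; group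
      _ = y := by rw [h, ← conj_inv, h, inv_inv])
  have hgg : (g ^ 2) ^ (k + 1) = g := by
    rw [← pow_mul, show 2 * (k + 1) = (2 * k + 1) + 1 by ring, pow_succ, ← hk, pow_orderOf_eq_one,
      one_mul]
  have h3 := h2.pow_left (k + 1)
  rw [hgg] at h3
  rw [h3.eq, mul_inv_cancel_right] at h
  exact eq_one_of_odd_sq hy (mul_eq_one_iff_eq_inv.2 h)

theorem monomial_pow_four {H : Type*} [Group H] {m a b : H} (hab : a ≠ b) (hab' : a ≠ b⁻¹)
    (ha : m * a * m⁻¹ = a ∨ m * a * m⁻¹ = a⁻¹ ∨ m * a * m⁻¹ = b ∨ m * a * m⁻¹ = b⁻¹)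
    (hb : m * b * m⁻¹ = a ∨ m * b * m⁻¹ = a⁻¹ ∨ m * b * m⁻¹ = b ∨ m * b * m⁻¹ = b⁻¹) :
    Commute (m ^ 4) a ∧ Commute (m ^ 4) b := by
  have hinj : ∀ {p q : H}, m * p * m⁻¹ = m * q * m⁻¹ → p = q := fun e =>
    mul_left_cancel (mul_right_cancel e)
  have hi : ∀ {p q : H}, m * p * m⁻¹ = q → m * p⁻¹ * m⁻¹ = q⁻¹ := fun e => by rw [← e]; group
  have h4 : ∀ p, m ^ 4 * p * (m ^ 4)⁻¹ = m * (m * (m * (m * p * m⁻¹) * m⁻¹) * m⁻¹) * m⁻¹ := fun p => by
    rw [pow_succ, pow_succ, pow_succ, pow_one]; group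
  have hia : m * a⁻¹ * m⁻¹ = (m * a * m⁻¹)⁻¹ := by group
  have hib : m * b⁻¹ * m⁻¹ = (m * b * m⁻¹)⁻¹ := by group
  constructor <;> refine mul_inv_eq_iff_eq_mul.1 ?_ <;> rw [h4] <;>
    rcases ha with e | e | e | e <;> rcases hb with f | f | f | f <;>
    first
      | exact absurd (hinj (e.trans f.symm)) hab
      | exact absurd (hinj (e.trans (hi f).symm)) hab'
      | exact absurd (hinj (e.trans ((inv_inv _).symm.trans (hi f).symm))) hab'
      | simp only [e, f, hia, hib, inv_inv]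

variable {G : Type*} [Group G] [Finite G] {F : Type*} [Field F] [Fintype F] {t : G}
  {V W : Subgroup G} {s x : G}

local notation "A5" => alternatingGroup (Fin 5)

namespace Local

variable (hS : Setting G F t) (L : Local G t (torusOrder (Fintype.card F)) V W s x)
include hS L

theorem s_inv : s⁻¹ = s := inv_eq_of_mul_eq_one_right (Local.s_sq hS L)

theorem s_W' {y : G} (hy : y ∈ W) : s * y * s = y⁻¹ := by
  have h := L.s_W y hy
  rwa [Local.s_inv hS L] at h

/-- `x` centralises the elements of order three of `W`. -/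
theorem x_three {y : G} (hy : y ∈ W) (hy3 : orderOf y = 3) : Commute x y := by
  classical
  haveI := L.cyclic_W
  obtain ⟨a, ha⟩ := (Subgroup.isCyclic_iff_exists_zpowers_eq_top W).1 L.cyclic_W
  have hy' : x * y * x⁻¹ ∈ W := L.x_W y hy
  have ho : orderOf (x * y * x⁻¹) = 3 := (MulEquiv.orderOf_eq (MulAut.conj x) y).trans hy3
  have he : zpowers (x * y * x⁻¹) = zpowers y := eq_of_card_eq_in_cyclic (a := a)
    (zpowers_le.2 (ha.symm ▸ hy')) (zpowers_le.2 (ha.symm ▸ hy))
    (by rw [Nat.card_zpowers, Nat.card_zpowers, ho, hy3])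
  have hmem : x * y * x⁻¹ ∈ zpowers y := he ▸ mem_zpowers _
  rw [mem_zpowers_iff_mem_range_orderOf, hy3] at hmem
  simp only [Finset.mem_image, Finset.mem_range] at hmem
  obtain ⟨i, hi, hi'⟩ := hmem
  interval_cases i
  · rw [pow_zero] at hi'
    rw [← hi', orderOf_one] at ho
    norm_num at ho
  · exact mul_inv_eq_iff_eq_mul.1 (by rw [← hi', pow_one])
  · exfalso
    have h3 : y ^ 3 = 1 := by rw [← hy3, pow_orderOf_eq_one]
    have h1 := three_inv_fix (Local.W_odd hS L hy) (Local.x_cube hS L) (a := x) (y := y) (by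
      rw [← hi', eq_inv_iff_mul_eq_one, ← pow_succ, h3])
    rw [h1, orderOf_one] at hy3
    norm_num at hy3

/-- `w` is prime to three. -/
theorem not_three_dvd : ¬ 3 ∣ torusOrder (Fintype.card F) := by
  classical
  intro h3w
  haveI : Fact (Nat.Prime 2) := ⟨Nat.prime_two⟩
  haveI : Fact (Nat.Prime 3) := ⟨Nat.prime_three⟩
  obtain ⟨y₃, hy₃⟩ := exists_prime_orderOf_dvd_card' (G := W) 3 (L.card_W.symm ▸ h3w)
  have hy₃o : orderOf (y₃ : G) = 3 := by rw [Subgroup.orderOf_coe, hy₃]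
  obtain ⟨k, hk⟩ := isConj_iff.1 (L.conj_inv s L.s2)
  have hx1 : Commute (k⁻¹ * x * k) t := by
    have h := (Commute.conj_iff k⁻¹).2 L.x_s
    rwa [inv_inv, show k⁻¹ * s * k = t by rw [← hk]; group] at h
  have hx1o : orderOf (k⁻¹ * x * k) = 3 := by
    have := (MulEquiv.orderOf_eq (MulAut.conj k⁻¹) x).trans L.x3
    simpa using this
  obtain ⟨h, hh⟩ := three_conj hS h3w hx1 hx1o (L.comm_VW t L.t_mem _ y₃.2).symm hy₃o
  set y0 := h * (k⁻¹ * x * k) * h⁻¹ with hy0def
  have hy0 : y0 ∈ W := by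
    rcases hh with e | e <;> rw [e]
    exacts [y₃.2, inv_mem y₃.2]
  have hy0o : orderOf y0 = 3 := (MulEquiv.orderOf_eq (MulAut.conj h) _).trans hx1o
  have hy01 : y0 ≠ 1 := fun e => by rw [e, orderOf_one] at hy0o; norm_num at hy0o
  have hy03 : y0 ^ 3 = 1 := by rw [← hy0o, pow_orderOf_eq_one]
  set g := k * h⁻¹ with hgdef
  have hgx : g * y0 * g⁻¹ = x := by rw [hgdef, hy0def]; group
  have hgx' : g⁻¹ * x * g = y0 := by rw [← hgx]; group
  have hxy0 : Commute x y0 := Local.x_three hS L hy0 hy0o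
  -- the pull back of `s` and of `y0`
  set s' := g⁻¹ * s * g with hs'
  set y' := g⁻¹ * y0 * g with hy'
  have hs'y0 : Commute s' y0 := by
    have h := (Commute.conj_iff g⁻¹).2 L.x_s.symm
    rwa [inv_inv, hgx'] at h
  have hy'y0 : Commute y' y0 := by
    have h := (Commute.conj_iff g⁻¹).2 hxy0.symm
    rwa [inv_inv, hgx'] at h
  have hs'2 : s' * s' = 1 := by
    rw [hs', show g⁻¹ * s * g * (g⁻¹ * s * g) = g⁻¹ * (s * s) * g by group, Local.s_sq hS L]; group
  have hy'3 : y' ^ 3 = 1 := by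
    rw [hy', show g⁻¹ * y0 * g = g⁻¹ * y0 * g⁻¹⁻¹ by rw [inv_inv], conj_pow, hy03]; group
  have hy'1 : y' ≠ 1 := fun e => hy01 (by
    calc y0 = g * y' * g⁻¹ := by rw [hy']; group
      _ = 1 := by rw [e]; group)
  have hs'inv : s' * y' * s' = y'⁻¹ := by
    rw [hs', hy', show g⁻¹ * s * g * (g⁻¹ * y0 * g) * (g⁻¹ * s * g) = g⁻¹ * (s * y0 * s) * g by group,
      Local.s_W' hS L hy0]
    group
  have hy'odd : Odd (orderOf y') := Odd.of_dvd_nat (by decide) (orderOf_dvd_of_pow_eq_one hy'3)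
  rcases Local.cent_cases hS L hy0 hy01 with hN | ⟨A, _, _, hA, ⟨f⟩⟩
  · -- `V` is normal in `C(y0)`
    have hV2 : IsPGroup 2 V := IsPGroup.of_card (n := 2) L.card_V
    have hQ2 : IsPGroup 2 (V ⊔ zpowers s' : Subgroup G) :=
      hV2.to_sup_of_normal_left' (CfsgLib.Involution.TwoTimesPSL.two_group_zpowers (k := 1)
        (by rw [pow_one, pow_two]; exact hs'2))
        (zpowers_le.2 (CfsgLib.Involution.TwoTimesPSL.mem_normalizer_of_conj (hN s' hs'y0)))
    have hQV := Local.two_le_V hS L hy0 hy01 hQ2 (sup_le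
      (fun v hv => mem_centralizer_singleton_iff.2 (L.comm_VW v hv y0 hy0).eq)
      (zpowers_le.2 (mem_centralizer_singleton_iff.2 hs'y0.eq))) le_sup_left
    have hs'V : s' ∈ V := hQV ▸ mem_sup_right (mem_zpowers s')
    have hmem : y'⁻¹ * y'⁻¹ ∈ V := by
      have h1 := mul_mem hs'V (hN y' hy'y0 s' hs'V)
      rw [show s' * (y' * s' * y'⁻¹) = s' * y' * s' * y'⁻¹ by group, hs'inv] at h1
      exact h1
    have hmem' : y' ∈ V := by
      have : y'⁻¹ * y'⁻¹ = y' := by
        rw [← _root_.mul_inv_rev, inv_eq_iff_mul_eq_one, ← pow_two, ← pow_succ, hy'3]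
      rwa [this] at hmem
    exact hy'1 (eq_one_of_odd_sq hy'odd (L.sq_V y' hmem'))
  · -- `C(y0) = A₅ × A`
    set X := centralizer ({y0} : Set G) with hX
    have hmemX : ∀ {u : G}, Commute u y0 → u ∈ X := fun hu => mem_centralizer_singleton_iff.2 hu.eq
    have hA1 : ∀ b : A, b * b = 1 → b = 1 := fun b hb =>
      eq_one_of_odd_sq (hA.of_dvd_nat (orderOf_dvd_natCard b)) hb
    have hinverted : ∀ i u : X, i * i = 1 → i * u * i = u⁻¹ → (f u).2 = 1 := by
      intro i u hi hiu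
      have e1 := congrArg (fun p => (f p).2) hi
      have e2 := congrArg (fun p => (f p).2) hiu
      simp only [map_mul, map_one, map_inv, Prod.snd_mul, Prod.snd_one, Prod.snd_inv] at e1 e2
      rw [mul_comm ((f i).2) ((f u).2), mul_assoc, e1, mul_one] at e2
      exact hA1 _ (mul_eq_one_iff_eq_inv.2 e2)
    set sc : X := ⟨s', hmemX hs'y0⟩
    set yc : X := ⟨y', hmemX hy'y0⟩
    set xc : X := ⟨x, hmemX hxy0⟩
    have hy2 : (f yc).2 = 1 := hinverted sc yc (Subtype.ext hs'2) (Subtype.ext hs'inv)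
    have hxc3 : xc ^ 3 = 1 := Subtype.ext (Local.x_cube hS L)
    have hyc3 : yc ^ 3 = 1 := Subtype.ext hy'3
    obtain ⟨hσ1, hσ3⟩ := Local.big_three hS L hy0 hy01 hA f hxc3 (Local.x_notW hS L)
    have hy'W : y' ∉ W := fun hy'W => hy'1 (by
      have h1 : (f yc).1 = 1 := Local.big_W hS L hy0 hy01 hA f (c := yc) hy'W
      have : yc = 1 := f.injective (by rw [map_one]; exact Prod.ext h1 hy2)
      exact congrArg Subtype.val this)
    obtain ⟨hτ1, hτ3⟩ := Local.big_three hS L hy0 hy01 hA f hyc3 hy'W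
    -- `x` has no central component
    have hsX : ∀ u : X, s * (u : G) * s ∈ X := by
      intro u
      refine hmemX ?_
      have h := (Commute.conj_iff s).2 (show Commute (u : G) y0 from mem_centralizer_singleton_iff.1 u.2)
      rw [L.s_W y0 hy0, Local.s_inv hS L, Commute.inv_right_iff] at h
      exact h
    let σs : X →* X :=
      { toFun := fun u => ⟨s * (u : G) * s, hsX u⟩
        map_one' := Subtype.ext (by simp [Local.s_sq hS L])
        map_mul' := fun u v => Subtype.ext (by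
          show s * ((u : G) * v) * s = s * u * s * (s * v * s)
          rw [show s * (u : G) * s * (s * v * s) = s * u * (s * s) * v * s by group, Local.s_sq hS L]
          group) }
    obtain ⟨i, hi2, hiσ, -⟩ := a5_inverted _ hσ3
    set zc := f.symm ((f xc).1, 1) with hzc
    set ri := f.symm (i, 1) with hri
    set cc := f.symm (1, (f xc).2) with hcc
    have hxzc : zc * cc = xc := f.injective (by
      rw [map_mul, hzc, hcc, f.apply_symm_apply, f.apply_symm_apply]
      exact Prod.ext (mul_one _) (one_mul _))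
    have hri2 : ri * ri = 1 := f.injective (by
      rw [map_mul, hri, f.apply_symm_apply, map_one]
      exact Prod.ext hi2 (one_mul 1))
    have hσinv : i * (f xc).1 * i = ((f xc).1)⁻¹ := by
      rw [hiσ]; exact eq_inv_of_mul_eq_one_left (by rw [mul_assoc]; exact hσ3)
    have hriz : ri * zc * ri = zc⁻¹ := f.injective (by
      rw [map_mul, map_mul, map_inv, hzc, hri, f.apply_symm_apply, f.apply_symm_apply]
      exact Prod.ext hσinv (by simp))
    have hσz : (f (σs zc)).2 = 1 := hinverted (σs ri) (σs zc)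
      (by rw [← map_mul, hri2, map_one]) (by rw [← map_mul, ← map_mul, hriz, map_inv])
    have hccW : (cc : G) ∈ W := Local.big_center hS L hy0 hy01 hA f (c := cc) (by simp [hcc])
    have hσc : σs cc = cc⁻¹ := Subtype.ext (Local.s_W' hS L hccW)
    have hσx : σs xc = xc := Subtype.ext (by
      show s * x * s = x
      rw [← L.x_s.eq, mul_assoc, Local.s_sq hS L, mul_one])
    have ha1 : (f xc).2 = 1 := by
      have h := congrArg (fun p => (f p).2) hσx
      rw [← hxzc, map_mul, hσc] at h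
      simp only [map_mul, map_inv, Prod.snd_mul, Prod.snd_inv, hσz, one_mul] at h
      have e : (f cc).2 = (f xc).2 := by simp [hcc]
      have e' : (f zc).2 = 1 := by simp [hzc]
      rw [e', one_mul, e] at h
      exact hA1 _ (mul_eq_one_iff_eq_inv.2 h.symm)
    -- an element exchanging `y0` and `x`
    obtain ⟨h', hh'⟩ := a5_conj_three _ hσ1 hσ3 _ hτ1 hτ3
    set hc := f.symm (h', 1)
    have hconj : hc * xc * hc⁻¹ = yc := f.injective (by
      rw [map_mul, map_mul, map_inv, f.apply_symm_apply]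
      refine Prod.ext ?_ (by simp [ha1, hy2])
      show h' * (f xc).1 * h'⁻¹ = (f yc).1
      rw [hh', mul_inv_cancel_right])
    set k2 := g * (hc : G) with hk2
    have hk2x : k2 * x * k2⁻¹ = y0 := by
      have e : (hc : G) * x * (hc : G)⁻¹ = y' := congrArg Subtype.val hconj
      calc k2 * x * k2⁻¹ = g * ((hc : G) * x * (hc : G)⁻¹) * g⁻¹ := by rw [hk2]; group
        _ = y0 := by rw [e, hy']; group
    have hk2y : k2 * y0 * k2⁻¹ = x := by
      have e : (hc : G) * y0 * (hc : G)⁻¹ = y0 :=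
        mul_inv_eq_iff_eq_mul.2 (mem_centralizer_singleton_iff.1 hc.2)
      calc k2 * y0 * k2⁻¹ = g * ((hc : G) * y0 * (hc : G)⁻¹) * g⁻¹ := by rw [hk2]; group
        _ = x := by rw [e, hgx]
    -- the monomial group
    have hsx : s * x * s⁻¹ = x := by rw [← L.x_s.eq, mul_inv_cancel_right]
    set M := Subgroup.closure ({s, k2} : Set G) with hM
    let Q : Set G := {y0, y0⁻¹, x, x⁻¹}
    have hconjinv : ∀ (m p : G), m * p⁻¹ * m⁻¹ = (m * p * m⁻¹)⁻¹ := fun m p => by group
    have hQ : ∀ m ∈ M, ∀ p ∈ Q, m * p * m⁻¹ ∈ Q := by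
      intro m hm
      induction hm using Subgroup.closure_induction with
      | mem m hm =>
        intro p hp
        simp only [Q, Set.mem_insert_iff, Set.mem_singleton_iff] at hp hm ⊢
        rcases hm with rfl | rfl <;> rcases hp with rfl | rfl | rfl | rfl <;>
          simp only [hconjinv, L.s_W y0 hy0, hsx, hk2x, hk2y, inv_inv, true_or, or_true]
      | one => intro p hp; simpa using hp
      | mul m n _ _ hm hn =>
        intro p hp
        rw [show m * n * p * (m * n)⁻¹ = m * (n * p * n⁻¹) * m⁻¹ by group]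
        exact hm _ (hn _ hp)
      | inv m _ hm =>
        intro p hp
        have hpow : ∀ j : ℕ, m ^ j * p * (m ^ j)⁻¹ ∈ Q := by
          intro j
          induction j with
          | zero => simpa using hp
          | succ j ih =>
            rw [show m ^ (j + 1) * p * (m ^ (j + 1))⁻¹ = m * (m ^ j * p * (m ^ j)⁻¹) * m⁻¹ by
              rw [pow_succ']; group]
            exact hm _ ih
        have h := hpow (orderOf m - 1)
        have e : m ^ (orderOf m - 1) = m⁻¹ := eq_inv_of_mul_eq_one_left (by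
          rw [← pow_succ, Nat.sub_add_cancel (orderOf_pos m), pow_orderOf_eq_one])
        rwa [e] at h
    have hy0x : y0 ≠ x := fun e => Local.x_notW hS L (e ▸ hy0)
    have hy0x' : y0 ≠ x⁻¹ := fun e => Local.x_notW hS L (by
      have := inv_mem (e ▸ hy0); rwa [inv_inv] at this)
    let C : Subgroup M := (centralizer Q).subgroupOf M
    haveI hCn : C.Normal := ⟨fun c hc m => by
      rw [mem_subgroupOf, mem_centralizer_iff] at hc ⊢
      intro p hp
      push_cast
      have h2 := hc _ (hQ _ (inv_mem m.2) p hp)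
      rw [inv_inv] at h2
      calc p * ((m : G) * c * (m : G)⁻¹) = (m : G) * (((m : G)⁻¹ * p * m) * c) * (m : G)⁻¹ := by group
        _ = (m : G) * ((c : G) * ((m : G)⁻¹ * p * m)) * (m : G)⁻¹ := by rw [h2]
        _ = _ := by group⟩
    have h4 : ∀ m : M, m ^ 4 ∈ C := by
      intro m
      have ha := hQ _ m.2 y0 (by simp [Q])
      have hb := hQ _ m.2 x (by simp [Q])
      simp only [Q, Set.mem_insert_iff, Set.mem_singleton_iff] at ha hb
      obtain ⟨h1, h2⟩ := monomial_pow_four hy0x hy0x' ha hb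
      rw [mem_subgroupOf, mem_centralizer_iff]
      intro p hp
      simp only [Q, Set.mem_insert_iff, Set.mem_singleton_iff] at hp
      rw [Subgroup.coe_pow]
      rcases hp with rfl | rfl | rfl | rfl
      exacts [h1.symm.eq, h1.inv_right.symm.eq, h2.symm.eq, h2.inv_right.symm.eq]
    obtain ⟨T⟩ : Nonempty (Sylow 2 M) := inferInstance
    have hquot : IsPGroup 2 (M ⧸ C) := by
      intro q
      induction q using QuotientGroup.induction_on with
      | H m => exact ⟨2, by rw [← QuotientGroup.mk_pow, QuotientGroup.eq_one_iff]; exact h4 m⟩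
    let T' := T.mapSurjective (QuotientGroup.mk'_surjective C)
    have hT' : (T' : Subgroup (M ⧸ C)) = ⊤ :=
      (T'.3 (hquot.to_subgroup ⊤) le_top).symm
    have hlift : ∀ m : M, ∃ τ ∈ (T : Subgroup M), τ⁻¹ * m ∈ C := by
      intro m
      have : (QuotientGroup.mk' C) m ∈ (T' : Subgroup (M ⧸ C)) := hT' ▸ mem_top _
      obtain ⟨τ, hτ, e⟩ := this
      exact ⟨τ, hτ, QuotientGroup.eq.1 e⟩
    obtain ⟨τ₁, hτ₁, e₁⟩ := hlift ⟨s, subset_closure (Or.inl rfl)⟩
    obtain ⟨τ₂, hτ₂, e₂⟩ := hlift ⟨k2, subset_closure (Or.inr rfl)⟩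
    have hact : ∀ (τ : M) (m : G) (hm : m ∈ M), τ⁻¹ * ⟨m, hm⟩ ∈ C → ∀ p ∈ Q,
        (τ : G) * p * (τ : G)⁻¹ = m * p * m⁻¹ := by
      intro τ m hm hc p hp
      rw [mem_subgroupOf, mem_centralizer_iff] at hc
      have h2 : p * ((τ : G)⁻¹ * m) = (τ : G)⁻¹ * m * p := hc p hp
      calc (τ : G) * p * (τ : G)⁻¹ = (τ : G) * (p * ((τ : G)⁻¹ * m)) * m⁻¹ := by group
        _ = _ := by rw [h2]; group
    obtain ⟨R, hR⟩ := (T.2.map M.subtype).exists_le_sylow
    have hτc : (τ₁ : G) * τ₂ = τ₂ * τ₁ :=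
      comm_of_mem hS.abelian R (hR ⟨τ₁, hτ₁, rfl⟩) (hR ⟨τ₂, hτ₂, rfl⟩)
    have hQy : y0 ∈ Q := by simp [Q]
    have hQyi : y0⁻¹ ∈ Q := by simp [Q]
    have hQx : x ∈ Q := by simp [Q]
    have l1 : ((τ₂ : G) * τ₁) * y0 * ((τ₂ : G) * τ₁)⁻¹ = x⁻¹ := by
      calc ((τ₂ : G) * τ₁) * y0 * ((τ₂ : G) * τ₁)⁻¹ = τ₂ * ((τ₁ : G) * y0 * (τ₁ : G)⁻¹) * (τ₂ : G)⁻¹ := by
            group
        _ = x⁻¹ := by
          rw [hact τ₁ s _ e₁ y0 hQy, L.s_W y0 hy0, hact τ₂ k2 _ e₂ _ hQyi, hconjinv, hk2y]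
    have l2 : ((τ₁ : G) * τ₂) * y0 * ((τ₁ : G) * τ₂)⁻¹ = x := by
      calc ((τ₁ : G) * τ₂) * y0 * ((τ₁ : G) * τ₂)⁻¹ = τ₁ * ((τ₂ : G) * y0 * (τ₂ : G)⁻¹) * (τ₁ : G)⁻¹ := by
            group
        _ = x := by rw [hact τ₂ k2 _ e₂ y0 hQy, hk2y, hact τ₁ s _ e₁ x hQx, hsx]
    rw [hτc, l1] at l2
    have hx1' : x = 1 := eq_one_of_odd_sq (by rw [L.x3]; decide) (mul_eq_one_iff_eq_inv.2 l2.symm)
    exact hσ1 (by
      have : xc = 1 := Subtype.ext hx1'
      rw [this, map_one]; rfl)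

/-- `x` is fixed-point-free on `W`. -/
theorem fpf {y : G} (hy : y ∈ W) (hxy : x * y * x⁻¹ = y) : y = 1 := by
  classical
  by_contra hy1
  haveI : Fact (Nat.Prime 2) := ⟨Nat.prime_two⟩
  set w := torusOrder (Fintype.card F) with hw
  have h3w := Local.not_three_dvd hS L
  have hxy' : Commute x y := mul_inv_eq_iff_eq_mul.1 hxy
  obtain ⟨r, hr, hry⟩ := Nat.exists_prime_and_dvd (fun h => hy1 (orderOf_eq_one_iff.1 h))
  obtain ⟨k, hk⟩ := isConj_iff.1 (L.conj_inv s L.s2)
  have hx1 : Commute (k⁻¹ * x * k) t := by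
    have h := (Commute.conj_iff k⁻¹).2 L.x_s
    rwa [inv_inv, show k⁻¹ * s * k = t by rw [← hk]; group] at h
  have hx1o : orderOf (k⁻¹ * x * k) = 3 := by
    have := (MulEquiv.orderOf_eq (MulAut.conj k⁻¹) x).trans L.x3
    simpa using this
  obtain ⟨n, hnodd, hn5, hnw, hncard⟩ := centralizer_three hS h3w hx1 hx1o
  have hT0 : Nat.card ↥(centralizer ({s} : Set G) ⊓ centralizer ({x} : Set G)) = 2 * n := by
    rw [← hncard]
    refine (Nat.card_congr (Equiv.ofBijective
      (fun c : ↥(centralizer ({t} : Set G) ⊓ centralizer ({k⁻¹ * x * k} : Set G)) =>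
        (⟨k * c * k⁻¹, ?_⟩ : ↥(centralizer ({s} : Set G) ⊓ centralizer ({x} : Set G))))
      ⟨fun a b e => ?_, fun d => ?_⟩)).symm
    · obtain ⟨h1, h2⟩ := mem_inf.1 c.2
      rw [mem_centralizer_singleton_iff] at h1 h2
      refine mem_inf.2 ⟨mem_centralizer_singleton_iff.2 ?_, mem_centralizer_singleton_iff.2 ?_⟩
      · rw [← hk]; exact ((Commute.conj_iff k).2 (show Commute (c : G) t from h1)).eq
      · have h := (Commute.conj_iff k).2 (show Commute (c : G) (k⁻¹ * x * k) from h2)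
        rw [show k * (k⁻¹ * x * k) * k⁻¹ = x by group] at h
        exact h.eq
    · exact Subtype.ext (mul_left_cancel (mul_right_cancel (congrArg Subtype.val e)))
    · obtain ⟨h1, h2⟩ := mem_inf.1 d.2
      rw [mem_centralizer_singleton_iff] at h1 h2
      refine ⟨⟨k⁻¹ * d * k, mem_inf.2 ⟨mem_centralizer_singleton_iff.2 ?_,
        mem_centralizer_singleton_iff.2 ?_⟩⟩, Subtype.ext (by simp [mul_assoc])⟩
      · have h := (Commute.conj_iff k⁻¹).2 (show Commute (d : G) s from h1)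
        rw [inv_inv, show k⁻¹ * s * k = t by rw [← hk]; group] at h
        exact h.eq
      · have h := (Commute.conj_iff k⁻¹).2 (show Commute (d : G) x from h2)
        rw [inv_inv] at h
        exact h.eq
  set Y := centralizer ({x} : Set G) with hY
  have hsY : s ∈ Y := mem_centralizer_singleton_iff.2 L.x_s.symm.eq
  set sY : Y := ⟨s, hsY⟩
  set xY : Y := ⟨x, mem_centralizer_singleton_iff.2 rfl⟩
  have hsY2 : orderOf sY = 2 := by rw [Subgroup.orderOf_mk, L.s2]
  have hsY_inv : sY⁻¹ = sY := inv_eq_of_mul_eq_one_right (Subtype.ext (Local.s_sq hS L))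
  set CY := centralizer ({sY} : Set Y) with hCY
  have hCYcard : Nat.card CY = 2 * n := by
    rw [← hT0]
    exact Nat.card_congr
      { toFun := fun c => ⟨((c : Y) : G), mem_inf.2 ⟨mem_centralizer_singleton_iff.2
          (congrArg Subtype.val (mem_centralizer_singleton_iff.1 c.2)), (c : Y).2⟩⟩
        invFun := fun d => ⟨⟨d, (mem_inf.1 d.2).2⟩, mem_centralizer_singleton_iff.2
          (Subtype.ext (mem_centralizer_singleton_iff.1 (mem_inf.1 d.2).1))⟩
        left_inv := fun _ => rfl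
        right_inv := fun _ => rfl }
  obtain ⟨P, hP⟩ := (IsPGroup.of_card (n := 1) (show Nat.card (zpowers sY) = 2 ^ 1 by
    rw [Nat.card_zpowers, hsY2, pow_one])).exists_le_sylow
  have hsP : sY ∈ (P : Subgroup Y) := hP (mem_zpowers sY)
  have hPC : (P : Subgroup Y) ≤ CY := by
    obtain ⟨R, hR⟩ := (P.2.map Y.subtype).exists_le_sylow
    exact fun p hp => mem_centralizer_singleton_iff.2 (Subtype.ext
      (comm_of_mem hS.abelian R (hR ⟨p, hp, rfl⟩) (hR ⟨sY, hsP, rfl⟩)))
  have hP2 : Nat.card (P : Subgroup Y) = 2 := by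
    obtain ⟨j, hj⟩ := IsPGroup.iff_card.1 P.2
    have h1 : Nat.card (P : Subgroup Y) ∣ 2 * n := hCYcard ▸ card_dvd_of_le hPC
    have h2 : 2 ∣ Nat.card (P : Subgroup Y) := by
      have := Subgroup.orderOf_dvd_natCard _ hsP
      rwa [hsY2] at this
    rw [hj] at h1 h2 ⊢
    rcases j with _ | _ | j
    · norm_num at h2
    · rfl
    · exfalso
      have : 4 ∣ 2 * n := (pow_dvd_pow 2 (show 2 ≤ j + 1 + 1 by omega)).trans h1
      obtain ⟨m, hm⟩ := hnodd
      omega
  have hPall : ∀ p ∈ (P : Subgroup Y), p = 1 ∨ p = sY := by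
    intro p hp
    have he : zpowers sY = (P : Subgroup Y) :=
      eq_of_le_of_card_ge (zpowers_le.2 hsP) (by rw [hP2, Nat.card_zpowers, hsY2])
    rw [← he, mem_zpowers_iff_mem_range_orderOf, hsY2] at hp
    simp only [Finset.mem_image, Finset.mem_range] at hp
    obtain ⟨i, hi, rfl⟩ := hp
    interval_cases i
    · exact Or.inl (pow_zero _)
    · exact Or.inr (pow_one _)
  have hburn : normalizer ((P : Subgroup Y) : Set Y) ≤ centralizer ((P : Subgroup Y) : Set Y) := by
    intro m hm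
    rw [mem_centralizer_iff]
    intro p hp
    rcases hPall _ ((mem_normalizer_iff.1 hm p).1 hp) with e | e
    · rw [conj_eq_one_iff.1 e]; simp
    · rcases hPall p hp with rfl | rfl
      · simp
      · exact (mul_inv_eq_iff_eq_mul.1 e).symm
  set O := (MonoidHom.transferSylow P hburn).ker with hOdef
  have hcompl := MonoidHom.ker_transferSylow_isComplement' P hburn
  have hOidx : O.index = 2 := by
    have := hcompl.symm.card_mul
    have h2 := O.card_mul_index
    have h3 : 0 < Nat.card O := Nat.card_pos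
    rw [hP2] at this
    nlinarith
  have hsO : sY ∉ O := fun h => by
    have := hcompl.disjoint.le_bot (mem_inf.2 ⟨h, hsP⟩)
    rw [mem_bot] at this
    rw [this, orderOf_one] at hsY2
    norm_num at hsY2
  have hoddO : ∀ u : Y, Odd (orderOf u) → u ∈ O := by
    intro u hu
    rw [hOdef, MonoidHom.mem_ker]
    refine orderOf_eq_one_iff.1 (Nat.eq_one_of_dvd_coprimes (Nat.coprime_two_right.2 hu)
      (orderOf_map_dvd _ u) ?_)
    exact (_root_.orderOf_dvd_natCard _).trans (dvd_of_eq hP2)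
  have hOodd : Odd (Nat.card O) := by
    rw [← Nat.not_even_iff_odd]
    intro hev
    obtain ⟨u, hu⟩ := exists_prime_orderOf_dvd_card' (G := O) 2 hev.two_dvd
    obtain ⟨Q, hQ⟩ := (IsPGroup.of_card (n := 1) (show Nat.card (zpowers (u : Y)) = 2 ^ 1 by
      rw [Nat.card_zpowers, Subgroup.orderOf_coe, hu, pow_one])).exists_le_sylow
    obtain ⟨m, hm⟩ := MulAction.exists_smul_eq Y Q P
    have h1 : m * (u : Y) * m⁻¹ ∈ (P : Subgroup Y) := by
      rw [← hm, Sylow.coe_subgroup_smul]; exact ⟨u, hQ (mem_zpowers _), rfl⟩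
    have h2 : m * (u : Y) * m⁻¹ ∈ O := (MonoidHom.normal_ker (MonoidHom.transferSylow P hburn)).conj_mem _ u.2 m
    have h3 := hcompl.disjoint.le_bot (mem_inf.2 ⟨h2, h1⟩)
    rw [mem_bot, conj_eq_one_iff] at h3
    rw [← Subgroup.orderOf_coe, h3, orderOf_one] at hu
    norm_num at hu
  haveI hOn : O.Normal := inferInstanceAs (MonoidHom.transferSylow P hburn).ker.Normal
  set Z := zpowers xY with hZ
  have hxc : ∀ u : Y, u * xY = xY * u := fun u => Subtype.ext (mem_centralizer_singleton_iff.1 u.2)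
  haveI hZn : Z.Normal := ⟨fun z hz m => by
    obtain ⟨i, rfl⟩ := mem_zpowers_iff.1 hz
    rw [((show Commute m xY from hxc m).zpow_right i).eq, mul_inv_cancel_right]
    exact zpow_mem (mem_zpowers _) i⟩
  have hZ3 : Nat.card Z = 3 := by rw [hZ, Nat.card_zpowers, Subgroup.orderOf_mk, L.x3]
  have hxO : xY ∈ O := hoddO _ (by rw [Subgroup.orderOf_mk, L.x3]; decide)
  set π := QuotientGroup.mk' Z with hπ
  set W0 := (W ⊓ Y).subgroupOf Y with hW0
  have hW0W : ∀ {u : Y}, u ∈ W0 → (u : G) ∈ W := fun hu => (mem_inf.1 (mem_subgroupOf.1 hu)).1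
  have hW0O : W0 ≤ O := fun u hu => hoddO u (by
    rw [← Subgroup.orderOf_coe]; exact Local.W_odd hS L (hW0W hu))
  set H := W0.map π with hH
  set Ob := O.map π with hOb
  set a := π sY with ha
  have hHO : H ≤ Ob := map_mono hW0O
  have hObodd : Odd (Nat.card Ob) := hOodd.of_dvd_nat (card_map_dvd _ π)
  have haa : a * a = 1 := by
    rw [ha, ← map_mul, show sY * sY = 1 from Subtype.ext (Local.s_sq hS L), map_one]
  have hObn : Ob.Normal := hOn.map π (QuotientGroup.mk'_surjective Z)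
  have hainv : ∀ h ∈ H, a * h * a = h⁻¹ := by
    rintro _ ⟨u, hu, rfl⟩
    rw [ha, ← map_mul, ← map_mul, ← map_inv]
    exact congrArg π (Subtype.ext (Local.s_W' hS L (hW0W hu)))
  have hrw : r ∣ w := hry.trans (L.card_W ▸ W.orderOf_dvd_natCard hy)
  have hkerw : ∀ u : Y, (u : G) ∈ W → u ∈ Z → u = 1 := by
    intro u hu huZ
    have h1 : orderOf u ∣ 3 := hZ3 ▸ Z.orderOf_dvd_natCard huZ
    have h2 : orderOf u ∣ w := by
      rw [← Subgroup.orderOf_coe]; exact L.card_W ▸ W.orderOf_dvd_natCard hu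
    exact orderOf_eq_one_iff.1 (Nat.eq_one_of_dvd_coprimes
      ((Nat.prime_three.coprime_iff_not_dvd).2 h3w) h1 h2)
  have hrH : r ∣ Nat.card H := by
    have hcard : Nat.card H = Nat.card W0 := by
      refine (Nat.card_congr (Equiv.ofBijective (fun u : W0 => (⟨π u, mem_map_of_mem π u.2⟩ : H))
        ⟨fun u v e => Subtype.ext (inv_mul_eq_one.1 (hkerw _ ?_ ?_)), fun h => ?_⟩)).symm
      · exact mul_mem (inv_mem (hW0W u.2)) (hW0W v.2)
      · exact QuotientGroup.eq.1 (congrArg Subtype.val e)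
      · obtain ⟨u, hu, e⟩ := h.2; exact ⟨⟨u, hu⟩, Subtype.ext e⟩
    rw [hcard]
    have hyW0 : (⟨y, mem_centralizer_singleton_iff.2 hxy'.symm.eq⟩ : Y) ∈ W0 :=
      mem_subgroupOf.2 (mem_inf.2 ⟨hy, mem_centralizer_singleton_iff.2 hxy'.symm.eq⟩)
    refine hry.trans ?_
    have := W0.orderOf_dvd_natCard hyW0
    rwa [Subgroup.orderOf_mk] at this
  -- fixed points of `a`
  set L1 := O ⊓ CY with hL1
  have hL1card : Nat.card L1 = n := by
    have h1 := Subgroup.relIndex_dvd_index_of_normal (H := O) (K := CY)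
    rw [hOidx] at h1
    have h2 : O.relIndex CY ≠ 1 := fun h => hsO (relIndex_eq_one.1 h
      (mem_centralizer_singleton_iff.2 rfl))
    have h3 : O.relIndex CY = 2 := by
      rcases (Nat.dvd_prime Nat.prime_two).1 h1 with h | h
      · exact absurd h h2
      · exact h
    have h4 := (O.subgroupOf CY).card_mul_index
    rw [show (O.subgroupOf CY).index = O.relIndex CY from rfl, h3, hCYcard,
      ← inf_subgroupOf_right, Nat.card_congr (subgroupOfEquivOfLe (inf_le_right : O ⊓ CY ≤ CY)).toEquiv,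
      ← hL1] at h4
    omega
  have hfixed : Ob ⊓ centralizer ({a} : Set (Y ⧸ Z)) = L1.map π := by
    refine le_antisymm ?_ ?_
    · intro q hq
      obtain ⟨⟨u, hu, rfl⟩, hq2⟩ := mem_inf.1 hq
      rw [mem_centralizer_singleton_iff, ha, ← map_mul, ← map_mul] at hq2
      set d := sY * u * sY * u⁻¹ with hd
      have hdZ : d ∈ Z := by
        rw [← QuotientGroup.ker_mk' Z, MonoidHom.mem_ker, hd, ← hπ, map_mul, map_inv, mul_assoc sY u sY,
          map_mul, hq2, ← map_mul, ← mul_assoc, show sY * sY = 1 from Subtype.ext (Local.s_sq hS L),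
          one_mul, mul_inv_cancel]
      have hd1 : sY * d * sY = d⁻¹ := by
        rw [hd, _root_.mul_inv_rev, _root_.mul_inv_rev, _root_.mul_inv_rev, inv_inv, hsY_inv]
        simp only [← mul_assoc, show sY * sY = 1 from Subtype.ext (Local.s_sq hS L), one_mul]
      have hd2 : sY * d * sY = d := by
        obtain ⟨i, hi⟩ := mem_zpowers_iff.1 hdZ
        rw [← hi, (((show Commute sY xY from hxc sY).zpow_right i)).eq, mul_assoc,
          show sY * sY = 1 from Subtype.ext (Local.s_sq hS L), mul_one]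
      have hdone : d = 1 := eq_one_of_odd_sq
        (Odd.of_dvd_nat (show Odd 3 by decide) (hZ3 ▸ Z.orderOf_dvd_natCard hdZ))
        (mul_eq_one_iff_eq_inv.2 (hd2.symm.trans hd1))
      refine ⟨u, mem_inf.2 ⟨hu, mem_centralizer_singleton_iff.2 ?_⟩, rfl⟩
      rw [hd, mul_inv_eq_one, mul_assoc] at hdone
      nth_rewrite 2 [← hdone]
      rw [← mul_assoc, show sY * sY = 1 from Subtype.ext (Local.s_sq hS L), one_mul]
    · rintro _ ⟨u, hu, rfl⟩
      obtain ⟨hu1, hu2⟩ := mem_inf.1 hu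
      refine mem_inf.2 ⟨mem_map_of_mem π hu1, mem_centralizer_singleton_iff.2 ?_⟩
      rw [ha, ← map_mul, ← map_mul, mem_centralizer_singleton_iff.1 hu2]
  have hZL : Z ≤ L1 := zpowers_le.2 (mem_inf.2 ⟨hxO, mem_centralizer_singleton_iff.2 (hxc sY).symm⟩)
  have hmap : Nat.card (L1.map π) * 3 = n := by
    have h := (π.domRestrict L1).ker.card_mul_index
    rw [index_ker, MonoidHom.domRestrict_range, hL1card, MonoidHom.ker_domRestrict, QuotientGroup.ker_mk',
      Nat.card_congr (subgroupOfEquivOfLe hZL).toEquiv, hZ3] at h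
    rw [mul_comm]; exact h
  have hne : H ≠ Ob := by
    intro e
    have h1 : Nat.card (L1.map π) = 1 := by
      rw [← hfixed, Subgroup.card_eq_one, eq_bot_iff_forall]
      intro h hh
      obtain ⟨h1, h2⟩ := mem_inf.1 hh
      rw [← e] at h1
      have h3 := hainv h h1
      rw [mem_centralizer_singleton_iff] at h2
      rw [← h2, mul_assoc, haa, mul_one] at h3
      exact eq_one_of_odd_sq (hObodd.of_dvd_nat (Ob.orderOf_dvd_natCard (hHO h1)))
        (mul_eq_one_iff_eq_inv.2 h3)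
    omega
  have hTI : ∀ g ∈ Ob, g ∉ H → ∀ h ∈ H, h ≠ 1 → g⁻¹ * h * g ∉ H := by
    rintro _ ⟨u, hu, rfl⟩ hgH _ ⟨y1, hy1', rfl⟩ hh1 ⟨y2, hy2, e⟩
    rw [← map_inv, ← map_mul, ← map_mul] at e
    have hd : y2⁻¹ * (u⁻¹ * y1 * u) ∈ Z := QuotientGroup.eq.1 e
    set d := y2⁻¹ * (u⁻¹ * y1 * u) with hddef
    have heq : u⁻¹ * y1 * u = y2 * d := by rw [hddef]; group
    have hyw : ∀ {v : Y}, v ∈ W0 → v ^ w = 1 := fun hv => Subtype.ext (by
      rw [Subgroup.coe_pow]; exact orderOf_dvd_iff_pow_eq_one.1 (L.card_W ▸ W.orderOf_dvd_natCard (hW0W hv)))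
    have hdw : d ^ w = 1 := by
      have h1 : (u⁻¹ * y1 * u) ^ w = 1 := by
        rw [show u⁻¹ * y1 * u = u⁻¹ * y1 * u⁻¹⁻¹ by rw [inv_inv], conj_pow, hyw hy1']; group
      have hcd : Commute y2 d := by
        obtain ⟨i, hi⟩ := mem_zpowers_iff.1 hd
        rw [← hi]; exact (show Commute y2 xY from hxc y2).zpow_right i
      rw [heq, hcd.mul_pow, hyw hy2, one_mul] at h1
      exact h1
    have hd1 : d = 1 := orderOf_eq_one_iff.1 (Nat.eq_one_of_dvd_coprimes
      ((Nat.prime_three.coprime_iff_not_dvd).2 h3w) (hZ3 ▸ Z.orderOf_dvd_natCard hd)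
      (orderOf_dvd_of_pow_eq_one hdw))
    rw [hd1, mul_one] at heq
    set g := ((u⁻¹ : Y) : G) with hg
    have hgy : g * (y1 : G) * g⁻¹ = y2 := by
      rw [← heq]; push_cast; rw [hg]; push_cast; group
    have hy1W := hW0W hy1'
    have hy2W := hW0W hy2
    have hy11 : (y1 : G) ≠ 1 := fun h => hh1 (by
      have : y1 = 1 := Subtype.ext h
      rw [this, map_one])
    have hy21 : (y2 : G) ≠ 1 := fun h => hy11 (conj_eq_one_iff.1 (hgy.trans h))
    have hgodd : Odd (orderOf g) := by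
      rw [hg, Subgroup.orderOf_coe, orderOf_inv]; exact hOodd.of_dvd_nat (O.orderOf_dvd_natCard hu)
    set X2 := centralizer ({(y2 : G)} : Set G) with hX2
    obtain ⟨P2, hP2V, -, hV2⟩ := Local.exists_sylow_V hS L hy2W hy21
    set Vg := V.map (MulAut.conj g).toMonoidHom with hVg
    have hVgX : Vg ≤ X2 := by
      rintro _ ⟨v, hv, rfl⟩
      refine mem_centralizer_singleton_iff.2 ?_
      have := (Commute.conj_iff g).2 (L.comm_VW v hv _ hy1W)
      rw [hgy] at this
      exact this.eq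
    obtain ⟨R, hR⟩ := (((IsPGroup.of_card (n := 2) L.card_V : IsPGroup 2 V).map
      (MulAut.conj g).toMonoidHom).comap_of_injective X2.subtype X2.subtype_injective).exists_le_sylow
    obtain ⟨c, hc⟩ := MulAction.exists_smul_eq X2 R P2
    have hn : ∀ v ∈ V, ((c : G) * g) * v * ((c : G) * g)⁻¹ ∈ V := by
      intro v hv
      have hmem : (⟨g * v * g⁻¹, hVgX ⟨v, hv, rfl⟩⟩ : X2) ∈ (R : Subgroup X2) := hR ⟨v, hv, rfl⟩
      have h1 : c * ⟨g * v * g⁻¹, hVgX ⟨v, hv, rfl⟩⟩ * c⁻¹ ∈ (P2 : Subgroup X2) := by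
        rw [← hc, Sylow.coe_subgroup_smul]; exact ⟨_, hmem, rfl⟩
      rw [hP2V, mem_subgroupOf] at h1
      rw [show (c : G) * g * v * ((c : G) * g)⁻¹ = (c : G) * (g * v * g⁻¹) * (c : G)⁻¹ by group]
      exact h1
    obtain ⟨i, -, hi⟩ := Local.normalizer_V_conj hS L hn
    have hcy : (c : G) * g * y1 * ((c : G) * g)⁻¹ = y2 := by
      rw [show (c : G) * g * y1 * ((c : G) * g)⁻¹ = (c : G) * (g * y1 * g⁻¹) * (c : G)⁻¹ by group, hgy,
        mem_centralizer_singleton_iff.1 c.2, mul_inv_cancel_right]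
    have hxy1 : Commute x (y1 : G) := (mem_centralizer_singleton_iff.1 y1.2).symm
    rcases hi _ hy1W with e' | e' <;> rw [hcy] at e'
    · rw [(hxy1.pow_left i).eq, mul_inv_cancel_right] at e'
      rw [e'] at hgy
      obtain ⟨j, -, v, hv, hgj⟩ := Local.cent_x_odd hS L hy1W hy11 hxy1
        (mul_inv_eq_iff_eq_mul.1 hgy) (mem_centralizer_singleton_iff.1 (u⁻¹).2) hgodd
      apply hgH
      have hvY : v ∈ Y := by
        refine mem_centralizer_singleton_iff.2 ?_
        have h1 : Commute g x := mem_centralizer_singleton_iff.1 (u⁻¹).2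
        have h2 : v = (x ^ j)⁻¹ * g := by rw [hgj]; group
        rw [h2]
        exact (((Commute.refl x).pow_left j).inv_left.mul_left h1).eq
      have hvW0 : (⟨v, hvY⟩ : Y) ∈ W0 := mem_subgroupOf.2 (mem_inf.2 ⟨hv, hvY⟩)
      have h2 : u⁻¹ = xY ^ j * ⟨v, hvY⟩ := Subtype.ext (by rw [Subgroup.coe_mul, Subgroup.coe_pow]; exact hgj)
      have h3 : π u⁻¹ = π ⟨v, hvY⟩ := by
        rw [h2, map_mul, map_pow, show π xY = 1 from (QuotientGroup.eq_one_iff _).2 (mem_zpowers _), one_pow,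
          one_mul]
      have h4 : π u⁻¹ ∈ H := h3 ▸ mem_map_of_mem π hvW0
      have := inv_mem h4
      rwa [map_inv, inv_inv] at this
    · rw [(hxy1.pow_left i).inv_right.eq, mul_inv_cancel_right] at e'
      rw [e'] at hgy
      exact hy11 (odd_inv_fix hgodd (Local.W_odd hS L hy1W) hgy)
  have hmod := frobenius_count hObodd hHO hne haa
    (by rw [@normalizer_eq_top _ _ Ob hObn]; exact mem_top _) hainv hr hrH hTI
  rw [hfixed] at hmod
  set N := Nat.card (L1.map π)
  have h9 : 9 ≡ 1 [MOD r] := by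
    have h1 : (n * n) ≡ 1 [MOD r] := Nat.ModEq.of_dvd hrw hnw
    have h2 : 9 * N ^ 2 ≡ 9 * 1 [MOD r] := hmod.mul_left 9
    rw [show 9 * N ^ 2 = n * n by rw [← hmap]; ring, mul_one] at h2
    exact h2.symm.trans h1
  have h8 : r ∣ 8 := by
    have := (Nat.modEq_iff_dvd' (show 1 ≤ 9 by norm_num)).1 h9.symm
    simpa using this
  have hr2 : r = 2 := (Nat.prime_dvd_prime_iff_eq hr Nat.prime_two).1
    (hr.dvd_of_dvd_pow (show r ∣ 2 ^ 3 from h8))
  exact L.odd_w.not_two_dvd_nat (hr2 ▸ hrw)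

theorem cent_eq {y : G} (hy : y ∈ W) (hy1 : y ≠ 1) : centralizer ({y} : Set G) = V ⊔ W :=
  Local.cent_of_move hS L hy hy1 fun h => hy1 (Local.fpf hS L hy h)

theorem conj_VW {g y : G} (hy : y ∈ W) (hy1 : y ≠ 1) (hgy : g * y * g⁻¹ ∈ W) {d : G}
    (hd : d ∈ V ⊔ W) : g * d * g⁻¹ ∈ V ⊔ W := by
  rw [← Local.cent_eq hS L hy hy1] at hd
  rw [← Local.cent_eq hS L hgy (fun h => hy1 (conj_eq_one_iff.1 h))]
  exact mem_centralizer_singleton_iff.2
    ((Commute.conj_iff g).2 (show Commute d y from mem_centralizer_singleton_iff.1 hd)).eq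

theorem ti {g y : G} (hy : y ∈ W) (hy1 : y ≠ 1) (hgy : g * y * g⁻¹ ∈ W) :
    g ∈ normalizer (W : Set G) :=
  CfsgLib.Involution.TwoTimesPSL.mem_normalizer_of_conj fun u hu =>
    Local.odd_VW hS L (Local.conj_VW hS L hy hy1 hgy (mem_sup_right hu))
      (by rw [show g * u * g⁻¹ = MulAut.conj g u from rfl, MulEquiv.orderOf_eq]; exact Local.W_odd hS L hu)

theorem normalizer_mem {g : G} (hg : g ∈ normalizer (W : Set G)) :
    ∃ i < 3, ∃ d : G, g = x ^ i * d ∧ (d ∈ V ⊔ W ∨ s * d ∈ V ⊔ W) := by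
  have hw3 := Local.three_le_w hS L
  obtain ⟨y, hy, hy1⟩ := CfsgLib.Involution.TwoTimesPSL.exists_ne_one_of_card (H := W)
    (by rw [L.card_W]; omega)
  have hgy : g * y * g⁻¹ ∈ W := (mem_normalizer_iff.1 hg y).1 hy
  refine Local.normalizer_V hS L fun v hv => ?_
  obtain ⟨v', hv', u', hu', e⟩ :=
    (Local.mem_VW hS L).1 (Local.conj_VW hS L hy hy1 hgy (mem_sup_left hv))
  have hsq : (g * v * g⁻¹) * (g * v * g⁻¹) = 1 := by
    rw [show g * v * g⁻¹ * (g * v * g⁻¹) = g * (v * v) * g⁻¹ by group, L.sq_V v hv]; group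
  rw [e, show v' * u' * (v' * u') = v' * (u' * v') * u' by group, (L.comm_VW v' hv' u' hu').symm.eq,
    show v' * (v' * u') * u' = (v' * v') * (u' * u') by group, L.sq_V v' hv', one_mul] at hsq
  rw [e, eq_one_of_odd_sq (Local.W_odd hS L hu') hsq, mul_one]
  exact hv'

theorem x_mem_normalizer : x ∈ normalizer (W : Set G) :=
  CfsgLib.Involution.TwoTimesPSL.mem_normalizer_of_conj L.x_W

theorem s_mem_normalizer : s ∈ normalizer (W : Set G) :=
  CfsgLib.Involution.TwoTimesPSL.mem_normalizer_of_conj fun y hy => by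
    rw [L.s_W y hy]; exact inv_mem hy

theorem VW_le_normalizer : V ⊔ W ≤ normalizer (W : Set G) := by
  refine sup_le (fun v hv => CfsgLib.Involution.TwoTimesPSL.mem_normalizer_of_conj fun y hy => ?_)
    le_normalizer
  rw [(L.comm_VW v hv y hy).eq, mul_inv_cancel_right]; exact hy

theorem card_VW : Nat.card ↥(V ⊔ W) = 4 * torusOrder (Fintype.card F) := by
  rw [← L.card_V, ← L.card_W, ← Nat.card_prod]
  refine (Nat.card_congr (Equiv.ofBijective
    (fun p : V × W => (⟨(p.1 : G) * p.2, mul_mem (mem_sup_left p.1.2) (mem_sup_right p.2.2)⟩ : ↥(V ⊔ W)))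
    ⟨fun p q e => ?_, fun d => ?_⟩)).symm
  · have e' : (p.1 : G) * p.2 = q.1 * q.2 := congrArg Subtype.val e
    have h : (q.1 : G)⁻¹ * p.1 = q.2 * (p.2 : G)⁻¹ := by
      rw [inv_mul_eq_iff_eq_mul, ← mul_assoc, ← e', mul_inv_cancel_right]
    have h1 := Local.V_W_one hS L (mul_mem (inv_mem q.1.2) p.1.2) (h ▸ mul_mem q.2.2 (inv_mem p.2.2))
    exact Prod.ext (Subtype.ext (inv_mul_eq_one.1 h1).symm)
      (Subtype.ext (mul_inv_eq_one.1 (h ▸ h1)).symm)
  · obtain ⟨v, hv, u, hu, e⟩ := (Local.mem_VW hS L).1 d.2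
    exact ⟨(⟨v, hv⟩, ⟨u, hu⟩), Subtype.ext e.symm⟩

theorem s_notVW : s ∉ V ⊔ W := by
  intro h
  have hw3 := Local.three_le_w hS L
  obtain ⟨y, hy, hy1⟩ := CfsgLib.Involution.TwoTimesPSL.exists_ne_one_of_card (H := W)
    (by rw [L.card_W]; omega)
  have h1 := L.s_W y hy
  rw [(Local.VW_comm hS L h (mem_sup_right hy)).eq, mul_inv_cancel_right] at h1
  exact hy1 (eq_one_of_odd_sq (Local.W_odd hS L hy) (mul_eq_one_iff_eq_inv.2 h1))

theorem card_normalizer :
    Nat.card (normalizer (W : Set G)) = 24 * torusOrder (Fintype.card F) := by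
  let f : Fin 3 × Bool × ↥(V ⊔ W) → normalizer (W : Set G) := fun p =>
    ⟨x ^ (p.1 : ℕ) * ((if p.2.1 then s else 1) * (p.2.2 : G)),
      mul_mem (pow_mem (Local.x_mem_normalizer hS L) _) (mul_mem
        (by split_ifs <;> [exact Local.s_mem_normalizer hS L; exact one_mem _])
        (Local.VW_le_normalizer hS L p.2.2.2))⟩
  have hfix : ∀ (b : Bool) (d : G), d ∈ V ⊔ W →
      (((if b then s else 1) * d) * t * ((if b then s else 1) * d)⁻¹ = t) := by
    intro b d hd
    have hc : Commute ((if b then s else 1) * d) t :=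
      Commute.mul_left (by cases b <;> simp [L.s_V t L.t_mem])
        (Local.VW_comm hS L hd (mem_sup_left L.t_mem))
    rw [hc.eq, mul_inv_cancel_right]
  have hinj : Function.Injective f := by
    rintro ⟨i, b, d⟩ ⟨j, c, e⟩ h
    have h' : x ^ (i : ℕ) * ((if b then s else 1) * (d : G)) =
        x ^ (j : ℕ) * ((if c then s else 1) * (e : G)) := congrArg Subtype.val h
    have ht' := congrArg (fun g => g * t * g⁻¹) h'
    have hsplit : ∀ (p q : G), p * q * t * (p * q)⁻¹ = p * (q * t * q⁻¹) * p⁻¹ := fun p q => by group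
    have ht'' : x ^ (i : ℕ) * t * (x ^ (i : ℕ))⁻¹ = x ^ (j : ℕ) * t * (x ^ (j : ℕ))⁻¹ := by
      have e1 := hsplit (x ^ (i : ℕ)) ((if b then s else 1) * (d : G))
      have e2 := hsplit (x ^ (j : ℕ)) ((if c then s else 1) * (e : G))
      rw [hfix b d d.2] at e1
      rw [hfix c e e.2] at e2
      exact e1.symm.trans (ht'.trans e2)
    clear ht'
    have ht' := ht''
    have hij : i = j := by
      have h3 := Local.x_cube hS L
      have hm : x * t * x⁻¹ ≠ t := L.x_move
      have hm2 : x ^ 2 * t * (x ^ 2)⁻¹ ≠ t := fun h2 => hm (by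
        calc x * t * x⁻¹ = x * (x ^ 2 * t * (x ^ 2)⁻¹) * x⁻¹ := by rw [h2]
          _ = x ^ 3 * t * (x ^ 3)⁻¹ := by group
          _ = t := by rw [h3]; simp)
      have hm12 : x ^ 2 * t * (x ^ 2)⁻¹ ≠ x * t * x⁻¹ := fun h2 => hm (by
        rw [show x ^ 2 * t * (x ^ 2)⁻¹ = x * (x * t * x⁻¹) * x⁻¹ by rw [pow_two]; group] at h2
        exact mul_left_cancel (mul_right_cancel h2))
      fin_cases i <;> fin_cases j <;> simp at ht' ⊢ <;>
        first
          | exact hm ht' | exact hm ht'.symm | exact hm2 ht' | exact hm2 ht'.symm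
          | exact hm12 ht' | exact hm12 ht'.symm
    subst hij
    have h2 := mul_left_cancel h'
    have hbc : b = c := by
      cases b <;> cases c <;> simp at h2 ⊢
      · exact Local.s_notVW hS L (by
          rw [show s = (d : G) * (e : G)⁻¹ by rw [h2]; group]; exact mul_mem d.2 (inv_mem e.2))
      · exact Local.s_notVW hS L (by
          rw [show s = (e : G) * (d : G)⁻¹ by rw [← h2]; group]; exact mul_mem e.2 (inv_mem d.2))
    subst hbc
    rw [Subtype.ext (mul_left_cancel h2)]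
  have hsurj : Function.Surjective f := by
    rintro ⟨g, hg⟩
    obtain ⟨i, hi, d, rfl, hd⟩ := Local.normalizer_mem hS L hg
    rcases hd with hd | hd
    · exact ⟨(⟨i, hi⟩, false, ⟨d, hd⟩), Subtype.ext (by simp [f])⟩
    · refine ⟨(⟨i, hi⟩, true, ⟨s * d, hd⟩), Subtype.ext ?_⟩
      show x ^ i * (s * (s * d)) = x ^ i * d
      rw [← mul_assoc s, Local.s_sq hS L, one_mul]
  rw [← Nat.card_eq_of_bijective f ⟨hinj, hsurj⟩, Nat.card_prod, Nat.card_prod,
    Local.card_VW hS L]
  simp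
  ring

theorem normalizer_eq : normalizer (W : Set G) = V ⊔ W ⊔ zpowers x ⊔ zpowers s := by
  refine le_antisymm (fun g hg => ?_) (sup_le (sup_le (Local.VW_le_normalizer hS L)
    (zpowers_le.2 (Local.x_mem_normalizer hS L))) (zpowers_le.2 (Local.s_mem_normalizer hS L)))
  obtain ⟨i, -, d, rfl, hd⟩ := Local.normalizer_mem hS L hg
  refine mul_mem (mem_sup_left (mem_sup_right (pow_mem (mem_zpowers x) i))) ?_
  rcases hd with hd | hd
  · exact mem_sup_left (mem_sup_left hd)
  · have h : d = s * (s * d) := by rw [← mul_assoc, Local.s_sq hS L, one_mul]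
    rw [h]
    exact mul_mem (mem_sup_right (mem_zpowers s)) (mem_sup_left (mem_sup_left hd))

theorem toFrame : Frame G t (torusOrder (Fintype.card F)) V W s x where
  card_V := L.card_V
  sq_V := L.sq_V
  t_mem := L.t_mem
  card_W := L.card_W
  cyclic_W := L.cyclic_W
  odd_w := L.odd_w
  comm_VW := L.comm_VW
  s2 := L.s2
  s_V := L.s_V
  s_W := L.s_W
  x3 := L.x3
  x_V := L.x_V
  x_move := L.x_move
  x_s := L.x_s
  x_W := L.x_W
  x_fpf := fun _ hy h => Local.fpf hS L hy h
  conj_inv := L.conj_inv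
  cent := fun _ hy hy1 => Local.cent_eq hS L hy hy1
  ti := fun _ _ hy hy1 h => Local.ti hS L hy hy1 h
  normalizer_eq := Local.normalizer_eq hS L
  card_normalizer := Local.card_normalizer hS L

end Local

/-- The frame exists. -/
theorem exists_frame [IsSimpleGroup G] (hS : Setting G F t) :
    ∃ V W : Subgroup G, ∃ s x : G, Frame G t (torusOrder (Fintype.card F)) V W s x := by
  obtain ⟨V, W, s, x, L⟩ := exists_local hS
  exact ⟨V, W, s, x, Local.toFrame hS L⟩

end CfsgLib.Recognition.ReeCentralizer
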