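import Cfsg.Agent.Lib.Recognition.AbelianCentraliser.Main
import Cfsg.Agent.Lib.Classical.SL2Tori
import Cfsg.Agent.S0494

/-!
# A group with abelian involution centralisers and a Klein four Sylow 2-subgroup

It has the four group as a normal subgroup or is `A₅ × A`, `A` of odd order; and the few facts about
`A₅` that are needed.
-/

set_option autoImplicit false
set_option linter.unusedSectionVars false
set_option linter.style.haveILetI false

namespace CfsgLib.Recognition.ReeCentralizer

open Subgroup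

local notation "A5" => alternatingGroup (Fin 5)

set_option maxHeartbeats 1000000 in
theorem a5_cent_three : ∀ a : A5, a ≠ 1 → a * (a * a) = 1 → ∀ c : A5, c * a = a * c →
    decide (c = 1) || decide (c = a) || decide (c = a * a) = true := by
  decide +kernel

set_option maxHeartbeats 1000000 in
theorem a5_cent_two : ∀ a : A5, a ≠ 1 → a * a = 1 → ∀ c : A5, c * a = a * c → c * c = 1 := by
  decide +kernel

set_option maxHeartbeats 1000000 in
theorem a5_inverted : ∀ a : A5, a * (a * a) = 1 → ∃ i : A5, i * i = 1 ∧ i * a * i = a * a ∧ i ≠ 1 := by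
  decide +kernel

set_option maxHeartbeats 1000000 in
theorem a5_conj_three : ∀ a : A5, a ≠ 1 → a * (a * a) = 1 → ∀ b : A5, b ≠ 1 → b * (b * b) = 1 →
    ∃ h : A5, h * a = b * h := by
  decide +kernel

set_option maxHeartbeats 1000000 in
theorem a5_conj_two : ∀ a : A5, a ≠ 1 → a * a = 1 → ∀ b : A5, b ≠ 1 → b * b = 1 →
    ∃ h : A5, h * a = b * h := by
  decide +kernel

/-- The dichotomy. -/
theorem klein_cases {X : Type*} [Group X] [Finite X]
    (hc : CfsgLib.Recognition.AbelianCentraliser.AC X) (P : Sylow 2 X)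
    (hP4 : Nat.card (P : Subgroup X) = 4) (hsq : ∀ v ∈ (P : Subgroup X), v * v = 1) :
    (P : Subgroup X).Normal ∨
      ∃ (A : Type) (_ : CommGroup A) (_ : Finite A), Odd (Nat.card A) ∧
        Nonempty (X ≃* A5 × A) := by
  classical
  haveI : Fact (Nat.Prime 2) := ⟨Nat.prime_two⟩
  by_cases hn : (P : Subgroup X).Normal
  · exact Or.inl hn
  refine Or.inr ?_
  have hcyc : ¬ IsCyclic (P : Subgroup X) := by
    intro h
    obtain ⟨g, hg⟩ := isCyclic_iff_exists_orderOf_eq_natCard.1 h
    have : orderOf g ∣ 2 := orderOf_dvd_of_pow_eq_one (Subtype.ext (by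
      show (g : X) ^ 2 = 1
      rw [pow_two]; exact hsq g g.2))
    rw [hg, hP4] at this
    norm_num at this
  obtain ⟨F, _, _, A, _, _, hchar, hA, ⟨f⟩⟩ :=
    CfsgLib.Recognition.AbelianCentraliser.structure_of_noncyclic hc P hcyc hn
  haveI := hchar
  obtain ⟨k, -, hk⟩ := FiniteField.card F 2
  have hcard : Nat.card X = Fintype.card F * ((Fintype.card F - 1) * (Fintype.card F + 1)) * Nat.card A := by
    rw [Nat.card_congr f.toEquiv, Nat.card_prod, CfsgLib.Classical.card_sl2']
  have hmult := P.card_eq_multiplicity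
  have h8 : ¬ 8 ∣ Nat.card X := by
    intro h8
    have := P.pow_dvd_card_of_pow_dvd_card (n := 3) h8
    rw [hP4] at this
    norm_num at this
  have hk2 : (k : ℕ) ≤ 2 := by
    by_contra hlt
    refine h8 ?_
    rw [hcard, hk]
    exact ((pow_dvd_pow 2 (show 3 ≤ (k : ℕ) by omega)).mul_right _).mul_right _
  have h4 : 4 ∣ Nat.card X := hP4 ▸ card_subgroup_dvd_card (P : Subgroup X)
  have hF4 : Fintype.card F = 4 := by
    have := k.pos
    obtain hk1 | hk1 : (k : ℕ) = 1 ∨ (k : ℕ) = 2 := by omega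
    · exfalso
      rw [hcard, hk, hk1] at h4
      obtain ⟨m, hm⟩ := hA
      omega
    · rw [hk, hk1]; rfl
  obtain ⟨e'⟩ := CfsgLib.Perm.SharpThreeOdd.psl_equiv_sl (F := F)
  haveI : IsSimpleGroup (Matrix.ProjectiveSpecialLinearGroup (Fin 2) F) :=
    CfsgLib.Classical.psl_fin_isSimpleGroup le_rfl (fun _ => by omega)
  have h60 : Nat.card (Matrix.ProjectiveSpecialLinearGroup (Fin 2) F) = 60 := by
    rw [Nat.card_congr e'.toEquiv, CfsgLib.Classical.card_sl2', hF4]
  obtain ⟨e5⟩ := Cfsg.Agent.S0494.result h60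
  exact ⟨A, inferInstance, inferInstance, hA,
    ⟨f.trans (MulEquiv.prodCongr (e'.symm.trans e5) (MulEquiv.refl A))⟩⟩

end CfsgLib.Recognition.ReeCentralizer
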