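import Cfsg.Agent.Lib.Recognition.ReeCentralizer.InCentralizer
import Cfsg.Agent.Lib.Recognition.ReeCentralizer.FixedModel

/-!
# The centraliser of a torus element

For `1 ≠ y ∈ W` the group `X = C(y)` has the four group `V` as a Sylow 2-subgroup and `C_X(v) = V W`
for every involution `v` of `V`, so `V` is normal in `X` or `X ≅ A₅ × A` with `A` of odd order.
-/

set_option autoImplicit false
set_option linter.unusedSectionVars false
set_option linter.style.haveILetI false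

namespace CfsgLib.Recognition.ReeCentralizer

open Subgroup

variable {G : Type*} [Group G] [Finite G] {F : Type*} [Field F] [Fintype F] {t : G}
  {V W : Subgroup G} {s x : G}

local notation "A5" => alternatingGroup (Fin 5)

theorem eq_one_of_odd_sq {H : Type*} [Group H] {a : H} (ho : Odd (orderOf a)) (h : a * a = 1) :
    a = 1 :=
  orderOf_eq_one_iff.1 (Nat.eq_one_of_dvd_coprimes (Nat.coprime_two_right.2 ho) dvd_rfl
    (orderOf_dvd_of_pow_eq_one (by rw [pow_two]; exact h)))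

/-- An element fixed up to sign by an element of order three is fixed. -/
theorem three_inv_fix {y a : G} (hy : Odd (orderOf y)) (ha : a ^ 3 = 1) (h : a * y * a⁻¹ = y⁻¹) :
    y = 1 := by
  have h2 : a * (a * y * a⁻¹) * a⁻¹ = y := by rw [h, ← conj_inv, h, inv_inv]
  have h3 : a ^ 3 * y * (a ^ 3)⁻¹ = y⁻¹ := by
    calc a ^ 3 * y * (a ^ 3)⁻¹ = a * (a * (a * y * a⁻¹) * a⁻¹) * a⁻¹ := by
          rw [pow_succ, pow_succ, pow_one]; group
      _ = y⁻¹ := by rw [h2, h]
  rw [ha] at h3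
  simp only [one_mul, inv_one, mul_one] at h3
  exact eq_one_of_odd_sq hy (mul_eq_one_iff_eq_inv.2 h3)

namespace Local

variable (hS : Setting G F t) (L : Local G t (torusOrder (Fintype.card F)) V W s x)
include hS L

theorem three_le_w : 3 ≤ torusOrder (Fintype.card F) := by
  have := hS.mod_eight
  have := hS.large
  rw [torusOrder]; split_ifs <;> omega

theorem t_sq : t * t = 1 := L.sq_V t L.t_mem

theorem t_ne : t ≠ 1 := fun h => L.x_move (by rw [h]; simp)

theorem x_cube : x ^ 3 = 1 := by rw [← L.x3]; exact pow_orderOf_eq_one x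

theorem s_sq : s * s = 1 := by rw [← pow_two, ← L.s2]; exact pow_orderOf_eq_one s

theorem W_odd {y : G} (hy : y ∈ W) : Odd (orderOf y) :=
  L.odd_w.of_dvd_nat (L.card_W ▸ W.orderOf_dvd_natCard hy)

theorem V_W_one {a : G} (hV : a ∈ V) (hW : a ∈ W) : a = 1 :=
  eq_one_of_odd_sq (Local.W_odd hS L hW) (L.sq_V a hV)

theorem V_comm {a b : G} (ha : a ∈ V) (hb : b ∈ V) : Commute a b := by
  have h := L.sq_V _ (mul_mem ha hb)
  show a * b = b * a
  rw [← inv_eq_of_mul_eq_one_right h, _root_.mul_inv_rev, inv_eq_of_mul_eq_one_right (L.sq_V a ha),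
    inv_eq_of_mul_eq_one_right (L.sq_V b hb)]

theorem W_comm {a b : G} (ha : a ∈ W) (hb : b ∈ W) : Commute a b := by
  haveI := L.cyclic_W
  obtain ⟨g, hg⟩ := IsCyclic.exists_generator (α := W)
  obtain ⟨i, hi⟩ := mem_zpowers_iff.1 (hg ⟨a, ha⟩)
  obtain ⟨j, hj⟩ := mem_zpowers_iff.1 (hg ⟨b, hb⟩)
  have h : (⟨a, ha⟩ : W) * ⟨b, hb⟩ = ⟨b, hb⟩ * ⟨a, ha⟩ := by rw [← hi, ← hj, ← zpow_add, ← zpow_add, add_comm]
  exact congrArg Subtype.val h

theorem mem_VW {d : G} : d ∈ V ⊔ W ↔ ∃ v ∈ V, ∃ u ∈ W, d = v * u := by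
  constructor
  · intro hd
    have hle : V ≤ normalizer (W : Set G) := le_trans (fun v hv => mem_centralizer_iff.2 fun u hu =>
      ((L.comm_VW v hv u hu).symm).eq) (centralizer_le_normalizer (W : Set G))
    rw [← SetLike.mem_coe, coe_mul_of_left_le_normalizer_right V W hle] at hd
    obtain ⟨v, hv, u, hu, rfl⟩ := hd
    exact ⟨v, hv, u, hu, rfl⟩
  · rintro ⟨v, hv, u, hu, rfl⟩
    exact mul_mem (mem_sup_left hv) (mem_sup_right hu)

theorem VW_comm {a b : G} (ha : a ∈ V ⊔ W) (hb : b ∈ V ⊔ W) : Commute a b := by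
  obtain ⟨v, hv, u, hu, rfl⟩ := (Local.mem_VW hS L).1 ha
  obtain ⟨v', hv', u', hu', rfl⟩ := (Local.mem_VW hS L).1 hb
  exact ((Local.V_comm hS L hv hv').mul_right (L.comm_VW v hv u' hu')).mul_left
    (((L.comm_VW v' hv' u hu).symm).mul_right (Local.W_comm hS L hu hu'))

/-- The odd elements of `V W` lie in `W`. -/
theorem odd_VW {d : G} (hd : d ∈ V ⊔ W) (ho : Odd (orderOf d)) : d ∈ W := by
  obtain ⟨v, hv, u, hu, rfl⟩ := (Local.mem_VW hS L).1 hd
  have hc := L.comm_VW v hv u hu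
  have hv1 : v = 1 := by
    have hodd : Odd (orderOf (v * u) * orderOf u) := ho.mul (Local.W_odd hS L hu)
    refine eq_one_of_odd_sq (hodd.of_dvd_nat (orderOf_dvd_of_pow_eq_one ?_)) (L.sq_V v hv)
    have h1 : (v * u) ^ (orderOf (v * u) * orderOf u) = 1 := by
      rw [pow_mul, pow_orderOf_eq_one, one_pow]
    rwa [hc.mul_pow, show u ^ (orderOf (v * u) * orderOf u) = 1 by
      rw [mul_comm (orderOf (v * u)), pow_mul, pow_orderOf_eq_one, one_pow], mul_one] at h1
  rw [hv1, one_mul]; exact hu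

theorem xpow_V {v : G} (hv : v ∈ V) (i : ℕ) : x ^ i * v * (x ^ i)⁻¹ ∈ V :=
  CfsgLib.Involution.TwoTimesPSL.conj_pow_mem L.x_V i v hv

theorem xpow_W {y : G} (hy : y ∈ W) (i : ℕ) : x ^ i * y * (x ^ i)⁻¹ ∈ W :=
  CfsgLib.Involution.TwoTimesPSL.conj_pow_mem L.x_W i y hy

theorem xinv_W {y : G} (hy : y ∈ W) (i : ℕ) : (x ^ i)⁻¹ * y * x ^ i ∈ W := by
  have h : (x ^ i)⁻¹ = x ^ (2 * i) := inv_eq_of_mul_eq_one_right (by
    rw [← pow_add, show i + 2 * i = 3 * i by ring, pow_mul, Local.x_cube hS L, one_pow])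
  have := Local.xpow_W hS L hy (2 * i)
  rwa [← h, inv_inv] at this

theorem xinv_V {v : G} (hv : v ∈ V) (i : ℕ) : (x ^ i)⁻¹ * v * x ^ i ∈ V := by
  have h : (x ^ i)⁻¹ = x ^ (2 * i) := inv_eq_of_mul_eq_one_right (by
    rw [← pow_add, show i + 2 * i = 3 * i by ring, pow_mul, Local.x_cube hS L, one_pow])
  have := Local.xpow_V hS L hv (2 * i)
  rwa [← h, inv_inv] at this

theorem exists_pow_t {v : G} (hv : v ∈ V) (hv1 : v ≠ 1) : ∃ i < 3, x ^ i * t * (x ^ i)⁻¹ = v := by
  rcases L.x_trans v hv hv1 with h | h | h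
  · exact ⟨0, by norm_num, by rw [h]; simp⟩
  · exact ⟨1, by norm_num, by rw [h, pow_one]⟩
  · exact ⟨2, by norm_num, by rw [h, pow_two]; group⟩

/-- An element of `C(t)` normalising `V` centralises it. -/
theorem t_fix {g : G} (hgt : Commute g t) (hg : ∀ v ∈ V, g * v * g⁻¹ ∈ V) :
    ∀ v ∈ V, Commute g v := by
  intro v hv
  by_contra hne
  have hgv : g * v * g⁻¹ ≠ v := fun h => hne (mul_inv_eq_iff_eq_mul.1 h)
  have hv1 : v ≠ 1 := fun h => hne (h ▸ Commute.one_right g)
  have hvt : v ≠ t := fun h => hne (h ▸ hgt)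
  have ht1 := Local.t_ne hS L
  obtain ⟨e⟩ : Nonempty (centralizer ({t} : Set G) ≃* Multiplicative (ZMod 2) ×
      Matrix.ProjectiveSpecialLinearGroup (Fin 2) F) := ⟨hS.iso⟩
  refine no_swap e hS.t2 hgt (Local.V_comm hS L hv L.t_mem) ?_
  classical
  haveI : Fintype V := Fintype.ofFinite _
  by_contra htv
  set a := g * v * g⁻¹ with ha
  have ha1 : a ≠ 1 := fun h => hv1 (conj_eq_one_iff.1 h)
  have hat : a ≠ t := fun h => hvt (by
    calc v = g⁻¹ * a * g := by rw [ha]; group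
      _ = g⁻¹ * (t * g) := by rw [h, mul_assoc]
      _ = t := by rw [← hgt.eq, inv_mul_cancel_left])
  have htv1 : t * v ≠ 1 := fun h => hvt (by
    rw [eq_inv_of_mul_eq_one_right h, inv_eq_of_mul_eq_one_right (Local.t_sq hS L)])
  let f : Fin 5 → V := ![⟨1, one_mem V⟩, ⟨t, L.t_mem⟩, ⟨v, hv⟩, ⟨t * v, mul_mem L.t_mem hv⟩,
    ⟨a, hg v hv⟩]
  have hf : Function.Injective f := by
    intro i j hij
    have h := congrArg Subtype.val hij
    fin_cases i <;> fin_cases j <;> simp [f] at h ⊢ <;>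
      first
        | exact absurd h ht1 | exact absurd h.symm ht1 | exact absurd h hv1 | exact absurd h.symm hv1
        | exact absurd h hvt | exact absurd h.symm hvt | exact absurd h htv1 | exact absurd h.symm htv1
        | exact absurd h ha1 | exact absurd h.symm ha1 | exact absurd h hat | exact absurd h.symm hat
        | exact absurd h hgv | exact absurd h.symm hgv | exact absurd h htv | exact absurd h.symm htv
  have := Fintype.card_le_of_injective f hf
  rw [Fintype.card_fin, ← Nat.card_eq_fintype_card, L.card_V] at this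
  omega

/-- `C(y) ∩ C(v) = V W`. -/
theorem cent_vW {v y g : G} (hv : v ∈ V) (hv1 : v ≠ 1) (hy : y ∈ W) (hy1 : y ≠ 1)
    (hgv : Commute g v) (hgy : Commute g y) : g ∈ V ⊔ W := by
  obtain ⟨i, -, hi⟩ := Local.exists_pow_t hS L hv hv1
  set a := x ^ i with ha
  have h1 : Commute (a⁻¹ * g * a) t := by
    have := (Commute.conj_iff a⁻¹).2 hgv
    rwa [inv_inv, show a⁻¹ * v * a = t by rw [← hi]; group] at this
  have h2 : Commute (a⁻¹ * g * a) (a⁻¹ * y * a) := by
    have := (Commute.conj_iff a⁻¹).2 hgy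
    rwa [inv_inv] at this
  have h3 := L.cent_tW _ _ (Local.xinv_W hS L hy i) (fun h => hy1 (by
    calc y = a * (a⁻¹ * y * a) * a⁻¹ := by group
      _ = 1 := by rw [h]; group)) h1 h2
  obtain ⟨v', hv', u', hu', h4⟩ := (Local.mem_VW hS L).1 h3
  have : g = (a * v' * a⁻¹) * (a * u' * a⁻¹) := by
    calc g = a * (a⁻¹ * g * a) * a⁻¹ := by group
      _ = _ := by rw [h4]; group
  rw [this]
  exact mul_mem (mem_sup_left (Local.xpow_V hS L hv' i)) (mem_sup_right (Local.xpow_W hS L hu' i))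

/-- The normaliser of `V`. -/
theorem normalizer_V {g : G} (hg : ∀ v ∈ V, g * v * g⁻¹ ∈ V) :
    ∃ i < 3, ∃ d : G, g = x ^ i * d ∧ (d ∈ V ⊔ W ∨ s * d ∈ V ⊔ W) := by
  have ht1 := Local.t_ne hS L
  obtain ⟨i, hi3, hi⟩ := Local.exists_pow_t hS L (hg t L.t_mem) (fun h => ht1 (conj_eq_one_iff.1 h))
  refine ⟨i, hi3, (x ^ i)⁻¹ * g, by group, L.cent_V _ (Local.t_fix hS L ?_ fun v hv => ?_)⟩
  · refine mul_inv_eq_iff_eq_mul.1 ?_
    calc (x ^ i)⁻¹ * g * t * ((x ^ i)⁻¹ * g)⁻¹ = (x ^ i)⁻¹ * (g * t * g⁻¹) * x ^ i := by group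
      _ = t := by rw [← hi]; group
  · have := Local.xinv_V hS L (hg v hv) i
    rwa [show (x ^ i)⁻¹ * (g * v * g⁻¹) * x ^ i = (x ^ i)⁻¹ * g * v * ((x ^ i)⁻¹ * g)⁻¹ by group] at this

/-- An element normalising `V` acts on `W` as a power of `x`, up to sign. -/
theorem normalizer_V_conj {g : G} (hg : ∀ v ∈ V, g * v * g⁻¹ ∈ V) :
    ∃ i < 3, ∀ y ∈ W, g * y * g⁻¹ = x ^ i * y * (x ^ i)⁻¹ ∨ g * y * g⁻¹ = x ^ i * y⁻¹ * (x ^ i)⁻¹ := by
  obtain ⟨i, hi, d, rfl, hd⟩ := Local.normalizer_V hS L hg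
  refine ⟨i, hi, fun y hy => ?_⟩
  rcases hd with hd | hd
  · left
    have : Commute d y := Local.VW_comm hS L hd (mem_sup_right hy)
    calc x ^ i * d * y * (x ^ i * d)⁻¹ = x ^ i * (d * y * d⁻¹) * (x ^ i)⁻¹ := by group
      _ = _ := by rw [this.eq, mul_inv_cancel_right]
  · right
    have hc : Commute (s * d) y := Local.VW_comm hS L hd (mem_sup_right hy)
    have hsd : d * y * d⁻¹ = y⁻¹ := by
      calc d * y * d⁻¹ = s⁻¹ * ((s * d) * y * (s * d)⁻¹) * s := by group
        _ = s⁻¹ * y * s := by rw [hc.eq, mul_inv_cancel_right]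
        _ = y⁻¹ := by
          rw [inv_eq_of_mul_eq_one_right (Local.s_sq hS L)]
          conv_lhs => arg 2; rw [← inv_eq_of_mul_eq_one_right (Local.s_sq hS L)]
          exact L.s_W y hy
    calc x ^ i * d * y * (x ^ i * d)⁻¹ = x ^ i * (d * y * d⁻¹) * (x ^ i)⁻¹ := by group
      _ = _ := by rw [hsd]

/-- In `C(y)` the normaliser of `V` is `V W` or `V W ⟨x⟩`. -/
theorem normalizer_fix {g y : G} (hy : y ∈ W) (hy1 : y ≠ 1) (hgy : Commute g y)
    (hg : ∀ v ∈ V, g * v * g⁻¹ ∈ V) :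
    ∃ i < 3, Commute (x ^ i) y ∧ ∃ d ∈ V ⊔ W, g = x ^ i * d := by
  obtain ⟨i, hi, d, rfl, hd⟩ := Local.normalizer_V hS L hg
  have hxi : (x ^ i) ^ 3 = 1 := by rw [← pow_mul, mul_comm, pow_mul, Local.x_cube hS L, one_pow]
  refine ⟨i, hi, ?_⟩
  rcases hd with hd | hd
  · have h : Commute d y := Local.VW_comm hS L hd (mem_sup_right hy)
    refine ⟨?_, d, hd, rfl⟩
    have := hgy.mul_left h.inv_left
    rwa [mul_assoc, mul_inv_cancel, mul_one] at this
  · exfalso
    have hc : Commute (s * d) y := Local.VW_comm hS L hd (mem_sup_right hy)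
    have hsd : d * y * d⁻¹ = y⁻¹ := by
      calc d * y * d⁻¹ = s⁻¹ * ((s * d) * y * (s * d)⁻¹) * s := by group
        _ = s⁻¹ * y * s := by rw [hc.eq, mul_inv_cancel_right]
        _ = y⁻¹ := by
          rw [inv_eq_of_mul_eq_one_right (Local.s_sq hS L)]
          conv_lhs => arg 2; rw [← inv_eq_of_mul_eq_one_right (Local.s_sq hS L)]
          exact L.s_W y hy
    have h1 : x ^ i * y⁻¹ * (x ^ i)⁻¹ = y := by
      calc x ^ i * y⁻¹ * (x ^ i)⁻¹ = (x ^ i * d) * y * (x ^ i * d)⁻¹ := by rw [← hsd]; group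
        _ = y := by rw [hgy.eq, mul_inv_cancel_right]
    refine hy1 (three_inv_fix (Local.W_odd hS L hy) hxi ?_)
    calc x ^ i * y * (x ^ i)⁻¹ = (x ^ i * y⁻¹ * (x ^ i)⁻¹)⁻¹ := by group
      _ = y⁻¹ := by rw [h1]

/-- A 2-subgroup of `C(y)` containing `V` is `V`. -/
theorem two_le_V {y : G} (hy : y ∈ W) (hy1 : y ≠ 1) {Q : Subgroup G} (hQ : IsPGroup 2 Q)
    (hQy : Q ≤ centralizer ({y} : Set G)) (hVQ : V ≤ Q) : Q = V := by
  haveI : Fact (Nat.Prime 2) := ⟨Nat.prime_two⟩
  refine le_antisymm (fun g hg => ?_) hVQ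
  obtain ⟨R, hR⟩ := hQ.exists_le_sylow
  have hgt : Commute g t := comm_of_mem hS.abelian R (hR hg) (hR (hVQ L.t_mem))
  have hd := Local.cent_vW hS L L.t_mem (Local.t_ne hS L) hy hy1 hgt
    (mem_centralizer_singleton_iff.1 (hQy hg))
  obtain ⟨v, hv, u, hu, rfl⟩ := (Local.mem_VW hS L).1 hd
  have huQ : u ∈ Q := by simpa [mul_assoc] using mul_mem (inv_mem (hVQ hv)) hg
  obtain ⟨k, hk⟩ := IsPGroup.exists_orderOf_eq_pow hQ ⟨u, huQ⟩
  rw [Subgroup.orderOf_mk] at hk
  have hu1 : u = 1 := orderOf_eq_one_iff.1 (by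
    rcases k with _ | k
    · simpa using hk
    · exact absurd (hk ▸ Local.W_odd hS L hu) (by simp [Nat.not_odd_iff_even, parity_simps]))
  rw [hu1, mul_one]; exact hv

theorem exists_sylow_V {y : G} (hy : y ∈ W) (hy1 : y ≠ 1) :
    ∃ P : Sylow 2 (centralizer ({y} : Set G)),
      (P : Subgroup (centralizer ({y} : Set G))) = V.subgroupOf (centralizer ({y} : Set G)) ∧
      Nat.card (P : Subgroup (centralizer ({y} : Set G))) = 4 ∧
      V ≤ centralizer ({y} : Set G) := by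
  haveI : Fact (Nat.Prime 2) := ⟨Nat.prime_two⟩
  have hVX : V ≤ centralizer ({y} : Set G) := fun v hv =>
    mem_centralizer_singleton_iff.2 (L.comm_VW v hv y hy).eq
  have hV2 : IsPGroup 2 V := IsPGroup.of_card (n := 2) L.card_V
  have hV2' : IsPGroup 2 (V.subgroupOf (centralizer ({y} : Set G))) :=
    hV2.comap_of_injective _ Subtype.val_injective
  obtain ⟨P, hP⟩ := hV2'.exists_le_sylow
  have hPV : (P : Subgroup (centralizer ({y} : Set G))).map (centralizer ({y} : Set G)).subtype = V :=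
    Local.two_le_V hS L hy hy1 (P.2.map _) (map_subtype_le _) fun v hv =>
      ⟨⟨v, hVX hv⟩, hP hv, rfl⟩
  refine ⟨P, ?_, ?_, hVX⟩
  · rw [← hPV]
    exact (comap_map_eq_self_of_injective (centralizer ({y} : Set G)).subtype_injective _).symm
  · rw [← card_map_of_injective (centralizer ({y} : Set G)).subtype_injective, hPV, L.card_V]

/-- The involution centralisers of `C(y)` are abelian. -/
theorem ac_cent {y : G} (hy : y ∈ W) (hy1 : y ≠ 1) :
    CfsgLib.Recognition.AbelianCentraliser.AC (centralizer ({y} : Set G)) := by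
  classical
  haveI : Fact (Nat.Prime 2) := ⟨Nat.prime_two⟩
  intro r hr
  obtain ⟨P, hP, -, hVX⟩ := Local.exists_sylow_V hS L hy hy1
  obtain ⟨T, hT⟩ := (IsPGroup.of_card (n := 1) (show Nat.card (zpowers r) = 2 ^ 1 by
    rw [Nat.card_zpowers, hr, pow_one])).exists_le_sylow
  obtain ⟨g, hg⟩ := MulAction.exists_smul_eq (centralizer ({y} : Set G)) T P
  have hrV : g * r * g⁻¹ ∈ V.subgroupOf (centralizer ({y} : Set G)) := by
    rw [← hP, ← hg, Sylow.coe_subgroup_smul]; exact ⟨r, hT (mem_zpowers r), rfl⟩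
  rw [mem_subgroupOf] at hrV
  have hr1 : ((g * r * g⁻¹ : centralizer ({y} : Set G)) : G) ≠ 1 := fun h => by
    have := conj_eq_one_iff.1 (Subtype.ext h : g * r * g⁻¹ = 1)
    rw [this, orderOf_one] at hr
    norm_num at hr
  refine ⟨⟨fun a b => Subtype.ext ?_⟩⟩
  have key : ∀ c : centralizer ({r} : Set (centralizer ({y} : Set G))),
      ((g * (c : centralizer ({y} : Set G)) * g⁻¹ : centralizer ({y} : Set G)) : G) ∈ V ⊔ W := by
    intro c
    refine Local.cent_vW hS L hrV hr1 hy hy1 ?_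
      (mem_centralizer_singleton_iff.1 (g * (c : centralizer ({y} : Set G)) * g⁻¹).2)
    have hc := (Commute.conj_iff g).2 (show Commute (c : centralizer ({y} : Set G)) r from
      mem_centralizer_singleton_iff.1 c.2)
    exact congrArg Subtype.val hc.eq
  have h := Local.VW_comm hS L (key a) (key b)
  have h2 : g * ((a : centralizer ({y} : Set G)) * b) * g⁻¹ = g * ((b : centralizer ({y} : Set G)) * a) * g⁻¹ := by
    calc g * ((a : centralizer ({y} : Set G)) * b) * g⁻¹ = g * a * g⁻¹ * (g * b * g⁻¹) := by group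
      _ = g * b * g⁻¹ * (g * a * g⁻¹) := Subtype.ext h.eq
      _ = _ := by group
  exact mul_left_cancel (mul_right_cancel h2)

/-- `V` is normal in `C(y)`, or `C(y) ≅ A₅ × A`. -/
theorem cent_cases {y : G} (hy : y ∈ W) (hy1 : y ≠ 1) :
    (∀ g : G, Commute g y → ∀ v ∈ V, g * v * g⁻¹ ∈ V) ∨
      ∃ (A : Type) (_ : CommGroup A) (_ : Finite A), Odd (Nat.card A) ∧
        Nonempty (centralizer ({y} : Set G) ≃* A5 × A) := by
  obtain ⟨P, hP, hP4, hVX⟩ := Local.exists_sylow_V hS L hy hy1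
  rcases klein_cases (Local.ac_cent hS L hy hy1) P hP4
    (fun v hv => Subtype.ext (L.sq_V _ (mem_subgroupOf.1 (hP ▸ hv)))) with h | h
  · refine Or.inl fun g hg v hv => ?_
    have := h.conj_mem ⟨v, hVX hv⟩ (hP ▸ mem_subgroupOf.2 hv)
      ⟨g, mem_centralizer_singleton_iff.2 hg.eq⟩
    rw [hP, mem_subgroupOf] at this
    exact this
  · exact Or.inr h

section Big

variable {y : G} (hy : y ∈ W) (hy1 : y ≠ 1) {A : Type} [CommGroup A] [Finite A] (hA : Odd (Nat.card A))
  (f : centralizer ({y} : Set G) ≃* A5 × A)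
include hy hy1 hA f

/-- Elements with trivial `A₅` component are central. -/
theorem big_central {c : centralizer ({y} : Set G)} (hc : (f c).1 = 1)
    (d : centralizer ({y} : Set G)) : c * d = d * c :=
  f.injective (by rw [map_mul, map_mul]; exact Prod.ext (by simp [hc]) (mul_comm _ _))

/-- The central part is `W`. -/
theorem big_center {c : centralizer ({y} : Set G)} (hc : (f c).1 = 1) : (c : G) ∈ W := by
  have hVX : t ∈ centralizer ({y} : Set G) :=
    mem_centralizer_singleton_iff.2 (L.comm_VW t L.t_mem y hy).eq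
  have hct : Commute (c : G) t :=
    congrArg Subtype.val (Local.big_central hS L hy hy1 hA f hc ⟨t, hVX⟩)
  refine Local.odd_VW hS L (L.cent_tW _ y hy hy1 hct (mem_centralizer_singleton_iff.1 c.2)) ?_
  rw [Subgroup.orderOf_coe, ← MulEquiv.orderOf_eq f c]
  exact hA.of_dvd_nat (orderOf_dvd_of_pow_eq_one (Prod.ext (by simp [hc])
    (by show (f c).2 ^ Nat.card A = 1; exact pow_card_eq_one')))

theorem big_W {c : centralizer ({y} : Set G)} (hc : (c : G) ∈ W) : (f c).1 = 1 := by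
  have hVX : t ∈ centralizer ({y} : Set G) :=
    mem_centralizer_singleton_iff.2 (L.comm_VW t L.t_mem y hy).eq
  set tc : centralizer ({y} : Set G) := ⟨t, hVX⟩
  have ht2 : tc * tc = 1 := Subtype.ext (Local.t_sq hS L)
  have hτ2 : (f tc).1 * (f tc).1 = 1 := by
    rw [← Prod.fst_mul, ← map_mul, ht2, map_one]; rfl
  have hτ1 : (f tc).1 ≠ 1 := by
    intro h
    exact Local.t_ne hS L (Local.V_W_one hS L L.t_mem (Local.big_center hS L hy hy1 hA f h))
  have hcomm : (f c).1 * (f tc).1 = (f tc).1 * (f c).1 := by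
    rw [← Prod.fst_mul, ← Prod.fst_mul, ← map_mul, ← map_mul,
      show c * tc = tc * c from Subtype.ext ((L.comm_VW t L.t_mem _ hc).symm).eq]
  refine eq_one_of_odd_sq ((Local.W_odd hS L hc).of_dvd_nat ?_) (a5_cent_two _ hτ1 hτ2 _ hcomm)
  refine orderOf_dvd_of_pow_eq_one ?_
  rw [← Prod.pow_fst, ← map_pow, show c ^ orderOf (c : G) = 1 from
    Subtype.ext (pow_orderOf_eq_one (c : G)), map_one]
  rfl

/-- `W` is central, and the component of an element of order three outside `W` has order three. -/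
theorem big_three {z : centralizer ({y} : Set G)} (hz : z ^ 3 = 1) (hzW : (z : G) ∉ W) :
    (f z).1 ≠ 1 ∧ (f z).1 * ((f z).1 * (f z).1) = 1 := by
  refine ⟨fun h => hzW (Local.big_center hS L hy hy1 hA f h), ?_⟩
  have h := congrArg (fun p => (f p).1) hz
  simp only [map_pow, Prod.pow_fst, map_one, Prod.fst_one] at h
  rw [← h, pow_succ, pow_two, mul_assoc]

end Big

theorem x_notW : x ∉ W := fun h => L.x_move (by
  rw [← (L.comm_VW t L.t_mem x h).eq, mul_inv_cancel_right])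

/-- If `x` moves `y`, then `C(y) = V W`. -/
theorem cent_of_move {y : G} (hy : y ∈ W) (hy1 : y ≠ 1) (hx : x * y * x⁻¹ ≠ y) :
    centralizer ({y} : Set G) = V ⊔ W := by
  classical
  haveI : Fact (Nat.Prime 2) := ⟨Nat.prime_two⟩
  have hnorm : ∀ g : G, Commute g y → (∀ v ∈ V, g * v * g⁻¹ ∈ V) → g ∈ V ⊔ W := by
    intro g hg hgV
    obtain ⟨i, hi, hc, d, hd, rfl⟩ := Local.normalizer_fix hS L hy hy1 hg hgV
    interval_cases i
    · simpa using hd
    · exact absurd (mul_inv_eq_iff_eq_mul.2 (by rw [pow_one] at hc; exact hc.eq)) hx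
    · refine absurd (mul_inv_eq_iff_eq_mul.2 ?_) hx
      have h4 : (x ^ 2) ^ 2 = x := by
        rw [← pow_mul, show 2 * 2 = 3 + 1 from rfl, pow_add, Local.x_cube hS L, one_mul, pow_one]
      have := hc.pow_left 2
      rw [h4] at this
      exact this.eq
  have hle : V ⊔ W ≤ centralizer ({y} : Set G) := fun d hd =>
    mem_centralizer_singleton_iff.2 (Local.VW_comm hS L hd (mem_sup_right hy)).eq
  refine le_antisymm (fun g hg => ?_) hle
  rcases Local.cent_cases hS L hy hy1 with h | ⟨A, _, _, hA, ⟨f⟩⟩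
  · exact hnorm g (mem_centralizer_singleton_iff.1 hg) (h g (mem_centralizer_singleton_iff.1 hg))
  · exfalso
    obtain ⟨P, hP, -, hVX⟩ := Local.exists_sylow_V hS L hy hy1
    set v := x * t * x⁻¹ with hv
    have hvV : v ∈ V := L.x_V t L.t_mem
    have hv1 : v ≠ 1 := fun h => Local.t_ne hS L (conj_eq_one_iff.1 h)
    set tc : centralizer ({y} : Set G) := ⟨t, hVX L.t_mem⟩
    set vc : centralizer ({y} : Set G) := ⟨v, hVX hvV⟩
    have h2 : ∀ c : centralizer ({y} : Set G), c * c = 1 → (f c).1 * (f c).1 = 1 ∧ (f c).2 = 1 := by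
      intro c hc
      have h := congrArg f hc
      rw [map_mul, map_one] at h
      refine ⟨congrArg Prod.fst h, eq_one_of_odd_sq (hA.of_dvd_nat (orderOf_dvd_natCard _)) (congrArg Prod.snd h)⟩
    have hne : ∀ c : centralizer ({y} : Set G), (c : G) ∈ V → (c : G) ≠ 1 → (f c).1 ≠ 1 := fun c hc hc1 h =>
      hc1 (Local.V_W_one hS L hc (Local.big_center hS L hy hy1 hA f h))
    obtain ⟨ht2, ht3⟩ := h2 tc (Subtype.ext (Local.t_sq hS L))
    obtain ⟨hv2, hv3⟩ := h2 vc (Subtype.ext (L.sq_V v hvV))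
    obtain ⟨h, hh⟩ := a5_conj_two _ (hne tc L.t_mem (Local.t_ne hS L)) ht2 _ (hne vc hvV hv1) hv2
    set hc := f.symm (h, 1)
    have hconj : hc * tc * hc⁻¹ = vc := f.injective (by
      rw [map_mul, map_mul, map_inv, f.apply_symm_apply]
      refine Prod.ext ?_ (by simp [ht3, hv3])
      show h * (f tc).1 * h⁻¹ = (f vc).1
      rw [hh, mul_inv_cancel_right])
    haveI : IsMulCommutative (P : Subgroup (centralizer ({y} : Set G))) := ⟨⟨fun a b => Subtype.ext (Subtype.ext
      (Local.V_comm hS L (mem_subgroupOf.1 (hP ▸ a.2)) (mem_subgroupOf.1 (hP ▸ b.2))).eq)⟩⟩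
    obtain ⟨n, hn, he⟩ := P.conj_eq_normalizer_conj_of_mem tc hc⁻¹
      (by show tc ∈ (P : Subgroup _); rw [hP]; exact mem_subgroupOf.2 L.t_mem)
      (by rw [inv_inv, hconj]; show vc ∈ (P : Subgroup _); rw [hP]; exact mem_subgroupOf.2 hvV)
    rw [inv_inv, hconj] at he
    have hnV : ∀ u ∈ V, ((n⁻¹ : centralizer ({y} : Set G)) : G) * u * (((n⁻¹ : centralizer ({y} : Set G)) : G))⁻¹ ∈ V := by
      intro u hu
      have := (mem_normalizer_iff.1 (inv_mem hn) ⟨u, hVX hu⟩).1 (hP ▸ mem_subgroupOf.2 hu)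
      rw [hP, mem_subgroupOf] at this
      exact this
    have hd := hnorm _ (mem_centralizer_singleton_iff.1 (n⁻¹).2) hnV
    have hct : Commute ((n⁻¹ : centralizer ({y} : Set G)) : G) t :=
      Local.VW_comm hS L hd (mem_sup_left L.t_mem)
    apply L.x_move
    calc x * t * x⁻¹ = ((n⁻¹ : centralizer ({y} : Set G)) : G) * t * (((n⁻¹ : centralizer ({y} : Set G)) : G))⁻¹ := by
          have := congrArg Subtype.val he
          simpa [vc, tc, v] using this
      _ = t := by rw [hct.eq, mul_inv_cancel_right]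

/-- The odd part of `C(x) ∩ C(y)`. -/
theorem cent_x_odd {y c : G} (hy : y ∈ W) (hy1 : y ≠ 1) (hxy : Commute x y) (hcy : Commute c y)
    (hcx : Commute c x) (ho : Odd (orderOf c)) : ∃ i < 3, ∃ u ∈ W, c = x ^ i * u := by
  classical
  have hodd : ∀ i : ℕ, ∀ d : G, Commute c x → d = (x ^ i)⁻¹ * c → Odd (orderOf d) := by
    intro i d hc hd
    subst hd
    refine (Odd.mul (show Odd 3 by decide) ho).of_dvd_nat (orderOf_dvd_of_pow_eq_one ?_)
    rw [((hc.symm.pow_left i).inv_left).mul_pow, inv_pow,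
      show (x ^ i) ^ (3 * orderOf c) = 1 by
        rw [← pow_mul, show i * (3 * orderOf c) = 3 * (i * orderOf c) by ring, pow_mul,
          Local.x_cube hS L, one_pow],
      show c ^ (3 * orderOf c) = 1 by rw [mul_comm, pow_mul, pow_orderOf_eq_one, one_pow]]
    simp
  rcases Local.cent_cases hS L hy hy1 with h | ⟨A, _, _, hA, ⟨f⟩⟩
  · obtain ⟨i, hi, -, d, hd, rfl⟩ := Local.normalizer_fix hS L hy hy1 hcy (h c hcy)
    exact ⟨i, hi, d, Local.odd_VW hS L hd (hodd i d hcx (by group)), rfl⟩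
  · set xc : centralizer ({y} : Set G) := ⟨x, mem_centralizer_singleton_iff.2 hxy.eq⟩
    set cc : centralizer ({y} : Set G) := ⟨c, mem_centralizer_singleton_iff.2 hcy.eq⟩
    obtain ⟨h1, h3⟩ := Local.big_three hS L hy hy1 hA f (z := xc) (Subtype.ext (Local.x_cube hS L))
      (Local.x_notW hS L)
    have hcomm : (f cc).1 * (f xc).1 = (f xc).1 * (f cc).1 := by
      rw [← Prod.fst_mul, ← Prod.fst_mul, ← map_mul, ← map_mul,
        show cc * xc = xc * cc from Subtype.ext hcx.eq]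
    have hcase := a5_cent_three _ h1 h3 _ hcomm
    simp only [Bool.or_eq_true, decide_eq_true_eq] at hcase
    obtain ⟨i, hi, hci⟩ : ∃ i < 3, (f cc).1 = (f xc).1 ^ i := by
      rcases hcase with (h | h) | h
      · exact ⟨0, by norm_num, by rw [h, pow_zero]⟩
      · exact ⟨1, by norm_num, by rw [h, pow_one]⟩
      · exact ⟨2, by norm_num, by rw [h, pow_two]⟩
    refine ⟨i, hi, (x ^ i)⁻¹ * c, ?_, by group⟩
    exact Local.big_center hS L hy hy1 hA f (c := (xc ^ i)⁻¹ * cc) (by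
      rw [map_mul, map_inv, map_pow, Prod.fst_mul, Prod.fst_inv, Prod.pow_fst, hci, inv_mul_cancel])

end Local

end CfsgLib.Recognition.ReeCentralizer
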