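import Cfsg.Agent.Lib.Recognition.ReeCentralizer.Basic
import Cfsg.Agent.Lib.Recognition.ReeCentralizer.Small
import Cfsg.Agent.Lib.GWDihedral.ModelTorus

/-!
# The four group `V ∋ t`, the torus `W = O(C(V))`, the inverting involution and the rotation

With `S = ⟨t⟩ × U` an element `n` of `N(S)` carries `t` to an involution of `U`; `V`, `s` and `x` are
the conjugates by `n⁻¹` of `U`, `t` and the element of order three of `L₂(q)` normalising `U`.
-/

set_option autoImplicit false
set_option linter.unusedSectionVars false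
set_option linter.style.haveILetI false

namespace CfsgLib.Recognition.ReeCentralizer

open Subgroup CfsgLib.Involution.TwoTimesPSL CfsgLib.GWDihedral

variable {G : Type*} [Group G] [Finite G] {F : Type*} [Field F] [Fintype F]

local notation "PSL" => Matrix.ProjectiveSpecialLinearGroup (Fin 2) F

/-- The local configuration around `t`: all of `Frame` that is visible inside `C(t)` and `N(S)`. -/
structure Local (G : Type*) [Group G] (t : G) (w : ℕ) (V W : Subgroup G) (s x : G) : Prop where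
  card_V : Nat.card V = 4
  sq_V : ∀ v ∈ V, v * v = 1
  t_mem : t ∈ V
  card_W : Nat.card W = w
  cyclic_W : IsCyclic W
  odd_w : Odd w
  comm_VW : ∀ v ∈ V, ∀ y ∈ W, Commute v y
  s2 : orderOf s = 2
  s_V : ∀ v ∈ V, Commute s v
  s_not : s ∉ V
  s_W : ∀ y ∈ W, s * y * s⁻¹ = y⁻¹
  x3 : orderOf x = 3
  x_V : ∀ v ∈ V, x * v * x⁻¹ ∈ V
  x_move : x * t * x⁻¹ ≠ t
  x_trans : ∀ v ∈ V, v ≠ 1 → v = t ∨ v = x * t * x⁻¹ ∨ v = x * (x * t * x⁻¹) * x⁻¹
  x_s : Commute x s
  x_W : ∀ y ∈ W, x * y * x⁻¹ ∈ W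
  conj_inv : ∀ g : G, orderOf g = 2 → IsConj t g
  cent_V : ∀ g : G, (∀ v ∈ V, Commute g v) →
    g ∈ V ⊔ W ∨ s * g ∈ V ⊔ W
  cent_tW : ∀ g : G, ∀ y ∈ W, y ≠ 1 → Commute g t → Commute g y → g ∈ V ⊔ W

/-- The torus of an involution of `L₂(q)` has order `2w`. -/
theorem exists_torus_gen (hmod : Fintype.card F % 8 = 3 ∨ Fintype.card F % 8 = 5)
    (hq : 3 < Fintype.card F) {u : PSL} (hu : orderOf u = 2) :
    ∃ a : PSL, orderOf a = 2 * torusOrder (Fintype.card F) ∧ u ∈ zpowers a ∧ Commute a u ∧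
      (∀ g : PSL, Commute g u → g ∈ zpowers a ∨ (g * g = 1 ∧ g * a * g⁻¹ = a⁻¹)) ∧
      Odd (torusOrder (Fintype.card F)) ∧
      ∀ y ∈ zpowers a, y ≠ 1 → ∀ g : PSL, Commute g y → Commute g u := by
  obtain ⟨A, hA⟩ := exists_torus (MulEquiv.refl PSL) (Nat.odd_iff.2 (by omega)) hq hu
  haveI := hA.cyclic
  obtain ⟨a, rfl⟩ := (Subgroup.isCyclic_iff_exists_zpowers_eq_top A).1 hA.cyclic
  have hc := hA.card
  rw [Nat.card_zpowers] at hc
  have h2 : 2 ∣ orderOf a := by
    have h := orderOf_dvd_of_mem_zpowers hA.mem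
    rwa [hu] at h
  have hw : orderOf a = 2 * torusOrder (Fintype.card F) ∧ Odd (torusOrder (Fintype.card F)) := by
    obtain ⟨m, hm⟩ := h2
    rw [torusOrder]
    split_ifs with h4
    · exact ⟨by omega, Nat.odd_iff.2 (by omega)⟩
    · exact ⟨by omega, Nat.odd_iff.2 (by omega)⟩
  refine ⟨a, hw.1, hA.mem, mem_centralizer_singleton_iff.1 (hA.le (mem_zpowers a)), fun g hg => ?_,
    hw.2, fun y hy hy1 g hg => (hA.norm y hy hy1 g
      ⟨1, by simp only [zpow_one]; rw [hg.eq, mul_inv_cancel_right]⟩).symm⟩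
  by_cases hgA : g ∈ zpowers a
  · exact Or.inl hgA
  · obtain ⟨h1, h3⟩ := hA.outside g (mem_centralizer_singleton_iff.2 hg) hgA
    exact Or.inr ⟨h1, h3 a (mem_zpowers a)⟩

/-- An element of square one in the torus. -/
theorem torus_sq {a u : PSL} {w : ℕ} (hw : 0 < w) (ha : orderOf a = 2 * w) (hu : orderOf u = 2)
    (hua : u ∈ zpowers a) {g : PSL} (hg : g ∈ zpowers a) (hg2 : g * g = 1) : g = 1 ∨ g = u := by
  classical
  by_contra h
  rw [not_or] at h
  haveI : IsCyclic (zpowers a) := by infer_instance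
  have h2 := IsCyclic.card_pow_eq_one_le (α := zpowers a) (n := 2) two_pos
  have hsub : ({1, ⟨u, hua⟩, ⟨g, hg⟩} : Finset (zpowers a)) ⊆
      ({x : zpowers a | x ^ 2 = 1} : Finset (zpowers a)) := by
    intro x hx
    simp only [Finset.mem_insert, Finset.mem_singleton] at hx
    simp only [Finset.mem_filter, Finset.mem_univ, true_and]
    rcases hx with rfl | rfl | rfl
    · exact one_pow 2
    · exact Subtype.ext (by
        show u ^ 2 = 1
        have := pow_orderOf_eq_one u
        rwa [hu] at this)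
    · exact Subtype.ext (show g ^ 2 = 1 by rw [pow_two]; exact hg2)
  have h3 := Finset.card_le_card hsub
  have hu1 : u ≠ 1 := fun e => by rw [e, orderOf_one] at hu; norm_num at hu
  rw [Finset.card_insert_of_notMem, Finset.card_pair] at h3
  · omega
  · exact fun e => h.2 (congrArg Subtype.val e).symm
  · simp only [Finset.mem_insert, Finset.mem_singleton, not_or]
    exact ⟨fun e => hu1 (congrArg Subtype.val e).symm, fun e => h.1 (congrArg Subtype.val e).symm⟩

/-- A transitive element of odd order on a four group of `L₂(q)` has order three. -/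
theorem order_three (hmod : Fintype.card F % 8 = 3 ∨ Fintype.card F % 8 = 5)
    (hq : 3 < Fintype.card F) {P : Subgroup PSL} {z : PSL} (hP : ElemData P z)
    (hP4 : Nat.card P = 4) : orderOf z = 3 ∧
      ∀ u ∈ P, u ≠ 1 → z * u * z⁻¹ ≠ u ∧
        ∀ v ∈ P, v ≠ 1 → v = u ∨ v = z * u * z⁻¹ ∨ v = z * (z * u * z⁻¹) * z⁻¹ := by
  classical
  have hkey : ∀ u ∈ P, u ≠ 1 → z * u * z⁻¹ ≠ u ∧ z * (z * u * z⁻¹) * z⁻¹ ≠ u ∧
      (∀ v ∈ P, v ≠ 1 → v = u ∨ v = z * u * z⁻¹ ∨ v = z * (z * u * z⁻¹) * z⁻¹) ∧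
      z * (z * (z * u * z⁻¹) * z⁻¹) * z⁻¹ = u := by
    intro u hu hu1
    set b := z * u * z⁻¹ with hb
    set c := z * b * z⁻¹ with hc
    have hbP : b ∈ P := hP.conj u hu
    have hcP : c ∈ P := hP.conj b hbP
    have h3 : c ≠ u := by
      intro e
      have hk : ∀ k : ℕ, z ^ k * u * (z ^ k)⁻¹ = u ∨ z ^ k * u * (z ^ k)⁻¹ = b := by
        intro k
        induction k with
        | zero => left; simp
        | succ k ih =>
          have hs : z ^ (k + 1) * u * (z ^ (k + 1))⁻¹ = z * (z ^ k * u * (z ^ k)⁻¹) * z⁻¹ := by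
            rw [pow_succ']; group
          rcases ih with h | h <;> rw [hs, h]
          · exact Or.inr hb.symm
          · exact Or.inl e
      have hsub : ((P : Set PSL)) ⊆ ({1, u, b} : Set PSL) := by
        intro v hv
        by_cases hv1 : v = 1
        · simp [hv1]
        obtain ⟨k, hk'⟩ := hP.trans u hu v hv hu1 hv1
        rcases hk k with h | h <;> rw [← hk', h] <;> simp
      have h1 := Set.ncard_le_ncard hsub (Set.toFinite _)
      have h2 : ({1, u, b} : Set PSL).ncard ≤ 3 := by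
        refine (Set.ncard_insert_le _ _).trans (Nat.add_le_add_right ?_ 1)
        exact (Set.ncard_insert_le _ _).trans (by rw [Set.ncard_singleton])
      rw [← Nat.card_coe_set_eq] at h1
      rw [SetLike.coe_sort_coe, hP4] at h1
      omega
    have h2 : b ≠ u := fun e => h3 (by rw [hc, e, ← hb]; exact e)
    have hb1 : b ≠ 1 := fun e => hu1 (conj_eq_one_iff.1 e)
    have hc1 : c ≠ 1 := fun e => hb1 (conj_eq_one_iff.1 e)
    have hcb : c ≠ b := fun e => h2 (mul_left_cancel (mul_right_cancel (a := z * b)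
      (b := z⁻¹) (c := z * u) e))
    have hall : ∀ v ∈ P, v ≠ 1 → v = u ∨ v = b ∨ v = c := by
      intro v hv hv1
      by_contra hne
      simp only [not_or] at hne
      have hsub : ({1, u, b, c, v} : Finset PSL) ⊆ (P : Set PSL).toFinite.toFinset := by
        intro y hy
        simp only [Finset.mem_insert, Finset.mem_singleton] at hy
        rw [Set.Finite.mem_toFinset]
        rcases hy with rfl | rfl | rfl | rfl | rfl
        exacts [one_mem P, hu, hbP, hcP, hv]
      have h1 := Finset.card_le_card hsub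
      rw [← Set.ncard_eq_toFinset_card, ← Nat.card_coe_set_eq, SetLike.coe_sort_coe, hP4,
        Finset.card_insert_of_notMem, Finset.card_insert_of_notMem, Finset.card_insert_of_notMem,
        Finset.card_pair] at h1
      · omega
      · exact fun e => hne.2.2 e.symm
      · simp only [Finset.mem_insert, Finset.mem_singleton, not_or]
        exact ⟨fun e => hcb e.symm, fun e => hne.2.1 e.symm⟩
      · simp only [Finset.mem_insert, Finset.mem_singleton, not_or]
        exact ⟨fun e => h2 e.symm, fun e => h3 e.symm, fun e => hne.1 e.symm⟩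
      · simp only [Finset.mem_insert, Finset.mem_singleton, not_or]
        exact ⟨fun e => hu1 e.symm, fun e => hb1 e.symm, fun e => hc1 e.symm, fun e => hv1 e.symm⟩
    refine ⟨h2, h3, hall, ?_⟩
    rcases hall _ (hP.conj c hcP) (fun e => hc1 (conj_eq_one_iff.1 e)) with e | e | e
    · exact e
    · exact absurd (mul_left_cancel (mul_right_cancel (e.trans hb))) h3
    · exact absurd (mul_left_cancel (mul_right_cancel (e.trans hc))) hcb
  refine ⟨?_, fun u hu hu1 => ⟨(hkey u hu hu1).1, (hkey u hu hu1).2.2.1⟩⟩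
  obtain ⟨u, hu, hu1⟩ := exists_ne_one_of_card (H := P) (by omega)
  have huo : orderOf u = 2 := orderOf_eq_prime (by rw [pow_two]; exact hP.sq u hu) hu1
  obtain ⟨a, ha, hua, -, hout, hwodd, -⟩ := exists_torus_gen hmod hq huo
  have hz3 : ∀ v ∈ P, Commute (z ^ 3) v := by
    intro v hv
    by_cases hv1 : v = 1
    · rw [hv1]; exact Commute.one_right _
    have e := (hkey v hv hv1).2.2.2
    calc z ^ 3 * v = z * (z * (z * v * z⁻¹) * z⁻¹) * z⁻¹ * z ^ 3 := by
          rw [pow_succ, pow_succ, pow_one]; group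
      _ = v * z ^ 3 := by rw [e]
  obtain ⟨v, hv, hv1, hvu⟩ : ∃ v ∈ P, v ≠ 1 ∧ v ≠ u :=
    ⟨z * u * z⁻¹, hP.conj u hu, fun e => hu1 (conj_eq_one_iff.1 e), (hkey u hu hu1).1⟩
  have hvuc : Commute v u := by
    have e := hP.sq _ (mul_mem hv hu)
    show v * u = u * v
    rw [← inv_eq_of_mul_eq_one_right e, _root_.mul_inv_rev,
      inv_eq_of_mul_eq_one_right (hP.sq v hv), inv_eq_of_mul_eq_one_right (hP.sq u hu)]
  have hva : v * a * v⁻¹ = a⁻¹ := by
    rcases hout v hvuc with h | h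
    · rcases torus_sq hwodd.pos ha huo hua h (hP.sq v hv) with e | e
      · exact absurd e hv1
      · exact absurd e hvu
    · exact h.2
  have hsq : z ^ 3 * z ^ 3 = 1 := by
    rcases hout _ (hz3 u hu) with h | h
    · obtain ⟨i, hi⟩ := mem_zpowers_iff.1 h
      have h1 : v * a ^ i * v⁻¹ = (a ^ i)⁻¹ := by rw [← conj_zpow, hva, inv_zpow]
      rw [hi, ← (hz3 v hv).eq, mul_inv_cancel_right] at h1
      exact mul_eq_one_iff_eq_inv.2 h1
    · exact h.1
  have hz31 : z ^ 3 = 1 := by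
    have h2 : orderOf (z ^ 3) ∣ 2 := orderOf_dvd_of_pow_eq_one (by rw [pow_two]; exact hsq)
    exact orderOf_eq_one_iff.1 (Nat.eq_one_of_dvd_coprimes
      (Nat.coprime_two_right.2 (hP.odd.of_dvd_nat (orderOf_pow_dvd 3))) dvd_rfl h2)
  exact orderOf_eq_prime hz31 fun e => (hkey u hu hu1).1 (by rw [e]; simp)

/-- The local configuration exists. -/
theorem exists_local [IsSimpleGroup G] {t : G} (hS : Setting G F t) :
    ∃ V W : Subgroup G, ∃ s x : G,
      Local G t (torusOrder (Fintype.card F)) V W s x := by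
  classical
  haveI : Fact (Nat.Prime 2) := ⟨Nat.prime_two⟩
  obtain ⟨ht, hab, e, hmod, hlarge⟩ := hS
  have hq3 : 3 ≤ Fintype.card F := by omega
  have hq : 3 < Fintype.card F := by omega
  obtain ⟨-, hperf⟩ := perfect ht hq3 ⟨e⟩
  obtain ⟨P, z₀, hP⟩ := exists_elemData hab hq3 e
  set j := embed e with hjdef
  have hj : Function.Injective j := embed_injective e
  have hjt : ∀ y, Commute (j y) t := embed_commute e
  have he := image_t ht e
  have htC : t ∈ (centralizer ({t} : Set G)) := mem_centralizer_singleton_iff.2 rfl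
  set U := (P : Subgroup PSL).map j with hUdef
  have htt : t * t = 1 := by rw [← pow_two, ← ht, pow_orderOf_eq_one]
  have hzp : IsPGroup 2 (zpowers t) :=
    IsPGroup.of_card (n := 1) (by rw [Nat.card_zpowers, ht, pow_one])
  have hQ : IsPGroup 2 (U ⊔ zpowers t : Subgroup G) :=
    (P.2.map j).to_sup_of_normal_left' hzp (zpowers_le.2 (centralizer_le_normalizer _ (mem_centralizer_iff.2 (by
      rintro _ ⟨y, -, rfl⟩
      exact (hjt y).eq))))
  obtain ⟨S, hQS, hSC⟩ := exists_sylow_le_centralizer hab hQ (mem_sup_right (mem_zpowers t))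
  have htS : t ∈ (S : Subgroup G) := hQS (mem_sup_right (mem_zpowers t))
  have hUS : U ≤ (S : Subgroup G) := le_sup_left.trans hQS
  have hS8 := (sylow_eight hq ht e S).1
  have hπj : ∀ y, (e ⟨j y, mem_centralizer_singleton_iff.2 (hjt y).eq⟩) = (1, y) := fun y => by
    rw [show (⟨j y, mem_centralizer_singleton_iff.2 (hjt y).eq⟩ : (centralizer ({t} : Set G))) = e.symm (1, y) from rfl,
      e.apply_symm_apply]
  have htU : t ∉ U := by
    rintro ⟨y, -, hy⟩
    have h2 := hπj y
    rw [show (⟨j y, mem_centralizer_singleton_iff.2 (hjt y).eq⟩ : (centralizer ({t} : Set G))) = ⟨t, htC⟩ from Subtype.ext hy,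
      he] at h2
    exact gen_two_facts.1 (congrArg Prod.fst h2)
  have hU4 : Nat.card U = 4 := by
    have h1 : 4 ≤ Nat.card U := by rw [hUdef, card_map_of_injective hj]; exact hP.card
    have h2 : Nat.card U ∣ 8 := hS8 ▸ card_dvd_of_le hUS
    have h3 : Nat.card U ≠ 8 := fun h =>
      htU ((eq_of_le_of_card_ge hUS (by rw [h, hS8])).symm ▸ htS)
    obtain ⟨i, hi, hi'⟩ := (Nat.dvd_prime_pow Nat.prime_two).1 (show Nat.card U ∣ 2 ^ 3 from h2)
    rw [hi'] at h1 h3 ⊢
    interval_cases i <;> omega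
  have hP4 : Nat.card (P : Subgroup PSL) = 4 := by rw [← hU4, hUdef, card_map_of_injective hj]
  obtain ⟨hz3, hzmv⟩ := order_three hmod hq hP hP4
  have hdec : ∀ y ∈ (S : Subgroup G), y ∈ U ∨ t * y ∈ U := by
    intro y hy
    by_cases hyU : y ∈ U
    · exact Or.inl hyU
    have hidx : (U.subgroupOf (S : Subgroup G)).index = 2 := by
      have h1 := (U.subgroupOf (S : Subgroup G)).card_mul_index
      rw [Nat.card_congr (subgroupOfEquivOfLe hUS).toEquiv, hU4, hS8] at h1
      omega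
    refine Or.inr ((mul_mem_iff_of_index_two hidx (a := ⟨t, htS⟩) (b := ⟨y, hy⟩)).2 ?_)
    simp only [mem_subgroupOf]
    exact iff_of_false htU hyU
  have hfus := fusion_transitive hperf S ⟨⟨hab S⟩⟩ hUS hU4.ge htS htt htU hdec (hjt z₀)
    (by rintro _ ⟨y, hy, rfl⟩; exact ⟨_, hP.conj y hy, by rw [map_mul, map_mul, map_inv]⟩)
    (by
      rintro _ ⟨y, hy, rfl⟩ _ ⟨y', hy', rfl⟩ hy1 hy1'
      obtain ⟨k, hk⟩ := hP.trans y hy y' hy' (fun h => hy1 (h ▸ map_one j))
        (fun h => hy1' (h ▸ map_one j))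
      exact ⟨k, by rw [← hk, map_mul, map_mul, map_inv, map_pow]⟩)
  obtain ⟨u₀, hu₀, hu₀1⟩ := exists_ne_one_of_card (H := (P : Subgroup PSL)) (by omega)
  obtain ⟨n, hn, hnt⟩ := hfus (j u₀) (hUS ⟨u₀, hu₀, rfl⟩) (fun h => hu₀1 (hj (by rw [h, map_one])))
  set φ : G ≃* G := MulAut.conj n⁻¹ with hφ
  have hφu : φ (j u₀) = t := by
    show n⁻¹ * j u₀ * n⁻¹⁻¹ = t
    rw [← hnt]; group
  set V := U.map φ.toMonoidHom with hV
  set s := φ t with hs
  set x := φ (j z₀) with hx
  have hVS : V ≤ (S : Subgroup G) := by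
    rintro _ ⟨y, hy, rfl⟩
    exact (mem_normalizer_iff.1 (inv_mem hn) y).1 (hUS hy)
  have hsS : s ∈ (S : Subgroup G) := (mem_normalizer_iff.1 (inv_mem hn) t).1 htS
  have hcard_V : Nat.card V = 4 := by rw [hV, card_map_of_injective φ.injective, hU4]
  have hsq_V : ∀ v ∈ V, v * v = 1 := by
    rintro _ ⟨_, ⟨y, hy, rfl⟩, rfl⟩
    show φ (j y) * φ (j y) = 1
    rw [← map_mul, ← map_mul, hP.sq y hy, map_one, map_one]
  have htV : t ∈ V := ⟨j u₀, ⟨u₀, hu₀, rfl⟩, hφu⟩
  have hsV : s ∉ V := by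
    rintro ⟨y, hy, hys⟩
    exact htU (φ.injective hys ▸ hy)
  have hxt : x * t * x⁻¹ = φ (j (z₀ * u₀ * z₀⁻¹)) := by
    rw [← hφu, hx, map_mul, map_mul, map_inv, map_mul, map_mul, map_inv]
  have hxt2 : x * (x * t * x⁻¹) * x⁻¹ = φ (j (z₀ * (z₀ * u₀ * z₀⁻¹) * z₀⁻¹)) := by
    rw [hxt, hx]; simp only [map_mul, map_inv]
  have hxmove : x * t * x⁻¹ ≠ t := fun h => by
    rw [hxt, ← hφu] at h
    exact (hzmv u₀ hu₀ hu₀1).1 (hj (φ.injective h))
  -- the second involution of `V`
  set v₁ := x * t * x⁻¹ with hv₁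
  have hv₁V : v₁ ∈ V := hxt ▸ ⟨_, ⟨_, hP.conj u₀ hu₀, rfl⟩, rfl⟩
  have hv₁C : v₁ ∈ (centralizer ({t} : Set G)) := hSC (hVS hv₁V)
  have hfst : ∀ c : (centralizer ({t} : Set G)), ((e c).1 = 1 ∧ (c : G) = j (e c).2) ∨
      (e c).1 ≠ 1 ∧ (c : G) = t * j (e c).2 := by
    intro c
    by_cases h1 : (e c).1 = 1
    · refine Or.inl ⟨h1, ?_⟩
      show (c : G) = ((e.symm (1, (e c).2) : (centralizer ({t} : Set G))) : G)
      rw [← h1, e.symm_apply_apply]
    · refine Or.inr ⟨h1, ?_⟩
      have h2 : ((1, (e c).2) : Multiplicative (ZMod 2) × PSL) = e (⟨t, htC⟩ * c) := by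
        rw [map_mul, he]
        refine Prod.ext ?_ (one_mul _).symm
        show _ = Multiplicative.ofAdd 1 * (e c).1
        rw [gen_two _ h1]; exact gen_two_facts.2.symm
      show (c : G) = t * ((e.symm (1, (e c).2) : (centralizer ({t} : Set G))) : G)
      rw [h2, e.symm_apply_apply]
      show (c : G) = t * (t * c)
      rw [← mul_assoc, htt, one_mul]
  set u₁ := (e ⟨v₁, hv₁C⟩).2 with hu₁
  have hu₁2 : orderOf u₁ = 2 := by
    refine orderOf_eq_prime ?_ fun h => ?_
    · have h1 : (⟨v₁, hv₁C⟩ : (centralizer ({t} : Set G))) * ⟨v₁, hv₁C⟩ = 1 := Subtype.ext (hsq_V _ hv₁V)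
      have h2 := congrArg (fun c => (e c).2) h1
      simp only [map_mul, map_one, Prod.snd_mul, Prod.snd_one] at h2
      rw [pow_two]; exact h2
    · rcases hfst ⟨v₁, hv₁C⟩ with ⟨-, h2⟩ | ⟨-, h2⟩
      · rw [← hu₁, h, map_one] at h2
        exact hxmove (h2.trans (conj_eq_one_iff.1 h2).symm)
      · rw [← hu₁, h, map_one, mul_one] at h2
        exact hxmove h2
  obtain ⟨a, ha, hua, hau, hout, hwodd, hnorm⟩ := exists_torus_gen hmod hq hu₁2
  set w := torusOrder (Fintype.card F) with hw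
  set W := zpowers (j (a ^ 2)) with hW
  have hjv : ∀ y, Commute y u₁ → Commute (j y) v₁ := fun y hy => by
    rcases hfst ⟨v₁, hv₁C⟩ with ⟨-, h2⟩ | ⟨-, h2⟩
    · rw [show v₁ = j u₁ from h2]; exact hy.map j
    · rw [show v₁ = t * j u₁ from h2]; exact (hjt y).mul_right (hy.map j)
  have hVgen : ∀ {K : Subgroup G}, t ∈ K → v₁ ∈ K → V ≤ K := by
    intro K htK hvK
    have hle : Subgroup.closure {t, v₁} ≤ V := closure_le _ |>.2 (by
      rintro _ (rfl | rfl)
      exacts [htV, hv₁V])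
    have h3 : 3 ≤ Nat.card (Subgroup.closure {t, v₁}) := by
      have hsub : ({1, t, v₁} : Set G) ⊆ (Subgroup.closure {t, v₁} : Set G) := by
        rintro _ (rfl | rfl | rfl)
        exacts [one_mem _, subset_closure (Or.inl rfl), subset_closure (Or.inr rfl)]
      have h1 := Set.ncard_le_ncard hsub (Set.toFinite _)
      rw [Set.ncard_insert_of_notMem, Set.ncard_pair (Ne.symm hxmove), ← Nat.card_coe_set_eq] at h1
      · exact h1
      · rintro (h | h)
        · rw [← h, orderOf_one] at ht; norm_num at ht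
        · have := conj_eq_one_iff.1 h.symm
          rw [this, orderOf_one] at ht; norm_num at ht
    have h4 := card_dvd_of_le hle
    rw [hcard_V] at h4
    have h5 := Nat.le_of_dvd (by norm_num) h4
    have h6 : Nat.card (Subgroup.closure {t, v₁}) = 4 := by
      interval_cases Nat.card (Subgroup.closure {t, v₁}) <;> omega
    rw [← eq_of_le_of_card_ge hle (by rw [hcard_V, h6])]
    exact closure_le _ |>.2 (by rintro _ (rfl | rfl) <;> assumption)
  have hjW : ∀ i : ℤ, j ((a ^ 2) ^ i) ∈ W := fun i => by rw [map_zpow]; exact zpow_mem (mem_zpowers _) i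
  have hcomm : ∀ v ∈ V, ∀ y ∈ W, Commute v y := by
    intro v hv y hy
    obtain ⟨i, rfl⟩ := mem_zpowers_iff.1 hy
    refine (mem_centralizer_singleton_iff.1 (hVgen (K := centralizer ({j (a ^ 2) ^ i} : Set G))
      ?_ ?_ hv) : _)
    · rw [mem_centralizer_singleton_iff, ← map_zpow]; exact (hjt _).symm.eq
    · rw [mem_centralizer_singleton_iff, ← map_zpow]; exact (hjv _ ((hau.pow_left 2).zpow_left i)).symm.eq
  -- odd elements of the centraliser of `u₁`
  have hodd_torus : ∀ g : PSL, Commute g u₁ → g ^ w = 1 → g ∈ zpowers (a ^ 2) := by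
    intro g hg hgw
    rcases hout g hg with h | h
    · obtain ⟨i, rfl⟩ := mem_zpowers_iff.1 h
      have hdvd : (orderOf a : ℤ) ∣ i * w := by
        rw [orderOf_dvd_iff_zpow_eq_one, zpow_mul, zpow_natCast]; exact hgw
      rw [ha, Nat.cast_mul, Nat.cast_two] at hdvd
      obtain ⟨k, hk⟩ := Int.dvd_of_mul_dvd_mul_right (by exact_mod_cast hwodd.pos.ne') hdvd
      exact ⟨k, by rw [hk, zpow_mul]; rfl⟩
    · have h2 : orderOf g ∣ 2 := orderOf_dvd_of_pow_eq_one (by rw [pow_two]; exact h.1)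
      rw [orderOf_eq_one_iff.1 (Nat.eq_one_of_dvd_coprimes
        (Nat.coprime_two_right.2 (hwodd.of_dvd_nat (orderOf_dvd_of_pow_eq_one hgw))) dvd_rfl h2)]
      exact one_mem _
  have ha2 : orderOf (a ^ 2) = w := by
    rw [orderOf_pow, ha, Nat.gcd_eq_right (dvd_mul_right 2 w)]; omega
  have hcard_W : Nat.card W = w := by rw [hW, Nat.card_zpowers, orderOf_injective j hj, ha2]
  -- the image of `s` inverts the torus
  have hsC : s ∈ (centralizer ({t} : Set G)) := hSC hsS
  have hsu : Commute (e ⟨s, hsC⟩).2 u₁ := by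
    have h1 : (⟨s, hsC⟩ : (centralizer ({t} : Set G))) * ⟨v₁, hv₁C⟩ = ⟨v₁, hv₁C⟩ * ⟨s, hsC⟩ :=
      Subtype.ext (comm_of_mem hab S hsS (hVS hv₁V))
    have h2 := congrArg (fun c => (e c).2) h1
    simp only [map_mul, Prod.snd_mul] at h2
    exact h2
  have hs2 : orderOf s = 2 := by rw [hs, MulEquiv.orderOf_eq, ht]
  have hsinv : (e ⟨s, hsC⟩).2 * a * ((e ⟨s, hsC⟩).2)⁻¹ = a⁻¹ := by
    rcases hout _ hsu with h | h
    · exfalso
      have hsq : (e ⟨s, hsC⟩).2 * (e ⟨s, hsC⟩).2 = 1 := by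
        have h1 : (⟨s, hsC⟩ : (centralizer ({t} : Set G))) * ⟨s, hsC⟩ = 1 := Subtype.ext
          (by show s * s = 1; rw [← pow_two, ← hs2, pow_orderOf_eq_one])
        have h2 := congrArg (fun c => (e c).2) h1
        simp only [map_mul, map_one, Prod.snd_mul, Prod.snd_one] at h2
        exact h2
      have hju : j u₁ ∈ V := by
        rcases hfst ⟨v₁, hv₁C⟩ with ⟨-, h2⟩ | ⟨-, h2⟩
        · exact (show v₁ = j u₁ from h2) ▸ hv₁V
        · have := mul_mem htV hv₁V
          rwa [show v₁ = t * j u₁ from h2, ← mul_assoc, htt, one_mul] at this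
      refine hsV ?_
      rcases torus_sq hwodd.pos ha hu₁2 hua h hsq with e1 | e1 <;>
        rcases hfst ⟨s, hsC⟩ with ⟨-, h2⟩ | ⟨-, h2⟩ <;>
        rw [show s = _ from h2, e1]
      · rw [map_one]; exact one_mem _
      · rw [map_one, mul_one]; exact htV
      · exact hju
      · exact mul_mem htV hju
    · exact h.2
  have hsjy : ∀ y, Commute t (j y) := fun y => (hjt y).symm
  have hs_conj : ∀ y : PSL, s * j y * s⁻¹ = j ((e ⟨s, hsC⟩).2 * y * ((e ⟨s, hsC⟩).2)⁻¹) := by
    intro y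
    rcases hfst ⟨s, hsC⟩ with ⟨-, h2⟩ | ⟨-, h2⟩
    · conv_lhs => rw [show s = _ from h2]
      simp only [map_mul, map_inv]
    · conv_lhs => rw [show s = _ from h2]
      simp only [map_mul, map_inv]
      set b := j (e ⟨s, hsC⟩).2 with hb
      calc t * b * j y * (t * b)⁻¹ = t * (b * j y * b⁻¹) * t⁻¹ := by group
        _ = b * j y * b⁻¹ := by
          rw [hb, ← map_inv, ← map_mul, ← map_mul, (hsjy _).eq, mul_inv_cancel_right]
  refine ⟨V, W, s, x, ?_⟩
  exact {
    card_V := hcard_V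
    sq_V := hsq_V
    t_mem := htV
    card_W := hcard_W
    cyclic_W := inferInstanceAs (IsCyclic (zpowers (j (a ^ 2))))
    odd_w := hwodd
    comm_VW := hcomm
    s2 := hs2
    s_V := fun v hv => comm_of_mem hab S hsS (hVS hv)
    s_not := hsV
    s_W := fun y hy => by
      obtain ⟨i, rfl⟩ := mem_zpowers_iff.1 hy
      rw [← conj_zpow, hs_conj, ← conj_pow, hsinv, inv_pow, map_inv, inv_zpow]
    x3 := by rw [hx, MulEquiv.orderOf_eq, orderOf_injective j hj, hz3]
    x_V := by
      rintro _ ⟨_, ⟨y, hy, rfl⟩, rfl⟩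
      exact ⟨j (z₀ * y * z₀⁻¹), ⟨_, hP.conj y hy, rfl⟩, by simp [hx, map_mul, map_inv]⟩
    x_move := hxmove
    x_trans := by
      rintro _ ⟨_, ⟨y, hy, rfl⟩, rfl⟩ hy1
      have hy1' : y ≠ 1 := fun h => hy1 (by simp [h])
      rcases (hzmv u₀ hu₀ hu₀1).2 y hy hy1' with rfl | rfl | rfl
      · exact Or.inl hφu
      · exact Or.inr (Or.inl (hv₁.trans hxt).symm)
      · exact Or.inr (Or.inr hxt2.symm)
    x_s := by rw [hx, hs]; exact (hjt z₀).map φ
    x_W := fun y hy => by
      have hc : ∀ v ∈ V, Commute (x * y * x⁻¹) v := by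
        intro v hv
        have hv' : x⁻¹ * v * x ∈ V := by
          obtain ⟨_, ⟨b, hb, rfl⟩, rfl⟩ := hv
          obtain ⟨b', hb', hbb⟩ : ∃ b' ∈ (P : Subgroup PSL), z₀ * b' * z₀⁻¹ = b :=
            ⟨z₀ ^ 2 * b * (z₀ ^ 2)⁻¹, conj_pow_mem hP.conj 2 b hb, by
              calc z₀ * (z₀ ^ 2 * b * (z₀ ^ 2)⁻¹) * z₀⁻¹ = z₀ ^ 3 * b * (z₀ ^ 3)⁻¹ := by group
                _ = b := by rw [← hz3, pow_orderOf_eq_one]; simp⟩
          refine ⟨j b', ⟨b', hb', rfl⟩, ?_⟩
          rw [← hbb]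
          simp [hx, map_mul, map_inv, mul_assoc]
        have h1 := (Commute.conj_iff x).2 (hcomm _ hv' y hy).symm
        rwa [show x * (x⁻¹ * v * x) * x⁻¹ = v by group] at h1
      have hgC : x * y * x⁻¹ ∈ (centralizer ({t} : Set G)) := mem_centralizer_singleton_iff.2 (hc t htV).eq
      have hgw : (x * y * x⁻¹) ^ w = 1 := by
        rw [conj_pow, ← hcard_W, orderOf_dvd_iff_pow_eq_one.1
          (Subgroup.orderOf_dvd_natCard W hy)]
        group
      have hew : (e ⟨_, hgC⟩) ^ w = 1 := by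
        rw [← map_pow, show (⟨_, hgC⟩ : (centralizer ({t} : Set G))) ^ w = 1 from Subtype.ext hgw, map_one]
      rcases hfst ⟨_, hgC⟩ with ⟨-, h2⟩ | ⟨h1, -⟩
      · rw [show x * y * x⁻¹ = _ from h2]
        obtain ⟨i, hi⟩ := mem_zpowers_iff.1 (hodd_torus (e ⟨_, hgC⟩).2 (by
          have h3 : (⟨_, hgC⟩ : (centralizer ({t} : Set G))) * ⟨v₁, hv₁C⟩ = ⟨v₁, hv₁C⟩ * ⟨_, hgC⟩ :=
            Subtype.ext (hc v₁ hv₁V).eq
          have h4 := congrArg (fun c => (e c).2) h3
          simp only [map_mul, Prod.snd_mul] at h4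
          exact h4) (congrArg Prod.snd hew))
        exact hi ▸ hjW i
      · refine absurd (congrArg Prod.fst hew) ?_
        rw [Prod.pow_fst, gen_two _ h1]
        obtain ⟨k, hk⟩ := hwodd
        rw [hk, pow_succ, pow_mul, (two_sq _).2, one_pow, one_mul]
        exact gen_two_facts.1
    conj_inv := fun g hg => isConj_of_involution hab hq3 ht e hg
    cent_V := fun g hg => by
      have hgC : g ∈ (centralizer ({t} : Set G)) := mem_centralizer_singleton_iff.2 (hg t htV).eq
      have hgu : Commute (e ⟨g, hgC⟩).2 u₁ := by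
        have h3 : (⟨g, hgC⟩ : (centralizer ({t} : Set G))) * ⟨v₁, hv₁C⟩ = ⟨v₁, hv₁C⟩ * ⟨g, hgC⟩ :=
          Subtype.ext (hg v₁ hv₁V).eq
        have h4 := congrArg (fun c => (e c).2) h3
        simp only [map_mul, Prod.snd_mul] at h4
        exact h4
      -- the torus lies in `V W`
      have hju : j u₁ ∈ V := by
        rcases hfst ⟨v₁, hv₁C⟩ with ⟨-, h2⟩ | ⟨-, h2⟩
        · exact (show v₁ = j u₁ from h2) ▸ hv₁V
        · have := mul_mem htV hv₁V
          rwa [show v₁ = t * j u₁ from h2, ← mul_assoc, htt, one_mul] at this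
      have hA : ∀ y : PSL, y ∈ zpowers a → j y ∈ V ⊔ W := by
        intro y hy
        obtain ⟨i, rfl⟩ := mem_zpowers_iff.1 hy
        obtain ⟨k, hk⟩ := hwodd
        have haw : a ^ w = u₁ := by
          have h2 : (a ^ w) * (a ^ w) = 1 := by rw [← pow_add, ← two_mul, ← ha, pow_orderOf_eq_one]
          rcases torus_sq (show 0 < w by omega) ha hu₁2 hua (pow_mem (mem_zpowers a) w) h2 with e1 | e1
          · have := Nat.le_of_dvd (by omega) (ha ▸ orderOf_dvd_of_pow_eq_one e1)
            omega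
          · exact e1
        have : a ^ i = u₁ ^ i * ((a ^ 2) ^ (-((k : ℤ) * i))) := by
          rw [← haw, hk, ← zpow_natCast a (2 * k + 1), ← zpow_natCast a 2, ← zpow_mul, ← zpow_mul,
            ← zpow_add]
          congr 1; push_cast; ring
        rw [this, map_mul, map_zpow]
        exact mul_mem (zpow_mem (mem_sup_left hju) i) (mem_sup_right (hjW _))
      have key : ∀ g' : G, ∀ hg' : g' ∈ (centralizer ({t} : Set G)), (e ⟨g', hg'⟩).2 ∈ zpowers a → g' ∈ V ⊔ W := by
        intro g' hg' hmem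
        rcases hfst ⟨g', hg'⟩ with ⟨-, h2⟩ | ⟨-, h2⟩
        · exact (show g' = _ from h2) ▸ hA _ hmem
        · exact (show g' = _ from h2) ▸ mul_mem (mem_sup_left htV) (hA _ hmem)
      by_cases hga : (e ⟨g, hgC⟩).2 ∈ zpowers a
      · exact Or.inl (key g hgC hga)
      · refine Or.inr (key _ (mul_mem hsC hgC) ?_)
        rw [show (⟨s * g, mul_mem hsC hgC⟩ : (centralizer ({t} : Set G))) = ⟨s, hsC⟩ * ⟨g, hgC⟩ from rfl, map_mul, Prod.snd_mul]
        have hgi := ((hout _ hgu).resolve_left hga).2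
        rcases hout _ (hsu.mul_left hgu) with h | ⟨-, h⟩
        · exact h
        · exfalso
          set σ := (e ⟨s, hsC⟩).2
          set γ := (e ⟨g, hgC⟩).2
          rw [show σ * γ * a * (σ * γ)⁻¹ = σ * (γ * a * γ⁻¹) * σ⁻¹ by group, hgi,
            ← conj_inv, hsinv, inv_inv] at h
          have h2 : a ^ 2 = 1 := by rw [pow_two]; exact mul_eq_one_iff_eq_inv.2 h
          have h3 := Nat.le_of_dvd two_pos (ha ▸ orderOf_dvd_of_pow_eq_one h2)
          obtain ⟨k, hk⟩ := hwodd
          have : w = 1 := by omega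
          rw [hw, torusOrder] at this
          split_ifs at this <;> omega
    cent_tW := fun g y hy hy1 hgt hgy => by
      have hgC : g ∈ (centralizer ({t} : Set G)) := mem_centralizer_singleton_iff.2 hgt.eq
      obtain ⟨i, rfl⟩ := mem_zpowers_iff.1 hy
      rw [← map_zpow] at hy1 hgy
      set τ := (a ^ 2) ^ i with hτ
      have hτA : τ ∈ zpowers a := zpow_mem (pow_mem (mem_zpowers a) 2) i
      have hτ1 : τ ≠ 1 := fun h => hy1 (by rw [h, map_one])
      have hgτ : Commute (e ⟨g, hgC⟩).2 τ := by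
        have h3 : (⟨g, hgC⟩ : (centralizer ({t} : Set G))) *
            ⟨j τ, mem_centralizer_singleton_iff.2 (hjt τ).eq⟩ =
            ⟨j τ, mem_centralizer_singleton_iff.2 (hjt τ).eq⟩ * ⟨g, hgC⟩ := Subtype.ext hgy.eq
        have h4 := congrArg (fun c => (e c).2) h3
        simp only [map_mul, Prod.snd_mul, hπj] at h4
        exact h4
      have hju : j u₁ ∈ V := by
        rcases hfst ⟨v₁, hv₁C⟩ with ⟨-, h2⟩ | ⟨-, h2⟩
        · exact (show v₁ = j u₁ from h2) ▸ hv₁V
        · have := mul_mem htV hv₁V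
          rwa [show v₁ = t * j u₁ from h2, ← mul_assoc, htt, one_mul] at this
      have hgu := hnorm τ hτA hτ1 _ hgτ
      have hγ : (e ⟨g, hgC⟩).2 ∈ zpowers a := by
        rcases hout _ hgu with h | ⟨-, h⟩
        · exact h
        · exfalso
          have h5 : (e ⟨g, hgC⟩).2 * τ * ((e ⟨g, hgC⟩).2)⁻¹ = τ⁻¹ := by
            rw [hτ, ← conj_zpow, ← conj_pow, h, inv_pow, inv_zpow]
          rw [hgτ.eq, mul_inv_cancel_right] at h5
          have h6 : τ * τ = 1 := mul_eq_one_iff_eq_inv.2 h5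
          have h7 : orderOf τ ∣ 2 := orderOf_dvd_of_pow_eq_one (by rw [pow_two]; exact h6)
          exact hτ1 (orderOf_eq_one_iff.1 (Nat.eq_one_of_dvd_coprimes
            (Nat.coprime_two_right.2 (hwodd.of_dvd_nat (ha2 ▸
              orderOf_dvd_of_mem_zpowers (zpow_mem (mem_zpowers (a ^ 2)) i)))) dvd_rfl h7))
      have hV' : ∀ v ∈ V, Commute g v := by
        intro v hv
        refine (mem_centralizer_singleton_iff.1 (hVgen (K := centralizer ({g} : Set G)) ?_ ?_ hv) : Commute v g).symm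
        · exact mem_centralizer_singleton_iff.2 hgt.symm.eq
        · refine mem_centralizer_singleton_iff.2 ?_
          rcases hfst ⟨g, hgC⟩ with ⟨-, h2⟩ | ⟨-, h2⟩
          · rw [show g = _ from h2]; exact (hjv _ hgu).symm.eq
          · rw [show g = _ from h2]
            exact ((show Commute v₁ t from comm_of_mem hab S (hVS hv₁V) htS).mul_right (hjv _ hgu).symm).eq
      obtain ⟨i', hi'⟩ := mem_zpowers_iff.1 hγ
      obtain ⟨k, hk⟩ := hwodd
      have haw : a ^ w = u₁ := by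
        have h2 : (a ^ w) * (a ^ w) = 1 := by rw [← pow_add, ← two_mul, ← ha, pow_orderOf_eq_one]
        rcases torus_sq (show 0 < w by omega) ha hu₁2 hua (pow_mem (mem_zpowers a) w) h2 with e1 | e1
        · have := Nat.le_of_dvd (by omega) (ha ▸ orderOf_dvd_of_pow_eq_one e1)
          omega
        · exact e1
      have hji : j (e ⟨g, hgC⟩).2 ∈ V ⊔ W := by
        have : a ^ i' = u₁ ^ i' * ((a ^ 2) ^ (-((k : ℤ) * i'))) := by
          rw [← haw, hk, ← zpow_natCast a (2 * k + 1), ← zpow_natCast a 2, ← zpow_mul, ← zpow_mul,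
            ← zpow_add]
          congr 1; push_cast; ring
        rw [← hi', this, map_mul, map_zpow]
        exact mul_mem (zpow_mem (mem_sup_left hju) i') (mem_sup_right (hjW _))
      rcases hfst ⟨g, hgC⟩ with ⟨-, h2⟩ | ⟨-, h2⟩
      · exact (show g = _ from h2) ▸ hji
      · exact (show g = _ from h2) ▸ mul_mem (mem_sup_left htV) hji
  }

end CfsgLib.Recognition.ReeCentralizer
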