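import Cfsg.Agent.Lib.Fusion.Abelian
import Cfsg.Agent.Lib.Classical.LowRank.SLTwo
import Cfsg.Agent.Lib.Involution.TwoTimesPSL.PSLData
import Cfsg.Prelude.Def_Sporadic
import Cfsg.Agent.Lib.Perm.ZGroup.Simple

/-!
# A simple group with an involution centraliser `2 × L₂(q)` and abelian Sylow 2-subgroups

The centraliser of `t` contains a Sylow 2-subgroup `S = ⟨t⟩ × U` and an element permuting the
involutions of `U` transitively; as `t` and `U` are not normalised by `N(S)`, all involutions of `G`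
are conjugate.
-/

set_option autoImplicit false
set_option linter.unusedSectionVars false
set_option linter.style.haveILetI false

namespace CfsgLib.Recognition.ReeCentralizer

open Subgroup CfsgLib.Involution.TwoTimesPSL
open scoped commutatorElement

variable {G : Type*} [Group G] [Finite G]

/-- Abelian Sylow 2-subgroups are everywhere commutative. -/
theorem comm_of_mem (hab : ∀ P : Sylow 2 G, ∀ a b : P, a * b = b * a) (S : Sylow 2 G) {a b : G}
    (ha : a ∈ (S : Subgroup G)) (hb : b ∈ (S : Subgroup G)) : a * b = b * a :=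
  congrArg Subtype.val (hab S ⟨a, ha⟩ ⟨b, hb⟩)

/-- A Sylow 2-subgroup of a centraliser of an involution is one of the group. -/
theorem exists_sylow_le_centralizer (hab : ∀ P : Sylow 2 G, ∀ a b : P, a * b = b * a) {t : G}
    {Q : Subgroup G} (hQ : IsPGroup 2 Q) (htQ : t ∈ Q) :
    ∃ S : Sylow 2 G, Q ≤ (S : Subgroup G) ∧ (S : Subgroup G) ≤ centralizer ({t} : Set G) := by
  obtain ⟨S, hS⟩ := hQ.exists_le_sylow
  exact ⟨S, hS, fun s hs => mem_centralizer_singleton_iff.2 (comm_of_mem hab S hs (hS htQ))⟩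

/-- With abelian Sylow 2-subgroups a perfect group has no involution central in `N(S)`, and no
subgroup of index two of `S` invariant under `N(S)`. -/
theorem not_central (hperf : commutator G = ⊤) (S : Sylow 2 G)
    (hS : IsMulCommutative (S : Subgroup G)) {t : G} (ht : t ∈ (S : Subgroup G)) (ht1 : t ≠ 1) :
    ∃ n ∈ normalizer ((S : Subgroup G) : Set G), n * t * n⁻¹ ≠ t := by
  classical
  haveI : Fact (Nat.Prime 2) := ⟨Nat.prime_two⟩
  by_contra hfix
  push Not at hfix
  set N := normalizer ((S : Subgroup G) : Set G) with hN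
  have hfoc : (S : Subgroup G).focalSubgroup = (S : Subgroup G) := by
    have h := (CfsgLib.Fusion.Abelian.focal_of_coprime (S : Subgroup G)
      (CfsgLib.Fusion.Abelian.coprime_relIndex_commutator (S : Subgroup G) _
        (Sylow.card_coprime_index S))).1
    rwa [hperf, top_inf_eq] at h
  set S' := (S : Subgroup G).subgroupOf N with hS'
  have hle : (S : Subgroup G).focalSubgroup ≤ (commutator N).map N.subtype := by
    rw [focalSubgroup_def, closure_le]
    rintro _ ⟨hz, x, hx, u, rfl⟩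
    have hy : u * x⁻¹ * u⁻¹ ∈ (S : Subgroup G) := by
      have := mul_mem (inv_mem hx) hz
      simpa [commutatorElement_def, mul_assoc] using this
    obtain ⟨n, hn, e⟩ := S.conj_eq_normalizer_conj_of_mem x⁻¹ u⁻¹ (inv_mem hx)
      (by rwa [inv_inv])
    rw [inv_inv] at e
    refine ⟨⁅(⟨x, le_normalizer hx⟩ : N), (⟨n⁻¹, inv_mem hn⟩ : N)⁆,
      commutator_mem_commutator (mem_top _) (mem_top _), ?_⟩
    simp only [commutatorElement_def, coe_subtype, Subgroup.coe_mul, Subgroup.coe_inv, inv_inv]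
    calc x * n⁻¹ * x⁻¹ * n = x * (n⁻¹ * x⁻¹ * n) := by group
      _ = x * (u * x⁻¹ * u⁻¹) := by rw [e]
      _ = x * u * x⁻¹ * u⁻¹ := by group
  have hS'c : IsMulCommutative S' := ⟨⟨fun a b => by
    apply Subtype.ext
    apply Subtype.ext
    show ((a : N) : G) * ((b : N) : G) = ((b : N) : G) * ((a : N) : G)
    exact congrArg Subtype.val (hS.is_comm.comm ⟨((a : N) : G), a.2⟩ ⟨((b : N) : G), b.2⟩)⟩⟩
  have hHall : Nat.Coprime (Nat.card S') S'.index := by
    rw [Nat.card_congr (subgroupOfEquivOfLe (le_normalizer : (S : Subgroup G) ≤ N)).toEquiv]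
    exact (Sylow.card_coprime_index S).coprime_dvd_right
      (Dvd.intro _ (relIndex_mul_index (le_normalizer : (S : Subgroup G) ≤ N)))
  have h := CfsgLib.Fusion.Abelian.inf_commutator_inf_center S' hS'c hHall
  have htN : t ∈ N := le_normalizer ht
  obtain ⟨c, hc, hct⟩ := hle (hfoc.symm ▸ ht)
  have hct' : c = ⟨t, htN⟩ := Subtype.ext hct
  have htmem : (⟨t, htN⟩ : N) ∈ S' ⊓ commutator N ⊓ center N := by
    refine ⟨⟨ht, hct' ▸ hc⟩, mem_center_iff.2 fun g => Subtype.ext ?_⟩
    exact mul_inv_eq_iff_eq_mul.1 (hfix g g.2)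
  rw [h, mem_bot] at htmem
  exact ht1 (congrArg Subtype.val htmem)

theorem index_two_not_invariant (hperf : commutator G = ⊤) (S : Sylow 2 G)
    (hS : IsMulCommutative (S : Subgroup G)) {U : Subgroup G} (hU : U < (S : Subgroup G)) {t : G}
    (htt : t * t = 1)
    (hdec : ∀ s ∈ (S : Subgroup G), s ∈ U ∨ t * s ∈ U) :
    ∃ n ∈ normalizer ((S : Subgroup G) : Set G), ∃ u ∈ U, n * u * n⁻¹ ∉ U := by
  classical
  haveI : Fact (Nat.Prime 2) := ⟨Nat.prime_two⟩
  by_contra hinv
  push Not at hinv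
  obtain ⟨x₀, hx₀, hx₀U⟩ := SetLike.exists_of_lt hU
  have hfoc : (S : Subgroup G).focalSubgroup = (S : Subgroup G) := by
    have h := (CfsgLib.Fusion.Abelian.focal_of_coprime (S : Subgroup G)
      (CfsgLib.Fusion.Abelian.coprime_relIndex_commutator (S : Subgroup G) _
        (Sylow.card_coprime_index S))).1
    rwa [hperf, top_inf_eq] at h
  have hle : (S : Subgroup G).focalSubgroup ≤ U := by
    rw [focalSubgroup_def, closure_le]
    rintro _ ⟨hz, x, hx, u, rfl⟩
    have hy : u * x⁻¹ * u⁻¹ ∈ (S : Subgroup G) := by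
      have := mul_mem (inv_mem hx) hz
      simpa [commutatorElement_def, mul_assoc] using this
    obtain ⟨n, hn, e⟩ := S.conj_eq_normalizer_conj_of_mem x⁻¹ u⁻¹ (inv_mem hx)
      (by rwa [inv_inv])
    rw [inv_inv] at e
    have hval : x * u * x⁻¹ * u⁻¹ = x * (n⁻¹ * x⁻¹ * n) := by rw [← e]; group
    rw [commutatorElement_def, SetLike.mem_coe, hval]
    have hy' : n⁻¹ * x⁻¹ * n ∈ (S : Subgroup G) := e ▸ hy
    have hto : ∀ s ∈ U, n⁻¹ * s * n ∈ U := fun s hs => by
      have := hinv _ (inv_mem hn) s hs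
      rwa [inv_inv] at this
    rcases hdec x hx with hxU | hxU
    · exact mul_mem hxU (hto _ (inv_mem hxU))
    · have hne : n⁻¹ * x⁻¹ * n ∉ U := fun h => by
        have h1 : x⁻¹ ∈ U := by
          have := hinv n hn _ h
          simpa [mul_assoc] using this
        have h2 : x ∈ U := by simpa using inv_mem h1
        have htU : t ∈ U := by simpa using mul_mem hxU (inv_mem h2)
        rcases hdec x₀ hx₀ with h3 | h3
        · exact hx₀U h3
        · exact hx₀U (by simpa using mul_mem (inv_mem htU) h3)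
      have hyt := (hdec _ hy').resolve_left hne
      have hcomm : Commute t x := by
        have htS : t ∈ (S : Subgroup G) := by
          have := mul_mem (hU.le hxU) (inv_mem hx)
          simpa using this
        exact congrArg Subtype.val (hS.is_comm.comm ⟨t, htS⟩ ⟨x, hx⟩)
      have h4 := mul_mem hxU hyt
      rwa [hcomm.eq, mul_assoc x t, ← mul_assoc t t, htt, one_mul] at h4
  exact hx₀U (hle (hfoc.symm ▸ hx₀))

/-- The involution fusion of `2 × U` extended by an element transitive on `U`. -/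
theorem fusion_transitive (hperf : commutator G = ⊤) (S : Sylow 2 G)
    (hS : IsMulCommutative (S : Subgroup G)) {U : Subgroup G} (hU : U ≤ (S : Subgroup G))
    (hU4 : 4 ≤ Nat.card U) {t : G} (htS : t ∈ (S : Subgroup G)) (htt : t * t = 1) (htU : t ∉ U)
    (hdec : ∀ s ∈ (S : Subgroup G), s ∈ U ∨ t * s ∈ U) {z : G}
    (hzt : Commute z t) (hz : ∀ u ∈ U, z * u * z⁻¹ ∈ U) (htr : Trans z U) :
    ∀ s ∈ (S : Subgroup G), s ≠ 1 →
      ∃ n ∈ normalizer ((S : Subgroup G) : Set G), n * t * n⁻¹ = s := by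
  classical
  set N := normalizer ((S : Subgroup G) : Set G) with hN
  have ht1 : t ≠ 1 := fun e => htU (e ▸ one_mem U)
  have hzS : z ∈ N := by
    have hle : (S : Subgroup G).map (MulAut.conj z).toMonoidHom ≤ (S : Subgroup G) := by
      rintro _ ⟨s, hs, rfl⟩
      show z * s * z⁻¹ ∈ (S : Subgroup G)
      rcases hdec s hs with h | h
      · exact hU (hz s h)
      · have h1 := mul_mem htS (hU (hz _ h))
        have e : t * (z * (t * s) * z⁻¹) = z * s * z⁻¹ := by
          calc t * (z * (t * s) * z⁻¹) = t * (z * t) * s * z⁻¹ := by group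
            _ = (t * t) * z * s * z⁻¹ := by rw [hzt.eq]; group
            _ = z * s * z⁻¹ := by rw [htt, one_mul]
        rwa [e] at h1
    exact mem_normalizer_iff_map_conj_eq.2
      (eq_of_le_of_card_ge hle (card_map_of_injective (MulAut.conj z).injective).ge)
  let Conj : G → Prop := fun s => ∃ n ∈ N, n * t * n⁻¹ = s
  have htrans : ∀ {a b : G}, Conj a → ∀ n ∈ N, n * a * n⁻¹ = b → Conj b := by
    rintro a b ⟨m, hm, rfl⟩ n hn rfl
    exact ⟨n * m, mul_mem hn hm, by group⟩
  have hzk : ∀ k : ℕ, z ^ k * t * (z ^ k)⁻¹ = t := fun k => by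
    rw [(hzt.pow_left k).eq, mul_inv_cancel_right]
  have hmem : ∀ {s : G}, Conj s → s ∈ (S : Subgroup G) ∧ s ≠ 1 := by
    rintro s ⟨n, hn, rfl⟩
    exact ⟨(mem_normalizer_iff.1 hn t).1 htS, fun e => ht1 (conj_eq_one_iff.1 e)⟩
  have hUU : ∀ u ∈ U, u ≠ 1 → Conj u → ∀ v ∈ U, v ≠ 1 → Conj v := by
    intro u hu hu1 hc v hv hv1
    obtain ⟨k, hk⟩ := htr u hu v hv hu1 hv1
    exact htrans hc _ (pow_mem hzS k) hk
  have hTT : ∀ u ∈ U, u ≠ 1 → Conj (t * u) → ∀ v ∈ U, v ≠ 1 → Conj (t * v) := by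
    intro u hu hu1 hc v hv hv1
    obtain ⟨k, hk⟩ := htr u hu v hv hu1 hv1
    refine htrans hc _ (pow_mem hzS k) ?_
    calc z ^ k * (t * u) * (z ^ k)⁻¹ = z ^ k * t * (z ^ k)⁻¹ * (z ^ k * u * (z ^ k)⁻¹) := by group
      _ = t * v := by rw [hzk, hk]
  -- the two cases left over are impossible
  have hA : ∃ u ∈ U, u ≠ 1 ∧ Conj u := by
    by_contra h
    push Not at h
    obtain ⟨n, hn, u, hu, hnu⟩ := index_two_not_invariant hperf S hS
      (lt_of_le_of_ne hU fun e => htU (e ▸ htS)) htt hdec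
    have hu1 : u ≠ 1 := fun e => hnu (by rw [e]; simp)
    have hv : n * u * n⁻¹ ∈ (S : Subgroup G) := (mem_normalizer_iff.1 hn u).1 (hU hu)
    have hw := (hdec _ hv).resolve_left hnu
    by_cases hT : Conj (n * u * n⁻¹)
    · exact h u hu hu1 (htrans hT n⁻¹ (inv_mem hn) (by group))
    · by_cases hw1 : t * (n * u * n⁻¹) = 1
      · refine hT ⟨1, one_mem _, ?_⟩
        rw [one_mul, inv_one, mul_one, eq_inv_of_mul_eq_one_right hw1,
          inv_eq_of_mul_eq_one_right htt]
      · -- nothing but `t` is conjugate to `t`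
        obtain ⟨m, hm, hmt⟩ := not_central hperf S hS htS ht1
        have hc : Conj (m * t * m⁻¹) := ⟨m, hm, rfl⟩
        rcases hdec _ (hmem hc).1 with h3 | h3
        · exact h _ h3 (hmem hc).2 hc
        · have h31 : t * (m * t * m⁻¹) ≠ 1 := fun e => hmt (by
            rw [eq_inv_of_mul_eq_one_right e, inv_eq_of_mul_eq_one_right htt])
          refine hT ?_
          have h5 := hTT _ h3 h31 (by rwa [← mul_assoc, htt, one_mul]) _ hw hw1
          rwa [← mul_assoc, htt, one_mul] at h5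
  obtain ⟨u₀, hu₀, hu₀1, hcu⟩ := hA
  have hB : ∃ u ∈ U, u ≠ 1 ∧ Conj (t * u) := by
    by_contra h
    push Not at h
    obtain ⟨u, hu, hu1, v, hv, hv1, huv⟩ : ∃ u ∈ U, u ≠ 1 ∧ ∃ v ∈ U, v ≠ 1 ∧ u ≠ v := by
      obtain ⟨v, hv, hv1⟩ : ∃ v ∈ U, v ≠ 1 := ⟨u₀, hu₀, hu₀1⟩
      by_contra hne
      push Not at hne
      have : Nat.card U ≤ 2 := by
        refine (Nat.card_le_card_of_injective (β := Bool)
          (fun x : U => decide ((x : G) = 1)) fun x y e => ?_).trans (by simp)
        simp only [decide_eq_decide] at e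
        by_cases hx : (x : G) = 1
        · exact Subtype.ext (hx.trans (e.1 hx).symm)
        · exact Subtype.ext (hne x x.2 hx y y.2 fun hy => hx (e.2 hy))
      omega
    have hnot : ∀ n ∈ N, ∀ w ∈ U, w ≠ 1 → ∃ w' ∈ U, w' ≠ 1 ∧ n * (t * w) * n⁻¹ = t * w' := by
      intro n hn w hw hw1
      have hS' : n * (t * w) * n⁻¹ ∈ (S : Subgroup G) :=
        (mem_normalizer_iff.1 hn _).1 (mul_mem htS (hU hw))
      have hnc : ¬ Conj (n * (t * w) * n⁻¹) := fun hc =>
        h w hw hw1 (htrans hc n⁻¹ (inv_mem hn) (by group))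
      have htw1 : n * (t * w) * n⁻¹ ≠ 1 := fun e => by
        have e1 := conj_eq_one_iff.1 e
        exact htU ((eq_inv_of_mul_eq_one_left e1) ▸ inv_mem hw)
      rcases hdec _ hS' with h2 | h2
      · exact absurd (hUU u₀ hu₀ hu₀1 hcu _ h2 htw1) hnc
      · refine ⟨_, h2, fun e => hnc ⟨1, one_mem _, ?_⟩, by rw [← mul_assoc t t, htt, one_mul]⟩
        rw [one_mul, inv_one, mul_one, eq_inv_of_mul_eq_one_right e,
          inv_eq_of_mul_eq_one_right htt]
    have hUinv : ∀ n ∈ N, ∀ w ∈ U, n * w * n⁻¹ ∈ U := by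
      intro n hn w hw
      by_cases hw1 : w = 1
      · rw [hw1]; simp
      obtain ⟨x, hx, hx1, hxw⟩ : ∃ x ∈ U, x ≠ 1 ∧ x * w ≠ 1 := by
        by_cases hwu : u * w = 1
        · refine ⟨v, hv, hv1, fun e => huv ?_⟩
          rw [eq_inv_of_mul_eq_one_left hwu, eq_inv_of_mul_eq_one_left e]
        · exact ⟨u, hu, hu1, hwu⟩
      obtain ⟨a, ha, -, e1⟩ := hnot n hn x hx hx1
      obtain ⟨b, hb, -, e2⟩ := hnot n hn (x * w) (mul_mem hx hw) hxw
      have key : n * w * n⁻¹ = (n * (t * x) * n⁻¹)⁻¹ * (n * (t * (x * w)) * n⁻¹) := by group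
      rw [key, e1, e2, show (t * a)⁻¹ * (t * b) = a⁻¹ * b by group]
      exact mul_mem (inv_mem ha) hb
    obtain ⟨n, hn, w, hw, hnw⟩ := index_two_not_invariant hperf S hS
      (lt_of_le_of_ne hU fun e => htU (e ▸ htS)) htt hdec
    exact hnw (hUinv n hn w hw)
  obtain ⟨u₁, hu₁, hu₁1, hc₁⟩ := hB
  intro s hs hs1
  rcases hdec s hs with h | h
  · exact hUU u₀ hu₀ hu₀1 hcu s h hs1
  · by_cases h1 : t * s = 1
    · refine ⟨1, one_mem _, ?_⟩
      rw [one_mul, inv_one, mul_one, eq_inv_of_mul_eq_one_right h1, inv_eq_of_mul_eq_one_right htt]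
    · have h5 := hTT u₁ hu₁ hu₁1 hc₁ _ h h1
      rwa [← mul_assoc, htt, one_mul] at h5

section Centralizer

variable {F : Type*} [Field F] [Fintype F]

local notation "PSL" => Matrix.ProjectiveSpecialLinearGroup (Fin 2) F

/-- The nontrivial element of `Z₂`. -/
theorem gen_two_facts : Multiplicative.ofAdd (1 : ZMod 2) ≠ 1 ∧
    Multiplicative.ofAdd (1 : ZMod 2) * Multiplicative.ofAdd 1 = 1 := by decide

theorem gen_two : ∀ x : Multiplicative (ZMod 2), x ≠ 1 → x = Multiplicative.ofAdd 1 := by decide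

/-- In `C(t) ≅ 2 × L₂(q)` the involution is the central factor. -/
theorem image_t {t : G} (ht : orderOf t = 2)
    (e : centralizer ({t} : Set G) ≃* Multiplicative (ZMod 2) × PSL) :
    e ⟨t, mem_centralizer_singleton_iff.2 rfl⟩ = (Multiplicative.ofAdd 1, 1) := by
  set tC : centralizer ({t} : Set G) := ⟨t, mem_centralizer_singleton_iff.2 rfl⟩
  have hc : ∀ x, e tC * x = x * e tC := fun x => by
    obtain ⟨y, rfl⟩ := e.surjective x
    rw [← map_mul, ← map_mul]
    exact congrArg e (Subtype.ext (mem_centralizer_singleton_iff.1 y.2).symm)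
  have h2 : (e tC).2 ∈ center PSL := mem_center_iff.2 fun x => by
    have := congrArg Prod.snd (hc (1, x))
    simpa using this.symm
  have h21 : (e tC).2 = 1 := by
    have hz : center PSL = ⊥ := CfsgLib.Classical.LowRank.psl2_center
    rw [hz, mem_bot] at h2
    exact h2
  have h11 : (e tC).1 ≠ 1 := fun h => by
    have : e tC = 1 := Prod.ext h h21
    rw [MulEquiv.map_eq_one_iff] at this
    have ht1 : t = 1 := congrArg Subtype.val this
    rw [ht1, orderOf_one] at ht
    norm_num at ht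
  exact Prod.ext (gen_two _ h11) h21

/-- The group is not commutative, so it is perfect. -/
theorem perfect [IsSimpleGroup G] {t : G} (ht : orderOf t = 2) (hq : 3 ≤ Fintype.card F)
    (hC : Nonempty (centralizer ({t} : Set G) ≃* Multiplicative (ZMod 2) × PSL)) :
    ¬ IsMulCommutative G ∧ commutator G = ⊤ := by
  obtain ⟨e⟩ := hC
  have hna : ¬ IsMulCommutative G := fun hc => by
    have hC' : centralizer ({t} : Set G) = ⊤ := top_le_iff.1 fun x _ =>
      mem_centralizer_singleton_iff.2 (hc.is_comm.comm x t)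
    letI : CommGroup G := { ‹Group G› with mul_comm := hc.is_comm.comm }
    have hp : (Nat.card G).Prime := IsSimpleGroup.prime_card
    have hcard : Nat.card (centralizer ({t} : Set G)) = 2 * Nat.card PSL := by
      rw [Nat.card_congr e.toEquiv, Nat.card_prod]; simp
    rw [hC', card_top] at hcard
    have h1 : 1 < Nat.card PSL := by
      by_contra hle
      have h0 := CfsgLib.Perm.ZGroup.card_psl2_gcd (F := F)
      have hle' : Nat.card PSL = 1 := by have := Nat.card_pos (α := PSL); omega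
      rw [hle', mul_one] at h0
      have hg : Nat.gcd 2 (Fintype.card F - 1) ≤ 2 := Nat.le_of_dvd two_pos (Nat.gcd_dvd_left _ _)
      have h8 : 3 * (2 * 4) ≤ Fintype.card F * ((Fintype.card F - 1) * (Fintype.card F + 1)) :=
        Nat.mul_le_mul hq (Nat.mul_le_mul (by omega) (by omega))
      omega
    rw [hcard] at hp
    exact Nat.not_prime_mul (by norm_num) h1.ne' hp
  refine ⟨hna, ((inferInstance : (commutator G).Normal).eq_bot_or_eq_top).resolve_left fun h => hna ?_⟩
  exact ⟨⟨fun a b => commutatorElement_eq_one_iff_mul_comm.1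
    (mem_bot.1 (h ▸ commutator_mem_commutator (mem_top a) (mem_top b)))⟩⟩

/-- All involutions are conjugate when the Sylow 2-subgroups of `L₂(q)` are elementary abelian
with a transitive normalising element. -/
theorem oneClass [IsSimpleGroup G] (hab : ∀ P : Sylow 2 G, ∀ a b : P, a * b = b * a)
    (hq : 3 ≤ Fintype.card F) {t : G} (ht : orderOf t = 2)
    (hC : Nonempty (centralizer ({t} : Set G) ≃* Multiplicative (ZMod 2) × PSL))
    {P : Sylow 2 PSL} {z₀ : PSL} (hP : ElemData (P : Subgroup PSL) z₀) {s : G}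
    (hs : orderOf s = 2) : IsConj t s := by
  classical
  haveI : Fact (Nat.Prime 2) := ⟨Nat.prime_two⟩
  obtain ⟨-, hperf⟩ := perfect ht hq hC
  obtain ⟨e⟩ := hC
  set C := centralizer ({t} : Set G) with hCdef
  let j : PSL →* G := C.subtype.comp (e.symm.toMonoidHom.comp (MonoidHom.inr _ _))
  have hj : Function.Injective j := C.subtype_injective.comp
    (e.symm.injective.comp fun a b h => congrArg Prod.snd h)
  set U := (P : Subgroup PSL).map j with hUdef
  have hjt : ∀ x, Commute (j x) t := fun x => mem_centralizer_singleton_iff.1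
    ((e.symm.toMonoidHom.comp (MonoidHom.inr _ _)) x).2
  have htt : t * t = 1 := by rw [← pow_two, ← ht, pow_orderOf_eq_one]
  have hzp : IsPGroup 2 (zpowers t) :=
    IsPGroup.of_card (n := 1) (by rw [Nat.card_zpowers, ht, pow_one])
  have hQ : IsPGroup 2 (U ⊔ zpowers t : Subgroup G) := by
    refine (P.2.map j).to_sup_of_normal_left' hzp
      (zpowers_le.2 (mem_normalizer_iff.2 fun w => ⟨fun hw => ?_, fun hw => ?_⟩))
    · obtain ⟨x, hx, rfl⟩ := hw
      rw [← (hjt x).eq, mul_inv_cancel_right]; exact ⟨x, hx, rfl⟩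
    · obtain ⟨x, hx, hxw⟩ := hw
      have : w = j x := by
        calc w = t⁻¹ * (t * w * t⁻¹) * t := by group
          _ = j x := by rw [← hxw, mul_assoc, (hjt x).eq, inv_mul_cancel_left]
      rw [this]; exact ⟨x, hx, rfl⟩
  obtain ⟨S, hQS, hSC⟩ := exists_sylow_le_centralizer hab hQ (mem_sup_right (mem_zpowers t))
  have htS : t ∈ (S : Subgroup G) := hQS (mem_sup_right (mem_zpowers t))
  have hUS : U ≤ (S : Subgroup G) := le_sup_left.trans hQS
  have he := image_t ht e
  have htU : t ∉ U := by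
    rintro ⟨x, -, hx⟩
    have h1 : e.symm (1, x) = ⟨t, mem_centralizer_singleton_iff.2 rfl⟩ := Subtype.ext hx
    have h2 := congrArg e h1
    rw [e.apply_symm_apply, he] at h2
    exact absurd (congrArg Prod.fst h2).symm gen_two_facts.1
  have hdec : ∀ s ∈ (S : Subgroup G), s ∈ U ∨ t * s ∈ U := by
    let π : C →* PSL := (MonoidHom.snd _ _).comp e.toMonoidHom
    have himg : (((S : Subgroup G).subgroupOf C).map π) ≤ (P : Subgroup PSL) := by
      have h2 : IsPGroup 2 ((((S : Subgroup G).subgroupOf C)).map π) :=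
        (S.2.comap_of_injective C.subtype C.subtype_injective).map π
      have hle : (P : Subgroup PSL) ≤ (((S : Subgroup G).subgroupOf C)).map π := fun x hx =>
        ⟨e.symm (1, x), hUS ⟨x, hx, rfl⟩, by simp [π]⟩
      rw [P.3 h2 hle]
    intro s hs
    have hx : (e ⟨s, hSC hs⟩).2 ∈ (P : Subgroup PSL) := himg ⟨⟨s, hSC hs⟩, hs, rfl⟩
    by_cases h1 : (e ⟨s, hSC hs⟩).1 = 1
    · left
      refine ⟨_, hx, ?_⟩
      show ((e.symm (1, (e ⟨s, hSC hs⟩).2) : C) : G) = s
      rw [← h1, e.symm_apply_apply]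
    · right
      refine ⟨_, hx, ?_⟩
      have h2 : ((1, (e ⟨s, hSC hs⟩).2) : Multiplicative (ZMod 2) × PSL) =
          e (⟨t, mem_centralizer_singleton_iff.2 rfl⟩ * ⟨s, hSC hs⟩) := by
        rw [map_mul, he]
        refine Prod.ext ?_ (by simp)
        simp only [Prod.fst_mul, gen_two _ h1]
        exact gen_two_facts.2.symm
      show ((e.symm (1, (e ⟨s, hSC hs⟩).2) : C) : G) = t * s
      rw [h2, e.symm_apply_apply]
      rfl
  have hfus := fusion_transitive hperf S ⟨⟨hab S⟩⟩ hUS
    (by rw [hUdef, card_map_of_injective hj]; exact hP.card) htS htt htU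
    hdec (hjt z₀)
    (by rintro _ ⟨x, hx, rfl⟩; exact ⟨_, hP.conj x hx, by rw [map_mul, map_mul, map_inv]⟩)
    (by
      rintro _ ⟨x, hx, rfl⟩ _ ⟨y, hy, rfl⟩ hx1 hy1
      obtain ⟨k, hk⟩ := hP.trans x hx y hy (fun h => hx1 (h ▸ map_one j)) (fun h => hy1 (h ▸ map_one j))
      exact ⟨k, by rw [← hk, map_mul, map_mul, map_inv, map_pow]⟩)
  obtain ⟨T, hT⟩ := (IsPGroup.of_card (n := 1) (show Nat.card (zpowers s) = 2 ^ 1 by
    rw [Nat.card_zpowers, hs, pow_one])).exists_le_sylow
  obtain ⟨g, rfl⟩ := MulAction.exists_smul_eq G S T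
  have hsT := hT (mem_zpowers s)
  rw [Sylow.coe_subgroup_smul, mem_pointwise_smul_iff_inv_smul_mem] at hsT
  have hsS : g⁻¹ * s * g ∈ (S : Subgroup G) := by simpa [mul_assoc] using hsT
  obtain ⟨n, -, hn⟩ := hfus _ hsS (fun h => by
    have h1 : s = 1 := by
      calc s = g * (g⁻¹ * s * g) * g⁻¹ := by group
        _ = 1 := by rw [h]; group
    rw [h1, orderOf_one] at hs; norm_num at hs)
  exact isConj_iff.2 ⟨g * n, by
    calc g * n * t * (g * n)⁻¹ = g * (n * t * n⁻¹) * g⁻¹ := by group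
      _ = s := by rw [hn]; group⟩

end Centralizer

end CfsgLib.Recognition.ReeCentralizer
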