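import Cfsg.Agent.Lib.Recognition.ReeCentralizer.Section
import Cfsg.Agent.Lib.Recognition.ReeCentralizer.PSLBlock
import Cfsg.Agent.Lib.CharDeep.Galois.CharAut

/-!
# Field automorphisms on the irreducible characters

An automorphism `σ` of `ℂ` permutes the irreducible characters, fixing degrees and values at
involutions and commuting with `lift`; the one exchanging `e₁` and `e₂` exchanges the second and third
coordinate of the rows.
-/

set_option autoImplicit false
set_option linter.unusedSectionVars false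
set_option linter.style.haveILetI false

namespace CfsgLib.Recognition.ReeCentralizer

open Subgroup Cfsg CfsgLib.Blocks
open scoped _root_.Classical ComplexConjugate

universe u v

variable {G : Type u} [Group G]

section Finite

variable [Finite G] (σ : ℂ ≃+* ℂ)

/-- The permutation of the irreducible characters by `σ`. -/
noncomputable def galPerm : Equiv.Perm (IrrCharacter G) where
  toFun χ := ⟨fun g => σ (χ.1 g), CharDeep.Galois.isIrrCharacter_map σ.toRingHom χ.2⟩
  invFun χ := ⟨fun g => σ.symm (χ.1 g), CharDeep.Galois.isIrrCharacter_map σ.symm.toRingHom χ.2⟩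
  left_inv χ := Subtype.ext (funext fun g => σ.symm_apply_apply (χ.1 g))
  right_inv χ := Subtype.ext (funext fun g => σ.apply_symm_apply (χ.1 g))

theorem galPerm_apply (χ : IrrCharacter G) (g : G) : (galPerm σ χ).1 g = σ (χ.1 g) := rfl

theorem galPerm_trivChar : galPerm σ (trivChar G) = trivChar G :=
  haveI := Fintype.ofFinite G
  Subtype.ext (funext fun g => by rw [galPerm_apply, trivChar_apply, map_one])

theorem galPerm_apply_one (χ : IrrCharacter G) : (galPerm σ χ).1 1 = χ.1 1 := by
  haveI := Fintype.ofFinite G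
  rw [galPerm_apply, irr_one_eq, map_natCast]

theorem charDegree_galPerm (χ : IrrCharacter G) :
    charDegree (galPerm σ χ).1 = charDegree χ.1 := by
  simp only [charDegree, galPerm_apply_one]

theorem galPerm_apply_of_int (χ : IrrCharacter G) {g : G} {z : ℤ} (h : χ.1 g = z) :
    (galPerm σ χ).1 g = z := by
  rw [galPerm_apply, h, map_intCast]

theorem galPerm_apply_of_sq {g : G} (hg : g * g = 1) (χ : IrrCharacter G) :
    (galPerm σ χ).1 g = χ.1 g := by
  rw [galPerm_apply]
  refine Char.IsCharacter.map_apply_eq (Char.IsIrrCharacter.isCharacter χ.2) g σ.toRingHom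
    (RingHom.id ℂ) fun r hr => ?_
  have h2 : r ^ 2 = 1 := by
    obtain ⟨c, hc⟩ := orderOf_dvd_of_pow_eq_one (show g ^ 2 = 1 by rw [sq, hg])
    rw [hc, pow_mul, hr, one_pow]
  rcases sq_eq_one_iff.1 h2 with rfl | rfl <;> simp

end Finite

theorem isCharacter_map (σ : ℂ →+* ℂ) {a : G → ℂ} (ha : IsCharacter G a) :
    IsCharacter G fun g => σ (a g) := by
  obtain ⟨n, ρ, rfl⟩ := ha
  exact ⟨n, CharDeep.Galois.mapRep σ ρ, funext fun g => CharDeep.Galois.trace_mapRep σ ρ g⟩

theorem isGeneralizedCharacter_map (σ : ℂ →+* ℂ) {θ : G → ℂ} (hθ : IsGeneralizedCharacter G θ) :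
    IsGeneralizedCharacter G fun g => σ (θ g) := by
  obtain ⟨a, b, ha, hb, rfl⟩ := hθ
  exact ⟨_, _, isCharacter_map σ ha, isCharacter_map σ hb, funext fun g => by simp⟩

theorem conj_gc_apply [Finite G] {θ : G → ℂ} (hθ : IsGeneralizedCharacter G θ) (g : G) :
    conj (θ g) = θ g⁻¹ := by
  obtain ⟨a, b, ha, hb, rfl⟩ := hθ
  rw [Pi.sub_apply, Pi.sub_apply, map_sub, Char.IsCharacter.apply_inv ha,
    Char.IsCharacter.apply_inv hb]

/-- Multiplicities in a generalized character are fixed. -/
theorem classInner_galPerm [Fintype G] (σ : ℂ ≃+* ℂ) (χ : IrrCharacter G) {θ : G → ℂ}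
    (hθ : IsGeneralizedCharacter G θ) :
    classInner (galPerm σ χ).1 (fun g => σ (θ g)) = classInner χ.1 θ := by
  obtain ⟨m, hm⟩ := Char.IsGeneralizedCharacter.classInner_int
    (Char.IsCharacter.isGeneralizedCharacter (Char.IsIrrCharacter.isCharacter χ.2)) hθ
  have hθ' : ∀ g, σ (θ g⁻¹) = conj (σ (θ g)) := fun g =>
    (conj_gc_apply (isGeneralizedCharacter_map σ.toRingHom hθ) g).symm
  have h := congrArg σ hm
  rw [map_intCast, ← hm] at h
  rw [← h]
  simp only [classInner, map_mul, map_inv₀, map_natCast, map_sum]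
  congr 1
  refine Finset.sum_congr rfl fun g _ => ?_
  rw [galPerm_apply, conj_gc_apply hθ, hθ']

namespace Setting

variable {F : Type v} [Field F] [Fintype F] {t : G} (S : Setting G F t) [Fintype G]
include S

theorem map_psi (σ : ℂ →+* ℂ) (φ : PSL F → ℂ) (c : ↥(centralizer ({t} : Set G))) :
    σ (S.psi φ c) = S.psi (fun y => σ (φ y)) c := by
  obtain ⟨y, e | e⟩ := S.exists_eq c.2
  · obtain rfl : c = ⟨S.inj y, S.inj_mem y⟩ := Subtype.ext e
    rw [S.psi_inj, S.psi_inj, map_zero]
  · obtain rfl : c = ⟨t * S.inj y, S.tinj_mem y⟩ := Subtype.ext e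
    rw [S.psi_tinj, S.psi_tinj, map_mul, map_ofNat]

/-- `lift` commutes with the field automorphisms. -/
theorem map_lift (σ : ℂ →+* ℂ) (φ : PSL F → ℂ) (g : G) :
    σ (S.lift φ g) = S.lift (fun y => σ (φ y)) g := by
  simp only [lift, Char.indFun_def, map_mul, map_inv₀, map_natCast, map_sum]
  congr 1
  refine Finset.sum_congr rfl fun x _ => ?_
  by_cases hx : x⁻¹ * g * x ∈ centralizer ({t} : Set G)
  · rw [Char.extendByZero_apply_mem _ _ hx, Char.extendByZero_apply_mem _ _ hx, S.map_psi]
  · rw [Char.extendByZero_apply_notMem _ _ hx, Char.extendByZero_apply_notMem _ _ hx, map_zero]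

/-- The automorphism exchanging `e₁` and `e₂` exchanges the second and third coordinate of the
rows. -/
theorem row_galPerm {p q w v : ℕ} {ε : ℤ} (B : PBlock (PSL F) p q w v ε) (σ : ℂ ≃+* ℂ)
    (hσ : ∀ x : PSL F, σ ((B.e₁ : PSL F → ℂ) x) = (B.e₂ : PSL F → ℂ) x ∧
      σ ((B.e₂ : PSL F → ℂ) x) = (B.e₁ : PSL F → ℂ) x ∧
      σ ((B.s : PSL F → ℂ) x) = (B.s : PSL F → ℂ) x)
    (χ : IrrCharacter G) :
    classInner (galPerm σ χ).1 (S.lift (B.phi 0)) = classInner χ.1 (S.lift (B.phi 0)) ∧
    classInner (galPerm σ χ).1 (S.lift (B.phi 1)) = classInner χ.1 (S.lift (B.phi 2)) ∧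
    classInner (galPerm σ χ).1 (S.lift (B.phi 2)) = classInner χ.1 (S.lift (B.phi 1)) := by
  have key : ∀ i j : Fin 3, B.sgn i = B.sgn j →
      (∀ x, σ ((B.chi i : PSL F → ℂ) x) = (B.chi j : PSL F → ℂ) x) →
      classInner (galPerm σ χ).1 (S.lift (B.phi j)) = classInner χ.1 (S.lift (B.phi i)) := by
    intro i j hs hx
    rw [← classInner_galPerm σ χ (S.isGeneralizedCharacter_lift (B.isGeneralizedCharacter_phi i))]
    refine congrArg (classInner (galPerm σ χ).1) (funext fun g => ?_)
    rw [show σ (S.lift (B.phi i) g) = S.lift (fun y => σ (B.phi i y)) g from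
      S.map_lift σ.toRingHom _ g]
    refine congrFun (congrArg S.lift (funext fun y => ?_)) g
    rw [B.phi_apply, B.phi_apply, map_sub, map_one, map_mul, map_intCast, hx, hs]
  exact ⟨key 0 0 rfl fun x => (hσ x).2.2, key 2 1 rfl fun x => (hσ x).2.1,
    key 1 2 rfl fun x => (hσ x).1⟩

end Setting

end CfsgLib.Recognition.ReeCentralizer
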