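import Cfsg.Agent.Lib.Recognition.ReeCentralizer.FourGroup
import Cfsg.Agent.S2508

/-!
# Elements of order three in `C(t) = 2 × L₂(q)`

If `3` divides the torus order `w`, all subgroups of order three are conjugate in `C(t)`; otherwise
the centraliser in `C(t)` of an element of order three has order `2n` with `n` odd and `w ∣ n² - 1`.
-/

set_option autoImplicit false
set_option linter.unusedSectionVars false
set_option linter.style.haveILetI false

namespace CfsgLib.Recognition.ReeCentralizer

open Subgroup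

variable {G : Type*} [Group G] [Finite G] {F : Type*} [Field F] [Fintype F]

local notation "PSL" => Matrix.ProjectiveSpecialLinearGroup (Fin 2) F

/-- Elements of order three of `C(t)` lie in the `L₂(q)` factor. -/
theorem fst_of_three {t g : G} (e : centralizer ({t} : Set G) ≃* Multiplicative (ZMod 2) × PSL)
    (hg : Commute g t) (h3 : orderOf g = 3) :
    (e ⟨g, mem_centralizer_singleton_iff.2 hg.eq⟩).1 = 1 ∧
      orderOf (e ⟨g, mem_centralizer_singleton_iff.2 hg.eq⟩).2 = 3 := by
  have hgC : g ∈ centralizer ({t} : Set G) := mem_centralizer_singleton_iff.2 hg.eq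
  set p := e ⟨g, hgC⟩ with hp
  have ho : orderOf p = 3 := by rw [hp, MulEquiv.orderOf_eq, Subgroup.orderOf_mk, h3]
  have hp3 : p ^ 3 = 1 := by rw [← ho, pow_orderOf_eq_one]
  have h1 : p.1 = 1 := by
    have h := congrArg Prod.fst hp3
    simp only [Prod.pow_fst, Prod.fst_one] at h
    rw [pow_succ, (two_sq p.1).2, one_mul] at h
    exact h
  refine ⟨h1, orderOf_eq_prime ?_ fun h => ?_⟩
  · have h' := congrArg Prod.snd hp3
    simpa using h'
  · have : p = 1 := Prod.ext h1 h
    rw [this, orderOf_one] at ho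
    norm_num at ho

/-- In `C(t)` conjugation fixing a four group containing `t` fixes it pointwise. -/
theorem no_swap {t g v : G} (e : centralizer ({t} : Set G) ≃* Multiplicative (ZMod 2) × PSL)
    (ht : orderOf t = 2) (hg : Commute g t) (hv : Commute v t) : g * v * g⁻¹ ≠ t * v := by
  intro h
  have hgC : g ∈ (centralizer ({t} : Set G)) := mem_centralizer_singleton_iff.2 hg.eq
  have hvC : v ∈ (centralizer ({t} : Set G)) := mem_centralizer_singleton_iff.2 hv.eq
  have htC : t ∈ (centralizer ({t} : Set G)) := mem_centralizer_singleton_iff.2 rfl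
  have h1 : (⟨g, hgC⟩ : (centralizer ({t} : Set G))) * ⟨v, hvC⟩ * ⟨g, hgC⟩⁻¹ = ⟨t, htC⟩ * ⟨v, hvC⟩ := Subtype.ext h
  have h2 := congrArg (fun c => (e c).1) h1
  simp only [map_mul, map_inv, Prod.fst_mul, Prod.fst_inv] at h2
  rw [mul_inv_cancel_comm, image_t ht e] at h2
  exact gen_two_facts.1 (left_eq_mul.1 (h2.trans (mul_comm _ _))).symm.symm

theorem eq_of_card_eq_in_cyclic {L : Type*} [Group L] [Finite L] {a : L} {H K : Subgroup L}
    (hH : H ≤ zpowers a) (hK : K ≤ zpowers a) (h : Nat.card H = Nat.card K) : H = K := by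
  classical
  refine eq_of_le_of_card_ge ?_ h.ge
  intro g hg
  haveI : Fintype (zpowers a) := Fintype.ofFinite _
  set n := Nat.card K with hn
  have hle : ({z : zpowers a | z ^ n = 1} : Finset (zpowers a)).card ≤ n :=
    IsCyclic.card_pow_eq_one_le Nat.card_pos
  have hsub : ((K.subgroupOf (zpowers a)) : Set (zpowers a)).toFinset ⊆
      ({z : zpowers a | z ^ n = 1} : Finset (zpowers a)) := by
    intro z hz
    simp only [Set.mem_toFinset, SetLike.mem_coe, mem_subgroupOf] at hz
    simp only [Finset.mem_filter, Finset.mem_univ, true_and]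
    exact Subtype.ext (orderOf_dvd_iff_pow_eq_one.1 (K.orderOf_dvd_natCard hz))
  have heq := Finset.eq_of_subset_of_card_le hsub (hle.trans (le_of_eq (by
    rw [Set.toFinset_card, hn, ← Nat.card_congr (subgroupOfEquivOfLe hK).toEquiv,
      Nat.card_eq_fintype_card]; rfl)))
  have : (⟨g, hH hg⟩ : zpowers a) ∈ ({z : zpowers a | z ^ n = 1} : Finset (zpowers a)) := by
    simp only [Finset.mem_filter, Finset.mem_univ, true_and]
    exact Subtype.ext (orderOf_dvd_iff_pow_eq_one.1 (h ▸ H.orderOf_dvd_natCard hg))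
  rw [← heq] at this
  simpa [mem_subgroupOf] using this

/-- If `3 ∣ w`, two elements of order three of `C(t)` generate conjugate subgroups. -/
theorem three_conj {t : G} (hS : Setting G F t) (h3w : 3 ∣ torusOrder (Fintype.card F)) {g y : G}
    (hg : Commute g t) (hg3 : orderOf g = 3) (hy : Commute y t) (hy3 : orderOf y = 3) :
    ∃ h : G, h * g * h⁻¹ = y ∨ h * g * h⁻¹ = y⁻¹ := by
  classical
  haveI : Fact (Nat.Prime 3) := ⟨Nat.prime_three⟩
  obtain ⟨-, -, e, hmod, hlarge⟩ := hS
  have hq : 3 < Fintype.card F := by omega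
  set w := torusOrder (Fintype.card F) with hw
  obtain ⟨hg1, hgo⟩ := fst_of_three e hg hg3
  obtain ⟨hy1, hyo⟩ := fst_of_three e hy hy3
  set gc : (centralizer ({t} : Set G)) := ⟨g, mem_centralizer_singleton_iff.2 hg.eq⟩
  set yc : (centralizer ({t} : Set G)) := ⟨y, mem_centralizer_singleton_iff.2 hy.eq⟩
  -- a torus contains a Sylow 3-subgroup of `L₂(q)`
  obtain ⟨u, hu⟩ := exists_prime_orderOf_dvd_card' (G := PSL) 2
    (by haveI : Fact (Nat.Prime 2) := ⟨Nat.prime_two⟩; exact two_dvd_psl hq)
  obtain ⟨a, ha, -⟩ := exists_torus_gen hmod hq hu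
  have hc := CfsgLib.Perm.ZGroup.card_psl2_gcd (F := F)
  have hqodd : Fintype.card F % 2 = 1 := by omega
  rw [show Nat.gcd 2 (Fintype.card F - 1) = 2 from Nat.gcd_eq_left (by omega)] at hc
  have hw4 : 4 * w = Fintype.card F + 1 ∨ 4 * w + 1 = Fintype.card F := by
    rw [hw, torusOrder]; split_ifs <;> omega
  have h3q : ¬ 3 ∣ Fintype.card F := by
    intro h
    obtain ⟨k, hk⟩ := h3w
    rcases hw4 with h' | h' <;> omega
  have hidx : ¬ 3 ∣ (zpowers a).index := by
    intro h
    have hmul := (zpowers a).card_mul_index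
    rw [Nat.card_zpowers, ha] at hmul
    obtain ⟨k, hk⟩ := h3w
    rcases hw4 with h' | h'
    · have he : (zpowers a).index = Fintype.card F * (Fintype.card F - 1) := by
        refine Nat.eq_of_mul_eq_mul_left (show 0 < 4 * w by omega) ?_
        calc 4 * w * (zpowers a).index = 2 * (2 * w * (zpowers a).index) := by ring
          _ = (Fintype.card F - 1) * (Fintype.card F + 1) * Fintype.card F := by rw [hmul, hc]; ring
          _ = _ := by rw [h']; ring
      rw [he] at h
      rcases (Nat.prime_three.dvd_mul).1 h with h | h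
      · exact h3q h
      · omega
    · have he : (zpowers a).index = Fintype.card F * (Fintype.card F + 1) := by
        refine Nat.eq_of_mul_eq_mul_left (show 0 < 4 * w by omega) ?_
        calc 4 * w * (zpowers a).index = 2 * (2 * w * (zpowers a).index) := by ring
          _ = (Fintype.card F - 1) * (Fintype.card F + 1) * Fintype.card F := by rw [hmul, hc]; ring
          _ = _ := by rw [show Fintype.card F - 1 = 4 * w by omega]; ring
      rw [he] at h
      rcases (Nat.prime_three.dvd_mul).1 h with h | h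
      · exact h3q h
      · omega
  obtain ⟨R⟩ : Nonempty (Sylow 3 (zpowers a)) := inferInstance
  have hR : ¬ 3 ∣ ((R : Subgroup (zpowers a)).map (zpowers a).subtype).index := by
    rw [index_map_subtype]
    intro h
    rcases (Nat.prime_three.dvd_mul).1 h with h | h
    · haveI : (R : Subgroup (zpowers a)).Normal :=
        ⟨fun z hz g => by
          rw [(inferInstance : IsMulCommutative (zpowers a)).is_comm.comm g z, mul_inv_cancel_right]; exact hz⟩
      exact R.not_dvd_index h
    · exact hidx h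
  set Q := (R.2.map (zpowers a).subtype).toSylow hR with hQ
  have hinto : ∀ σ : PSL, orderOf σ = 3 → ∃ h : PSL, h * σ * h⁻¹ ∈ zpowers a ∧
      orderOf (h * σ * h⁻¹) = 3 := by
    intro σ hσ
    obtain ⟨T, hT⟩ := (IsPGroup.of_card (n := 1) (show Nat.card (zpowers σ) = 3 ^ 1 by
      rw [Nat.card_zpowers, hσ, pow_one])).exists_le_sylow
    obtain ⟨h, hh⟩ := MulAction.exists_smul_eq PSL T Q
    refine ⟨h, ?_, (MulEquiv.orderOf_eq (MulAut.conj h) σ).trans hσ⟩
    have hm : h * σ * h⁻¹ ∈ (Q : Subgroup PSL) := by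
      rw [← hh, Sylow.coe_subgroup_smul]; exact ⟨σ, hT (mem_zpowers σ), rfl⟩
    obtain ⟨z, -, hz⟩ := hm
    rw [← hz]; exact z.2
  obtain ⟨h₁, hh₁, ho₁⟩ := hinto _ hgo
  obtain ⟨h₂, hh₂, ho₂⟩ := hinto _ hyo
  have hsub : zpowers (h₁ * (e gc).2 * h₁⁻¹) = zpowers (h₂ * (e yc).2 * h₂⁻¹) :=
    eq_of_card_eq_in_cyclic (zpowers_le.2 hh₁) (zpowers_le.2 hh₂)
      (by rw [Nat.card_zpowers, Nat.card_zpowers, ho₁, ho₂])
  have hcase : h₁ * (e gc).2 * h₁⁻¹ = h₂ * (e yc).2 * h₂⁻¹ ∨
      h₁ * (e gc).2 * h₁⁻¹ = (h₂ * (e yc).2 * h₂⁻¹)⁻¹ := by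
    have hmem : h₁ * (e gc).2 * h₁⁻¹ ∈ zpowers (h₂ * (e yc).2 * h₂⁻¹) := hsub ▸ mem_zpowers _
    rw [mem_zpowers_iff_mem_range_orderOf, ho₂] at hmem
    simp only [Finset.mem_image, Finset.mem_range] at hmem
    obtain ⟨i, hi, hi'⟩ := hmem
    interval_cases i
    · rw [pow_zero] at hi'
      rw [← hi', orderOf_one] at ho₁
      norm_num at ho₁
    · exact Or.inl (by rw [← hi', pow_one])
    · refine Or.inr ?_
      rw [← hi', eq_inv_iff_mul_eq_one, ← pow_succ]; have := pow_orderOf_eq_one (h₂ * (e yc).2 * h₂⁻¹); rwa [ho₂] at this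
  refine ⟨((e.symm (1, h₂⁻¹ * h₁) : (centralizer ({t} : Set G))) : G), ?_⟩
  have key : ∀ p : PSL, (h₂⁻¹ * h₁) * (e gc).2 * (h₂⁻¹ * h₁)⁻¹ = p → ∀ c : (centralizer ({t} : Set G)), e c = (1, p) →
      ((e.symm (1, h₂⁻¹ * h₁) : (centralizer ({t} : Set G))) : G) * g * ((e.symm (1, h₂⁻¹ * h₁) : (centralizer ({t} : Set G))) : G)⁻¹ = c := by
    intro p hp c hcp
    have h4 : e.symm (1, h₂⁻¹ * h₁) * gc * (e.symm (1, h₂⁻¹ * h₁))⁻¹ = c := e.injective (by
      rw [map_mul, map_mul, map_inv, e.apply_symm_apply, hcp]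
      exact Prod.ext (by simp [hg1]) hp)
    exact congrArg Subtype.val h4
  rcases hcase with h | h
  · refine Or.inl (key _ ?_ yc (Prod.ext hy1 rfl))
    calc h₂⁻¹ * h₁ * (e gc).2 * (h₂⁻¹ * h₁)⁻¹ = h₂⁻¹ * (h₁ * (e gc).2 * h₁⁻¹) * h₂ := by group
      _ = (e yc).2 := by rw [h]; group
  · refine Or.inr (key _ ?_ yc⁻¹ (by rw [map_inv]; exact Prod.ext (by simp [hy1]) rfl))
    calc h₂⁻¹ * h₁ * (e gc).2 * (h₂⁻¹ * h₁)⁻¹ = h₂⁻¹ * (h₁ * (e gc).2 * h₁⁻¹) * h₂ := by group
      _ = ((e yc).2)⁻¹ := by rw [h]; group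

/-- If `3 ∤ w`, the centraliser in `(centralizer ({t} : Set G))(t)` of an element of order three has order twice an odd `n`
with `n ≥ 5` and `n² ≡ 1 (mod w)`. -/
theorem centralizer_three {t : G} (hS : Setting G F t) (h3w : ¬ 3 ∣ torusOrder (Fintype.card F))
    {g : G} (hg : Commute g t) (hg3 : orderOf g = 3) :
    ∃ n : ℕ, Odd n ∧ 5 ≤ n ∧ n * n % torusOrder (Fintype.card F) = 1 % torusOrder (Fintype.card F) ∧
      Nat.card ↥(centralizer ({t} : Set G) ⊓ centralizer ({g} : Set G)) = 2 * n := by
  classical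
  obtain ⟨-, -, e, hmod, hlarge⟩ := hS
  have hq : 3 < Fintype.card F := by omega
  obtain ⟨hg1, hgo⟩ := fst_of_three e hg hg3
  set gc : (centralizer ({t} : Set G)) := ⟨g, mem_centralizer_singleton_iff.2 hg.eq⟩ with hgc
  set σ := (e gc).2 with hσ
  set w := torusOrder (Fintype.card F) with hw
  set N := centralizer ({σ} : Set PSL) with hN
  have hcard : Nat.card ↥((centralizer ({t} : Set G)) ⊓ centralizer ({g} : Set G)) = 2 * Nat.card N := by
    have h1 : (centralizer ({g} : Set G)).subgroupOf (centralizer ({t} : Set G)) =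
        ((⊤ : Subgroup (Multiplicative (ZMod 2))).prod N).comap e.toMonoidHom := by
      ext c
      simp only [mem_subgroupOf, mem_comap, mem_prod, mem_top, true_and, hN,
        mem_centralizer_singleton_iff, hσ, MulEquiv.coe_toMonoidHom]
      constructor
      · intro h
        have h2 : c * gc = gc * c := Subtype.ext h
        have h3 := congrArg (fun d => (e d).2) h2
        simpa only [map_mul, Prod.snd_mul] using h3
      · intro h
        have h2 : c * gc = gc * c := e.injective (by
          rw [map_mul, map_mul]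
          exact Prod.ext (mul_comm _ _) h)
        exact congrArg Subtype.val h2
    rw [← Nat.card_congr (subgroupOfEquivOfLe (inf_le_left :
      (centralizer ({t} : Set G)) ⊓ centralizer ({g} : Set G) ≤ (centralizer ({t} : Set G)))).toEquiv]
    rw [inf_subgroupOf_left, h1]
    rw [Nat.card_congr (Subgroup.equivMapOfInjective _ e.toMonoidHom e.injective).toEquiv,
      map_comap_eq_self_of_surjective e.surjective,
      Nat.card_congr (Subgroup.prodEquiv _ _).toEquiv, Nat.card_prod, card_top]
    simp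
  have hNodd : Odd (Nat.card N) := by
    rw [← Nat.not_even_iff_odd]
    intro hev
    haveI : Fact (Nat.Prime 2) := ⟨Nat.prime_two⟩
    obtain ⟨u, hu⟩ := exists_prime_orderOf_dvd_card' (G := N) 2 hev.two_dvd
    have hu2 : orderOf (u : PSL) = 2 := by rw [Subgroup.orderOf_coe, hu]
    obtain ⟨a, ha, -, -, hout, hwodd, -⟩ := exists_torus_gen hmod hq hu2
    rcases hout σ (mem_centralizer_singleton_iff.1 u.2).symm with h | ⟨h, -⟩
    · have hd := orderOf_dvd_of_mem_zpowers h
      rw [hgo, ha] at hd
      exact h3w ((Nat.prime_three.dvd_mul.1 hd).resolve_left (by norm_num))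
    · have hd : orderOf σ ∣ 2 := orderOf_dvd_of_pow_eq_one (by rw [pow_two]; exact h)
      rw [hgo] at hd
      norm_num at hd
  obtain ⟨n, hn⟩ : ∃ n, Nat.card N = n := ⟨_, rfl⟩
  refine ⟨n, hn ▸ hNodd, ?_, ?_, hn ▸ hcard⟩
  all_goals
    have hmem : N.index ∈ Set.range (fun g : PSL => (centralizer ({g} : Set PSL)).index) :=
      ⟨σ, rfl⟩
    obtain ⟨h1, h3⟩ := Cfsg.Agent.S2508.result (F := F) (by omega) (by omega)
    have hmul := N.card_mul_index
    have hc := CfsgLib.Perm.ZGroup.card_psl2_gcd (F := F)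
    rw [show Nat.gcd 2 (Fintype.card F - 1) = 2 from Nat.gcd_eq_left (by omega)] at hc
    rw [hn] at hmul
    have hnodd : n % 2 = 1 := Nat.odd_iff.1 (hn ▸ hNodd)
    obtain ⟨q, hqd⟩ : ∃ q, Fintype.card F = q := ⟨_, rfl⟩
    have hN1 : N.index ≠ 1 := by
      intro h
      have ht : N = ⊤ := index_eq_one.1 h
      rw [ht, card_top] at hn
      have := two_dvd_psl (F := F) hq
      omega
    rw [hqd] at h1 h3 hc hlarge hmod
    have hshape : n = q ∨ 2 * n = q - 1 ∨ 2 * n = q + 1 := by
      set d := N.index with hd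
      rcases (show q % 4 = 1 ∨ q % 4 = 3 by omega) with h4 | h4
      · rw [h1 h4] at hmem
        simp only [Set.mem_insert_iff, Set.mem_singleton_iff] at hmem
        obtain ⟨m, rfl⟩ : ∃ m, q = 4 * m + 1 := ⟨q / 4, by omega⟩
        have hm0 : 0 < m := by omega
        rw [show (4 * m + 1) ^ 2 - 1 = 2 * (2 * m * (4 * m + 2)) from
          Nat.sub_eq_of_eq_add (by ring), Nat.mul_div_cancel_left _ two_pos,
          show (4 * m + 1) * (4 * m + 1 + 1) = 2 * ((4 * m + 1) * (2 * m + 1)) by ring,
          Nat.mul_div_cancel_left _ two_pos, Nat.add_sub_cancel] at hmem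
        rw [Nat.add_sub_cancel] at hc
        rcases hmem with e' | e' | e' | e' | e'
        · exact absurd e' hN1
        · left
          refine Nat.eq_of_mul_eq_mul_left (show 0 < 2 * (2 * m * (4 * m + 2)) by positivity) ?_
          calc 2 * (2 * m * (4 * m + 2)) * n = 2 * (n * d) := by rw [e']; ring
            _ = _ := by rw [hmul, hc]; ring
        · have : n = 4 * m := by
            refine Nat.eq_of_mul_eq_mul_left (show 0 < 2 * ((4 * m + 1) * (2 * m + 1)) by positivity) ?_
            calc 2 * ((4 * m + 1) * (2 * m + 1)) * n = 2 * (n * d) := by rw [e']; ring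
              _ = _ := by rw [hmul, hc]; ring
          omega
        · right; right
          refine Nat.eq_of_mul_eq_mul_left (show 0 < (4 * m + 1) * (4 * m) by positivity) ?_
          calc (4 * m + 1) * (4 * m) * (2 * n) = 2 * (n * d) := by rw [e']; ring
            _ = _ := by rw [hmul, hc]; ring
        · right; left
          refine Nat.eq_of_mul_eq_mul_left (show 0 < (4 * m + 1) * (4 * m + 1 + 1) by positivity) ?_
          calc (4 * m + 1) * (4 * m + 1 + 1) * (2 * n) = 2 * (n * d) := by rw [e']; ring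
            _ = _ := by rw [hmul, hc]; rw [Nat.add_sub_cancel]; ring
      · rw [h3 h4] at hmem
        simp only [Set.mem_insert_iff, Set.mem_singleton_iff] at hmem
        obtain ⟨m, rfl⟩ : ∃ m, q = 4 * m + 3 := ⟨q / 4, by omega⟩
        rw [show (4 * m + 3) ^ 2 - 1 = 2 * ((2 * m + 1) * (4 * m + 4)) from
          Nat.sub_eq_of_eq_add (by ring), Nat.mul_div_cancel_left _ two_pos,
          show 4 * m + 3 - 1 = 2 * (2 * m + 1) by omega,
          show (4 * m + 3) * (2 * (2 * m + 1)) = 2 * ((4 * m + 3) * (2 * m + 1)) by ring,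
          Nat.mul_div_cancel_left _ two_pos] at hmem
        rw [show 4 * m + 3 - 1 = 2 * (2 * m + 1) by omega] at hc ⊢
        rcases hmem with e' | e' | e' | e' | e'
        · exact absurd e' hN1
        · left
          refine Nat.eq_of_mul_eq_mul_left (show 0 < 2 * ((2 * m + 1) * (4 * m + 4)) by positivity) ?_
          calc 2 * ((2 * m + 1) * (4 * m + 4)) * n = 2 * (n * d) := by rw [e']; ring
            _ = _ := by rw [hmul, hc]; ring
        · have : n = 4 * m + 4 := by
            refine Nat.eq_of_mul_eq_mul_left (show 0 < 2 * ((4 * m + 3) * (2 * m + 1)) by positivity) ?_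
            calc 2 * ((4 * m + 3) * (2 * m + 1)) * n = 2 * (n * d) := by rw [e']; ring
              _ = _ := by rw [hmul, hc]; ring
          omega
        · right; left
          refine Nat.eq_of_mul_eq_mul_left (show 0 < (4 * m + 3) * (4 * m + 3 + 1) by positivity) ?_
          calc (4 * m + 3) * (4 * m + 3 + 1) * (2 * n) = 2 * (n * d) := by rw [e']; ring
            _ = _ := by rw [hmul, hc]; ring
        · right; right
          refine Nat.eq_of_mul_eq_mul_left
            (show 0 < 2 * ((4 * m + 3) * (2 * m + 1)) by positivity) ?_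
          calc 2 * ((4 * m + 3) * (2 * m + 1)) * (2 * n) = 2 * (n * d) := by rw [e']; ring
            _ = _ := by rw [hmul, hc]; ring
    have hw4 : 4 * w = q + 1 ∨ 4 * w + 1 = q := by
      rw [hw, torusOrder, hqd]; split_ifs <;> omega
  · rcases hshape with h | h | h <;> omega
  · have hsq : n * n ≡ 1 [MOD w] := by
      rw [← Int.natCast_modEq_iff, Int.modEq_iff_dvd]
      push_cast
      rcases hw4 with h' | h' <;> rcases hshape with h | h | h <;>
        first
          | omega
          | (have hq' : (q : ℤ) = 4 * w - 1 := by omega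
             subst h; exact ⟨8 - 16 * (w : ℤ), by rw [hq']; ring⟩)
          | (have hq' : (q : ℤ) = 4 * w + 1 := by omega
             subst h; exact ⟨-(16 * (w : ℤ) + 8), by rw [hq']; ring⟩)
          | (have hn' : (n : ℤ) = 2 * w - 1 := by omega
             exact ⟨4 - 4 * (w : ℤ), by rw [hn']; ring⟩)
          | (have hn' : (n : ℤ) = 2 * w + 1 := by omega
             exact ⟨-(4 * (w : ℤ) + 4), by rw [hn']; ring⟩)
    exact hsq

end CfsgLib.Recognition.ReeCentralizer
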