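import Cfsg.Agent.Lib.Recognition.ReeCentralizer.MainCase
import Cfsg.Agent.Lib.Recognition.ReeCentralizer.Count
import Cfsg.Agent.Lib.Recognition.ReeCentralizer.GalChar
import Cfsg.Agent.Lib.Recognition.ReeCentralizer.Fixed
import Cfsg.Agent.Lib.Recognition.ReeCentralizer.Small

/-!
# Simple groups with abelian Sylow 2-subgroups and an involution centralizer `2 × PSL₂(q)`
-/

set_option autoImplicit false
set_option linter.unusedSectionVars false
set_option linter.style.haveILetI false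

namespace CfsgLib.Recognition.ReeCentralizer

open Subgroup Cfsg
open scoped _root_.Classical ComplexConjugate

universe u v

variable {G : Type u} [Group G] [Fintype G] {F : Type v} [Field F] [Fintype F] {t : G}

/-- The main case: `q = 3^(2m+1)` and the order of the Ree group. -/
theorem Setting.ree_order [IsSimpleGroup G] (S : Setting G F t)
    (hS : ∀ P : Sylow 2 G, Nat.card (P : Subgroup G) = 8 ∧ ∀ x ∈ (P : Subgroup G), x ^ 2 = 1) :
    ∃ m : ℕ, 1 ≤ m ∧ Fintype.card F = 3 ^ (2 * m + 1) ∧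
      Nat.card G = (3 ^ (2 * m + 1)) ^ 3 * ((3 ^ (2 * m + 1)) ^ 3 + 1) * (3 ^ (2 * m + 1) - 1) := by
  obtain ⟨V, W, s, x, Fr⟩ := exists_frame S
  obtain ⟨p, hp⟩ := CharP.exists F
  haveI : Fact p.Prime := ⟨CharP.char_is_prime F p⟩
  obtain ⟨v, ⟨B⟩⟩ := exists_pBlock (F := F) p (le_trans (by norm_num) S.large) S.mod_eight
  have hpw : ¬ p ∣ torusOrder (Fintype.card F) := fun h =>
    (B.prime.coprime_iff_not_dvd.1 B.coprime_pw) (h.mul_left 2)
  obtain ⟨σ, hσw, hσ⟩ := B.exists_gal hpw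
  obtain ⟨P⟩ : Nonempty (Sylow 2 G) := inferInstance
  obtain ⟨h8, h2⟩ := hS P
  have hTd := exists_int_dvd (t := t) (P : Subgroup G) h8 fun y hy hy1 =>
    Fr.conj_inv y (orderOf_eq_prime (h2 y hy) hy1)
  have hrow : ∀ i χ, (S.row B i χ : ℂ) = classInner χ.1 (S.lift (B.phi i)) := fun i χ =>
    (S.row_spec B i χ).symm
  have hgal := fun χ => S.row_galPerm B σ hσ χ
  simp only [S.row_spec, Int.cast_inj] at hgal
  refine Fr.ree_order S B hTd (fun i => ?_) σ hσw (galPerm σ) (fun χ g => galPerm_apply σ χ g)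
    (fun χ => (hgal χ).1) (fun χ => (hgal χ).2.1) (fun χ => (hgal χ).2.2)
  simp only [hrow, S.count_row Fr.conj_inv B i, Setting.bigX]
  simp [bigQ]

/-- **Janko–Thompson**: simple groups with abelian Sylow 2-subgroups and an involution centralizer
`2 × PSL₂(q)`, `q ≥ 3`. -/
theorem order_cases [IsSimpleGroup G] (hab : ∀ P : Sylow 2 G, ∀ a b : P, a * b = b * a)
    (hq : 3 ≤ Fintype.card F) (ht : orderOf t = 2)
    (e : centralizer ({t} : Set G) ≃* Multiplicative (ZMod 2) × PSL F) :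
    (∃ m : ℕ, 1 ≤ m ∧ Fintype.card F = 3 ^ (2 * m + 1) ∧
        Nat.card G = (3 ^ (2 * m + 1)) ^ 3 * ((3 ^ (2 * m + 1)) ^ 3 + 1) * (3 ^ (2 * m + 1) - 1)) ∨
      ((Fintype.card F = 4 ∨ Fintype.card F = 5) ∧ Cfsg.IsJ1 G) := by
  rcases small_or_large hab hq ht e with h | ⟨hlarge, hmod, hS⟩
  · exact Or.inr h
  · exact Or.inl (Setting.ree_order ⟨ht, hab, e, hmod, hlarge⟩ hS)

end CfsgLib.Recognition.ReeCentralizer
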