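import Cfsg.Agent.Lib.Recognition.ReeCentralizer.Basic
import Cfsg.Agent.Lib.Classical.SLBasic
import Cfsg.Agent.Lib.Char.FewSylow.Cubed
import Cfsg.Agent.Lib.BrauerSuzuki.QuaternionFun
import Cfsg.Agent.Lib.Char.CliffordAbelian
import Cfsg.Agent.Lib.Char.Linear

/-!
# Centralizer `2 × PSL₂(q)` of an involution: the section of the involution

`C(t) = ⟨t⟩ × L`; `Setting.proj` is the projection on `L`, `Setting.sgn` the character with
`sgn t = -1` and `Setting.inj` embeds `L`.  For a function `φ` on `L` the function `psi φ` is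
`(1 - sgn) φ` on `C(t)` and `lift φ` is induced from it; `sect χ` is `y ↦ χ (t y)` on `L`.
-/

set_option autoImplicit false
set_option linter.unusedSectionVars false
set_option linter.style.haveILetI false

namespace CfsgLib.Recognition.ReeCentralizer

open Subgroup Cfsg
open scoped _root_.Classical ComplexConjugate

universe u v

variable {G : Type u} [Group G] {F : Type v} [Field F] [Fintype F] {t : G}

/-- `PSL₂(F)`. -/
abbrev PSL (F : Type v) [Field F] [Fintype F] : Type v := Matrix.ProjectiveSpecialLinearGroup (Fin 2) F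

theorem center_psl_eq_bot (hodd : Odd (Fintype.card F)) (h : 4 ≤ Fintype.card F) : center (PSL F) = ⊥ := by
  haveI : IsSimpleGroup (PSL F) := CfsgLib.Classical.psl_fin_isSimpleGroup le_rfl fun _ => h
  refine ((inferInstance : (center (PSL F)).Normal).eq_bot_or_eq_top).resolve_right fun htop => ?_
  letI : CommGroup (PSL F) :=
    { (inferInstance : Group _) with
      mul_comm := fun a b => (mem_center_iff.1 (htop ▸ mem_top b) a) }
  have hp : (Nat.card (PSL F)).Prime := IsSimpleGroup.prime_card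
  have h1 := CfsgLib.Char.FewSylow.card_psl_two (F := F)
  obtain ⟨m, hm⟩ := hodd
  rw [hm, show 2 * m + 1 - 1 = 2 * m by omega, Nat.gcd_eq_left (dvd_mul_right 2 m)] at h1
  have h2 : Nat.card (PSL F) = (2 * m + 1) * (m * (2 * m + 1 + 1)) := by
    refine Nat.eq_of_mul_eq_mul_left (by norm_num : 0 < 2) ?_
    rw [h1]; ring
  exact Nat.not_prime_mul (by omega) (by nlinarith [show 2 ≤ m by omega]) (h2 ▸ hp)

namespace Setting

variable (S : Setting G F t)
include S

theorem t_mem : t ∈ centralizer ({t} : Set G) := mem_centralizer_singleton_iff.2 rfl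

theorem t_mul_self : t * t = 1 := BrauerSuzuki.mul_self_of_orderOf_two S.t2

theorem t_inv : t⁻¹ = t := BrauerSuzuki.inv_eq_of_orderOf_two S.t2

theorem four_le : 4 ≤ Fintype.card F := by have := S.large; omega

theorem odd_card : Odd (Fintype.card F) := Nat.odd_iff.2 (by have := S.mod_eight; omega)

theorem iso_t : S.iso ⟨t, S.t_mem⟩ = (Multiplicative.ofAdd 1, 1) := by
  set z : ↥(centralizer ({t} : Set G)) := ⟨t, S.t_mem⟩ with hz
  have hc : ∀ c : ↥(centralizer ({t} : Set G)), c * z = z * c := fun c =>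
    Subtype.ext (mem_centralizer_singleton_iff.1 c.2)
  have h2 : (S.iso z).2 ∈ center (PSL F) := mem_center_iff.2 fun y => by
    obtain ⟨c, hy⟩ := S.iso.surjective (1, y)
    have h := congrArg Prod.snd (congrArg S.iso (hc c))
    simpa [hy] using h
  rw [center_psl_eq_bot S.odd_card S.four_le, mem_bot] at h2
  refine Prod.ext ?_ h2
  have h1 : (S.iso z).1 ≠ 1 := by
    intro h1
    have : z = 1 := S.iso.injective (by rw [map_one]; exact Prod.ext h1 h2)
    have ht := S.t2
    rw [show t = (1 : G) from congrArg Subtype.val this, orderOf_one] at ht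
    norm_num at ht
  have key : ∀ a : Multiplicative (ZMod 2), a ≠ 1 → a = Multiplicative.ofAdd 1 := by decide
  exact key _ h1

/-- The projection of `C(t)` on `L`. -/
noncomputable def proj : ↥(centralizer ({t} : Set G)) →* PSL F :=
  (MonoidHom.snd (Multiplicative (ZMod 2)) (PSL F)).comp S.iso.toMonoidHom

/-- The linear character with kernel `L`. -/
noncomputable def sgn : ↥(centralizer ({t} : Set G)) →* ℂˣ :=
  (show Multiplicative (ZMod 2) →* ℂˣ from
    { toFun := fun a => if a = 1 then 1 else -1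
      map_one' := by simp
      map_mul' := by
        intro a b
        have ha : a = 1 ∨ a = Multiplicative.ofAdd 1 := by revert a; decide
        have hb : b = 1 ∨ b = Multiplicative.ofAdd 1 := by revert b; decide
        have h1 : (Multiplicative.ofAdd 1 : Multiplicative (ZMod 2)) ≠ 1 := by decide
        have h2 : (Multiplicative.ofAdd 1 : Multiplicative (ZMod 2)) * Multiplicative.ofAdd 1 = 1 := by
          decide
        rcases ha with rfl | rfl <;> rcases hb with rfl | rfl <;> simp [h1, h2] }).comp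
    ((MonoidHom.fst (Multiplicative (ZMod 2)) (PSL F)).comp S.iso.toMonoidHom)

/-- The embedding of `L`. -/
noncomputable def inj : PSL F →* G :=
  (centralizer ({t} : Set G)).subtype.comp
    (S.iso.symm.toMonoidHom.comp (MonoidHom.inr (Multiplicative (ZMod 2)) (PSL F)))

theorem inj_mem (y : PSL F) : S.inj y ∈ centralizer ({t} : Set G) := (S.iso.symm (1, y)).2

theorem commute_inj (y : PSL F) : Commute t (S.inj y) :=
  (mem_centralizer_singleton_iff.1 (S.inj_mem y)).symm

theorem tinj_mem (y : PSL F) : t * S.inj y ∈ centralizer ({t} : Set G) := mul_mem S.t_mem (S.inj_mem y)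

theorem inj_injective : Function.Injective S.inj := fun y z h =>
  congrArg Prod.snd (S.iso.symm.injective (Subtype.ext h) : ((1 : Multiplicative (ZMod 2)), y) = (1, z))

theorem iso_inj (y : PSL F) : S.iso ⟨S.inj y, S.inj_mem y⟩ = (1, y) :=
  S.iso.apply_symm_apply (1, y)

theorem iso_tinj (y : PSL F) :
    S.iso ⟨t * S.inj y, S.tinj_mem y⟩ = (Multiplicative.ofAdd 1, y) := by
  have h : (⟨t * S.inj y, S.tinj_mem y⟩ : ↥(centralizer ({t} : Set G))) =
      ⟨t, S.t_mem⟩ * ⟨S.inj y, S.inj_mem y⟩ := rfl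
  rw [h, map_mul, S.iso_t, S.iso_inj, Prod.mk_mul_mk, mul_one, one_mul]

theorem proj_inj (y : PSL F) : S.proj ⟨S.inj y, S.inj_mem y⟩ = y := congrArg Prod.snd (S.iso_inj y)

theorem proj_tinj (y : PSL F) : S.proj ⟨t * S.inj y, S.tinj_mem y⟩ = y :=
  congrArg Prod.snd (S.iso_tinj y)

theorem sgn_inj (y : PSL F) : (S.sgn ⟨S.inj y, S.inj_mem y⟩ : ℂ) = 1 := by
  simp [sgn, S.iso_inj]

theorem sgn_tinj (y : PSL F) : (S.sgn ⟨t * S.inj y, S.tinj_mem y⟩ : ℂ) = -1 := by
  simp [sgn, S.iso_tinj]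

theorem proj_surjective : Function.Surjective S.proj := fun y => ⟨_, S.proj_inj y⟩

/-- Every element of `C(t)` is `y` or `t y` with `y ∈ L`. -/
theorem exists_eq {g : G} (hg : g ∈ centralizer ({t} : Set G)) :
    ∃ y, g = S.inj y ∨ g = t * S.inj y := by
  refine ⟨S.proj ⟨g, hg⟩, ?_⟩
  have h : ∀ a : Multiplicative (ZMod 2), a = 1 ∨ a = Multiplicative.ofAdd 1 := by decide
  rcases h (S.iso ⟨g, hg⟩).1 with e | e
  · exact Or.inl (congrArg Subtype.val (S.iso.injective
      ((Prod.ext e rfl : S.iso ⟨g, hg⟩ = (1, S.proj ⟨g, hg⟩)).trans (S.iso_inj _).symm)))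
  · exact Or.inr (congrArg Subtype.val (S.iso.injective
      ((Prod.ext e rfl : S.iso ⟨g, hg⟩ = (Multiplicative.ofAdd 1, S.proj ⟨g, hg⟩)).trans
        (S.iso_tinj _).symm)))

/-- An element of odd order of `C(t)` lies in `L`. -/
theorem exists_eq_inj {g : G} (hg : g ∈ centralizer ({t} : Set G)) (ho : Odd (orderOf g)) :
    ∃ y, g = S.inj y ∧ Odd (orderOf y) := by
  obtain ⟨y, rfl | rfl⟩ := S.exists_eq hg
  · exact ⟨y, rfl, by rwa [orderOf_injective S.inj S.inj_injective] at ho⟩
  · exfalso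
    have h : (⟨t * S.inj y, hg⟩ : ↥(centralizer ({t} : Set G))) ^ orderOf (t * S.inj y) = 1 :=
      Subtype.ext (pow_orderOf_eq_one _)
    have h1 := congrArg (fun c => ((S.sgn c : ℂˣ) : ℂ)) h
    simp only [map_pow, Units.val_pow_eq_pow_val, map_one, Units.val_one, S.sgn_tinj, ho.neg_one_pow] at h1
    norm_num at h1

theorem conj_tinj {g : G} (hg : Commute g t) (y : PSL F) :
    g * (t * S.inj y) * g⁻¹ =
      t * S.inj (S.proj ⟨g, mem_centralizer_singleton_iff.2 hg.eq⟩ * y *
        (S.proj ⟨g, mem_centralizer_singleton_iff.2 hg.eq⟩)⁻¹) := by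
  obtain ⟨z, rfl | rfl⟩ := S.exists_eq (mem_centralizer_singleton_iff.2 hg.eq)
  · rw [S.proj_inj, map_mul, map_mul, map_inv, ← mul_assoc, ← (S.commute_inj z).eq]
    simp [mul_assoc]
  · rw [S.proj_tinj, map_mul, map_mul, map_inv, mul_inv_rev, ← mul_assoc (t * S.inj z),
      mul_assoc t (S.inj z) t, ← (S.commute_inj z).eq, ← mul_assoc t t, S.t_mul_self, one_mul]
    calc S.inj z * S.inj y * ((S.inj z)⁻¹ * t⁻¹)
        = S.inj (z * y * z⁻¹) * t⁻¹ := by simp [mul_assoc]
      _ = _ := by rw [S.t_inv, ← (S.commute_inj _).eq]; simp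

/-- An element `t y`, `y` of odd order, has `t` as an odd power. -/
theorem tinj_pow {y : PSL F} (hy : Odd (orderOf y)) : (t * S.inj y) ^ orderOf y = t := by
  rw [(S.commute_inj y).mul_pow, ← map_pow, pow_orderOf_eq_one, map_one, mul_one]
  obtain ⟨k, hk⟩ := hy
  rw [hk, pow_succ, pow_mul, pow_two, S.t_mul_self, one_pow, one_mul]

/-- The elements `t y`, `y` of odd order, form a trivial intersection set. -/
theorem sect_ti [Finite G] {g : G} {y z : PSL F} (hy : Odd (orderOf y)) (hz : Odd (orderOf z))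
    (h : g * (t * S.inj y) * g⁻¹ = t * S.inj z) : Commute g t := by
  have hpow : ∀ {x : PSL F}, Odd (orderOf x) → ∀ m, Odd m → orderOf x ∣ m → (t * S.inj x) ^ m = t := by
    rintro x hx m hm ⟨k, rfl⟩
    rw [pow_mul, S.tinj_pow hx]
    obtain ⟨j, hj⟩ := (Nat.odd_mul.1 hm).2
    rw [hj, pow_succ, pow_mul, pow_two, S.t_mul_self, one_pow, one_mul]
  have h1 := congrArg (fun w => w ^ (orderOf y * orderOf z)) h
  simp only [conj_pow, hpow hy _ (hy.mul hz) ⟨_, rfl⟩,
    hpow hz _ (hy.mul hz) ⟨orderOf y, mul_comm _ _⟩] at h1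
  exact mul_inv_eq_iff_eq_mul.1 h1

/-- `(1 - sgn) φ` on `C(t)`. -/
noncomputable def psi (φ : PSL F → ℂ) : ↥(centralizer ({t} : Set G)) → ℂ :=
  fun c => (1 - (S.sgn c : ℂ)) * φ (S.proj c)

theorem psi_inj (φ : PSL F → ℂ) (y : PSL F) : S.psi φ ⟨S.inj y, S.inj_mem y⟩ = 0 := by
  rw [psi, S.sgn_inj, sub_self, zero_mul]

theorem psi_tinj (φ : PSL F → ℂ) (y : PSL F) :
    S.psi φ ⟨t * S.inj y, S.tinj_mem y⟩ = 2 * φ y := by
  rw [psi, S.sgn_tinj, S.proj_tinj]; ring

theorem isClassFunction_psi {φ : PSL F → ℂ} (hφ : IsClassFunction (PSL F) φ) :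
    IsClassFunction ↥(centralizer ({t} : Set G)) (S.psi φ) := fun g h => by
  simp only [psi, map_mul, map_inv, mul_inv_cancel_comm]
  rw [hφ]

variable [Fintype G]

/-- `y ↦ χ (t y)` on `L`. -/
noncomputable def sect (χ : G → ℂ) : PSL F → ℂ := fun y => χ (t * S.inj y)

theorem isClassFunction_sect {χ : G → ℂ} (hχ : IsClassFunction G χ) :
    IsClassFunction (PSL F) (S.sect χ) := by
  intro y z
  have h : t * S.inj (z * y * z⁻¹) = S.inj z * (t * S.inj y) * (S.inj z)⁻¹ := by
    rw [map_mul, map_mul, map_inv, ← mul_assoc (S.inj z), ← (S.commute_inj z).eq]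
    simp [mul_assoc]
  show χ (t * S.inj (z * y * z⁻¹)) = χ (t * S.inj y)
  rw [h, hχ]

theorem isGeneralizedCharacter_psi {φ : PSL F → ℂ} (hφ : IsCharacter (PSL F) φ) :
    IsGeneralizedCharacter ↥(centralizer ({t} : Set G)) (S.psi φ) := by
  refine ⟨_, _, Char.IsCharacter.comp hφ S.proj,
    Char.IsCharacter.mul (Char.IsCharacter.comp hφ S.proj) (Char.isCharacter_hom S.sgn), ?_⟩
  funext c
  simp only [psi, Pi.sub_apply, Pi.mul_apply, Function.comp_apply]
  ring

/-- The virtual character of `G` belonging to `φ`. -/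
noncomputable def lift (φ : PSL F → ℂ) : G → ℂ := indFun (centralizer ({t} : Set G)) (S.psi φ)

theorem isClassFunction_lift (φ : PSL F → ℂ) : IsClassFunction G (S.lift φ) :=
  Char.indFun_isClassFunction _ _

theorem isGeneralizedCharacter_lift {φ : PSL F → ℂ} (hφ : IsGeneralizedCharacter (PSL F) φ) :
    IsGeneralizedCharacter G (S.lift φ) := by
  refine Char.IsGeneralizedCharacter.indFun _ ?_
  obtain ⟨a, b, ha, hb, rfl⟩ := hφ
  have e : S.psi (a - b) = S.psi a - S.psi b := by funext c; simp [psi]; ring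
  rw [e]
  exact BrauerSuzuki.gc_sub (S.isGeneralizedCharacter_psi ha) (S.isGeneralizedCharacter_psi hb)

/-- A sum over `C(t)`. -/
theorem sum_centralizer {M : Type*} [AddCommMonoid M] (f : ↥(centralizer ({t} : Set G)) → M) :
    ∑ c, f c = (∑ y, f ⟨S.inj y, S.inj_mem y⟩) + ∑ y, f ⟨t * S.inj y, S.tinj_mem y⟩ := by
  refine Eq.trans ?_ (Fintype.sum_sum_type (Sum.elim
    (fun y : PSL F => f ⟨S.inj y, S.inj_mem y⟩) fun y => f ⟨t * S.inj y, S.tinj_mem y⟩))
  refine (Fintype.sum_bijective (Sum.elim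
    (fun y : PSL F => (⟨S.inj y, S.inj_mem y⟩ : ↥(centralizer ({t} : Set G))))
    fun y => ⟨t * S.inj y, S.tinj_mem y⟩) ⟨?_, ?_⟩ _ _ ?_).symm
  · rintro (y | y) (z | z) h <;> have e := congrArg (fun c => (S.proj c, (S.sgn c : ℂ))) h <;>
      simp only [Sum.elim_inl, Sum.elim_inr, S.proj_inj, S.proj_tinj, S.sgn_inj, S.sgn_tinj,
        Prod.mk.injEq] at e
    · rw [e.1]
    · norm_num at e
    · norm_num at e
    · rw [e.1]
  · intro c
    obtain ⟨y, e | e⟩ := S.exists_eq c.2
    · exact ⟨Sum.inl y, Subtype.ext e.symm⟩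
    · exact ⟨Sum.inr y, Subtype.ext e.symm⟩
  · rintro (y | y) <;> rfl

theorem card_centralizer :
    Nat.card (centralizer ({t} : Set G)) = 2 * Nat.card (PSL F) := by
  have h := S.sum_centralizer (fun _ => 1)
  simp only [Finset.sum_const, Finset.card_univ, smul_eq_mul, mul_one,
    ← Nat.card_eq_fintype_card] at h
  omega

/-- Reciprocity for `lift`. -/
theorem classInner_lift {χ : G → ℂ} (hχ : IsClassFunction G χ) (φ : PSL F → ℂ) :
    classInner χ (S.lift φ) = classInner (S.sect χ) φ := by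
  refine (Char.classInner_indFun_right (centralizer ({t} : Set G)) _ hχ).trans ?_
  simp only [classInner, S.sum_centralizer, S.psi_tinj, S.psi_inj, S.card_centralizer, map_zero,
    mul_zero, Finset.sum_const_zero, zero_add, map_mul, Complex.conj_ofNat, sect]
  push_cast
  rw [Finset.mul_sum, Finset.mul_sum]
  refine Finset.sum_congr rfl fun y _ => ?_
  field_simp

/-- The values of `lift` on the section. -/
theorem lift_tinj {φ : PSL F → ℂ} (hφ : IsClassFunction (PSL F) φ)
    (h0 : ∀ y, ¬ Odd (orderOf y) → φ y = 0) {y : PSL F} (hy : Odd (orderOf y)) :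
    S.lift φ (t * S.inj y) = 2 * φ y := by
  rw [← S.psi_tinj φ y]
  refine BrauerSuzuki.indFun_apply_special (centralizer ({t} : Set G))
    (fun g => ∃ z : PSL F, Odd (orderOf z) ∧ g = t * S.inj z) (S.isClassFunction_psi hφ) ?_ ?_
    ⟨t * S.inj y, S.tinj_mem y⟩ ⟨y, hy, rfl⟩
  · rintro ⟨c, hc⟩ hne
    obtain ⟨z, rfl | rfl⟩ := S.exists_eq hc
    · exact absurd (S.psi_inj φ z) hne
    · refine ⟨z, _root_.Classical.byContradiction fun hz => hne ?_, rfl⟩
      rw [S.psi_tinj, h0 z hz, mul_zero]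
  · rintro g x - ⟨y', hy', rfl⟩ - ⟨z', hz', he⟩
    exact mem_centralizer_singleton_iff.2 (S.sect_ti hy' hz' he).eq

theorem classInner_lift_lift {φ φ' : PSL F → ℂ} (hφ' : IsClassFunction (PSL F) φ')
    (h0 : ∀ y, ¬ Odd (orderOf y) → φ y = 0) (h0' : ∀ y, ¬ Odd (orderOf y) → φ' y = 0) :
    classInner (S.lift φ) (S.lift φ') = 2 * classInner φ φ' := by
  rw [← Char.classInner_conj_symm (S.lift φ') (S.lift φ),
    S.classInner_lift (S.isClassFunction_lift φ') φ, Char.classInner_conj_symm]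
  simp only [classInner, sect, Finset.mul_sum]
  refine Finset.sum_congr rfl fun y _ => ?_
  by_cases hy : Odd (orderOf y)
  · rw [S.lift_tinj hφ' h0' hy, map_mul, Complex.conj_ofNat]; ring
  · rw [h0 y hy]; simp

theorem lift_one (φ : PSL F → ℂ) : S.lift φ 1 = 0 := by
  rw [lift, Char.indFun_one]
  have h : (1 : ↥(centralizer ({t} : Set G))) = ⟨S.inj 1, S.inj_mem 1⟩ := Subtype.ext (map_one _).symm
  rw [h, S.psi_inj, mul_zero]

end Setting

end CfsgLib.Recognition.ReeCentralizer
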