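import Cfsg.Agent.Lib.Recognition.ReeCentralizer.PSLBlock
import Cfsg.Agent.Lib.Recognition.ReeCentralizer.Section
import Cfsg.Agent.Lib.BrauerSuzuki.Klein
import Cfsg.Agent.Lib.Involution.TwoTimesPSL.PSLData

/-!
# The principal `2`-block of `PSL₂(q)` consists of the four characters of the block data

The function `1 + ∑ σ_i χ_i` is `4` on the elements of even order and zero on the others, so it is
the function characterizing the principal block for a four group as Sylow 2-subgroup.
-/

set_option autoImplicit false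
set_option linter.unusedSectionVars false
set_option linter.style.haveILetI false

namespace CfsgLib.Recognition.ReeCentralizer

open Cfsg CfsgLib.Blocks
open scoped _root_.Classical

universe u v

namespace PBlock

variable {L : Type u} [Group L] [Fintype L] {p q w v : ℕ} {ε : ℤ} (B : PBlock L p q w v ε)
include B

theorem eps_sq : (ε : ℂ) * ε = 1 := by rcases B.sign with rfl | rfl <;> norm_num

/-- On the elements of odd order `1 + ∑ σ_i χ_i` vanishes. -/
theorem sum_odd {x : L} (hx : Odd (orderOf x)) :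
    1 + ∑ i, (B.sgn i : ℂ) * (B.chi i : L → ℂ) x = 0 := by
  rw [Fin.sum_univ_three]
  have he := B.eps_sq
  by_cases h1 : x = 1
  · have hv : (q : ℂ) + (ε : ℂ) = 2 * (v : ℂ) := by exact_mod_cast B.hv
    simp only [chi, sgn, h1, Matrix.cons_val_zero, Matrix.cons_val_one, Matrix.cons_val_two,
      Matrix.head_cons, Matrix.tail_cons, B.deg_s, B.deg_e₁, B.deg_e₂]
    push_cast
    linear_combination (-1 : ℂ) * he + (ε : ℂ) * hv
  · simp only [chi, sgn, Matrix.cons_val_zero, Matrix.cons_val_one, Matrix.cons_val_two,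
      Matrix.head_cons, Matrix.tail_cons]
    push_cast
    rcases B.of_odd h1 hx with ⟨-, hs, hadd, -⟩ | ⟨-, hs, h2, h3⟩ | ⟨-, hs, h2, h3⟩
    · rw [hs]; linear_combination (-(ε : ℂ)) * hadd - he
    · rw [hs, h2, h3]; linear_combination -he
    · rw [hs, h2, h3]; linear_combination -he

theorem evenF_eq :
    BrauerSuzuki.evenF L = fun x => 1 + ∑ i, (B.sgn i : ℂ) * (B.chi i : L → ℂ) x := by
  funext x
  rcases Nat.even_or_odd (orderOf x) with h | h
  · rw [BrauerSuzuki.evenF, if_pos (even_iff_two_dvd.1 h)]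
    have : ∀ i, (B.sgn i : ℂ) * (B.chi i : L → ℂ) x = 1 := fun i => by
      rw [(B.chi_of_even i h).2, ← Int.cast_mul, B.sgn_sq, Int.cast_one]
    simp only [this, Finset.sum_const, Finset.card_univ, Fintype.card_fin]
    norm_num
  · rw [BrauerSuzuki.evenF, if_neg fun hd => Nat.not_even_iff_odd.2 h (even_iff_two_dvd.2 hd),
      B.sum_odd h]

theorem not_four_dvd (x : L) : ¬ 4 ∣ orderOf x := fun h4 => by
  have hd : orderOf x ∣ 2 * w :=
    orderOf_dvd_of_pow_eq_one (B.chi_of_even 0 (even_iff_two_dvd.2 ((by norm_num : 2 ∣ 4).trans h4))).1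
  obtain ⟨k, hk⟩ := B.odd_w
  obtain ⟨c, hc⟩ := h4.trans hd
  omega

end PBlock

section Principal

variable {F : Type v} [Field F] [Fintype F] {p w v : ℕ} {ε : ℤ}

theorem sylow_klein (B : PBlock (PSL F) p (Fintype.card F) w v ε)
    (hmod : Fintype.card F % 8 = 3 ∨ Fintype.card F % 8 = 5) (P : Sylow 2 (PSL F)) :
    IsKleinFour (P : Subgroup (PSL F)) := by
  haveI : Fact (Nat.Prime 2) := ⟨Nat.prime_two⟩
  set q := Fintype.card F
  have hc := CfsgLib.Char.FewSylow.card_psl_two (F := F)
  rw [Nat.gcd_eq_left (show 2 ∣ q - 1 by omega)] at hc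
  have h4 : 4 ∣ Nat.card (PSL F) ∧ ¬ 8 ∣ Nat.card (PSL F) := by
    obtain ⟨a, b, ha, hb, hab⟩ : ∃ a b, Odd a ∧ Odd b ∧ (q - 1) * (q + 1) = 8 * (a * b) := by
      rcases hmod with h | h
      · exact ⟨(q - 1) / 2, (q + 1) / 4, Nat.odd_iff.2 (by omega), Nat.odd_iff.2 (by omega), by
          conv_lhs => rw [show q - 1 = 2 * ((q - 1) / 2) by omega, show q + 1 = 4 * ((q + 1) / 4) by omega]
          ring⟩
      · exact ⟨(q - 1) / 4, (q + 1) / 2, Nat.odd_iff.2 (by omega), Nat.odd_iff.2 (by omega), by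
          conv_lhs => rw [show q - 1 = 4 * ((q - 1) / 4) by omega, show q + 1 = 2 * ((q + 1) / 2) by omega]
          ring⟩
    rw [hab] at hc
    have he : Nat.card (PSL F) = 4 * (q * (a * b)) := by linarith
    refine ⟨⟨_, he⟩, ?_⟩
    rintro ⟨c, hd⟩
    obtain ⟨m, hm⟩ := ((Nat.odd_iff.2 (show q % 2 = 1 by omega)).mul (ha.mul hb))
    omega
  have hcard : Nat.card (P : Subgroup (PSL F)) = 4 := by
    obtain ⟨j, hj⟩ := IsPGroup.iff_card.1 P.isPGroup'
    have h2 := P.pow_dvd_card_of_pow_dvd_card (n := 2) h4.1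
    rw [hj] at h2 ⊢
    have hlow := (Nat.pow_dvd_pow_iff_le_right (by norm_num : 1 < 2)).1 h2
    have hhigh : j ≤ 2 := by
      by_contra hlt
      refine h4.2 (((pow_dvd_pow 2 (show 3 ≤ j by omega))).trans ?_)
      rw [← hj]; exact Subgroup.card_subgroup_dvd_card _
    rw [show j = 2 by omega]; norm_num
  refine ⟨hcard, ?_⟩
  haveI : Nontrivial ↥(P : Subgroup (PSL F)) :=
    Finite.one_lt_card_iff_nontrivial.1 (by rw [hcard]; norm_num)
  refine (Monoid.exponent_eq_prime_iff Nat.prime_two).2 fun x hx => ?_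
  have hd : orderOf (x : PSL F) ∣ 2 ^ 2 := by
    rw [Subgroup.orderOf_coe, show (2 : ℕ) ^ 2 = 4 by norm_num, ← hcard]
    exact orderOf_dvd_natCard x
  obtain ⟨k, hk, he⟩ := (Nat.dvd_prime_pow Nat.prime_two).1 hd
  rw [Subgroup.orderOf_coe] at he
  interval_cases k
  · exact absurd (orderOf_eq_one_iff.1 (by simpa using he)) hx
  · simpa using he
  · refine absurd ?_ (B.not_four_dvd (x : PSL F))
    rw [Subgroup.orderOf_coe, he]
    norm_num

/-- The principal block. -/
theorem mem_principalBlock_iff (B : PBlock (PSL F) p (Fintype.card F) w v ε)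
    (hmod : Fintype.card F % 8 = 3 ∨ Fintype.card F % 8 = 5) {M : Ideal AlgInt} (hM : IsPModular 2 M)
    (ψ : IrrCharacter (PSL F)) :
    ψ ∈ principalBlock M (PSL F) ↔ ψ = trivChar (PSL F) ∨ ∃ i, ψ = B.chi i := by
  haveI : Fact (Nat.Prime 2) := ⟨Nat.prime_two⟩
  obtain ⟨P⟩ : Nonempty (Sylow 2 (PSL F)) := inferInstance
  have hne : ∀ {s : PSL F}, orderOf s = 2 → s ≠ 1 := fun h e => by
    rw [e, orderOf_one] at h; norm_num at h
  have hone : ∀ s t : PSL F, orderOf s = 2 → orderOf t = 2 → IsConj s t := fun s t hs ht =>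
    CfsgLib.Involution.TwoTimesPSL.psl_one_class (hne hs) (BrauerSuzuki.mul_self_of_orderOf_two hs)
      (hne ht) (BrauerSuzuki.mul_self_of_orderOf_two ht)
  have hK := sylow_klein B hmod P
  rw [(BrauerSuzuki.klein_block P hK hone hM).1 ψ,
    ← Int.cast_ne_zero (α := ℂ), BrauerSuzuki.cast_coeff (BrauerSuzuki.gc_evenF P hK), B.evenF_eq]
  have e : classInner (fun x : PSL F => 1 + ∑ i, (B.sgn i : ℂ) * (B.chi i : PSL F → ℂ) x) ψ.1 =
      (if trivChar (PSL F) = ψ then 1 else 0) + ∑ i, (B.sgn i : ℂ) * if B.chi i = ψ then 1 else 0 := by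
    have hf : (fun x : PSL F => 1 + ∑ i, (B.sgn i : ℂ) * (B.chi i : PSL F → ℂ) x) =
        (trivChar (PSL F)).1 + ∑ i, (B.sgn i : ℂ) • (B.chi i : PSL F → ℂ) := by
      funext x; simp [trivChar_apply]
    rw [hf, Char.classInner_add_left, Char.classInner_sum_left]
    congr 1
    · rw [Char.classInner_irr (trivChar (PSL F)).2 ψ.2]
      exact if_congr Subtype.ext_iff.symm rfl rfl
    · refine Finset.sum_congr rfl fun i _ => ?_
      rw [Char.classInner_smul_left, Char.classInner_irr (B.chi i).2 ψ.2]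
      congr 1
      exact if_congr Subtype.ext_iff.symm rfl rfl
  rw [e]
  have htne : ∀ i, B.chi i ≠ trivChar (PSL F) := fun i h => B.chi_ne_one i (congrArg Subtype.val h)
  constructor
  · intro h
    by_contra hn
    rw [not_or, not_exists] at hn
    simp [Ne.symm hn.1, fun i => Ne.symm (hn.2 i)] at h
  · rintro (rfl | ⟨i, rfl⟩)
    · simp [htne]
    · rw [if_neg (htne i).symm, zero_add, Finset.sum_eq_single i]
      · rw [if_pos rfl, mul_one, Int.cast_ne_zero]
        intro h0; have := B.sgn_sq i; rw [h0] at this; norm_num at this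
      · intro j _ hj; rw [if_neg fun h => hj (B.chi_injective h), mul_zero]
      · intro h; exact absurd (Finset.mem_univ i) h

/-- A sum over the principal block. -/
theorem sum_principalBlock (B : PBlock (PSL F) p (Fintype.card F) w v ε)
    (hmod : Fintype.card F % 8 = 3 ∨ Fintype.card F % 8 = 5) {M : Ideal AlgInt} (hM : IsPModular 2 M)
    {A : Type*} [AddCommMonoid A] (f : IrrCharacter (PSL F) → A) :
    ∑ ψ ∈ (principalBlock M (PSL F)).toFinset, f ψ = f (trivChar (PSL F)) + ∑ i, f (B.chi i) := by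
  have hset : (principalBlock M (PSL F)).toFinset = insert (trivChar (PSL F)) (Finset.univ.image B.chi) := by
    ext ψ
    simp [Set.mem_toFinset, mem_principalBlock_iff B hmod hM, eq_comm]
  rw [hset, Finset.sum_insert (by simpa using fun i h => B.chi_ne_one i (congrArg Subtype.val h)),
    Finset.sum_image B.chi_injective.injOn]

end Principal

end CfsgLib.Recognition.ReeCentralizer
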