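import Cfsg.Agent.Lib.Recognition.ReeCentralizer.BlockPart
import Cfsg.Agent.Lib.Recognition.ReeCentralizer.PSLPrincipal
import Cfsg.Agent.Lib.Blocks.Eigen
import Cfsg.Agent.Lib.BrauerSuzuki.Basic
import Cfsg.Agent.Lib.Recognition.ReeCentralizer.RowShape

/-!
# Centralizer `2 × PSL₂(q)` of an involution: the three rows

`row B i χ` is the coefficient of `χ` in the lift of `φ_i = 1 - σ_i χ_i`.  A character with a non-zero
row lies in the principal block and its values on the section are `- ∑ row_i σ_i χ_i`.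
-/

set_option autoImplicit false
set_option linter.unusedSectionVars false
set_option linter.style.haveILetI false
set_option maxHeartbeats 1000000

namespace CfsgLib.Recognition.ReeCentralizer

open Subgroup Cfsg CfsgLib.Blocks
open scoped _root_.Classical ComplexConjugate

universe u v

variable {G : Type u} [Group G] [Fintype G] {F : Type v} [Field F] [Fintype F] {t : G}

namespace PBlock

variable {p w v : ℕ} {ε : ℤ} (B : PBlock (PSL F) p (Fintype.card F) w v ε)
include B

theorem isClassFunction_phi (i : Fin 3) : IsClassFunction (PSL F) (B.phi i) :=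
  Char.IsGeneralizedCharacter.isClassFunction (B.isGeneralizedCharacter_phi i)

theorem phi_zero (i : Fin 3) (y : PSL F) (hy : ¬ Odd (orderOf y)) : B.phi i y = 0 :=
  B.phi_vanish i (Nat.not_odd_iff_even.1 hy)

theorem inner_phi (f : PSL F → ℂ) (i : Fin 3) :
    classInner f (B.phi i) =
      classInner f (trivChar (PSL F)).1 - (B.sgn i : ℂ) * classInner f (B.chi i).1 := by
  rw [phi, Char.classInner_sub_right, Char.classInner_smul_right, map_intCast]
  rfl

end PBlock

theorem cast_bigQ (q : ℕ) (h : q % 8 = 3 ∨ q % 8 = 5) :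
    (bigQ q : ℂ) = 2 * (halfQ q : ℂ) + 1 ∧ (bigQ q : ℂ) = -(epsQ q : ℂ) * (q : ℂ) := by
  have hodd : bigQ q = 2 * halfQ q + 1 := by
    rw [halfQ, bigQ, epsQ]
    split_ifs <;> omega
  exact ⟨by exact_mod_cast hodd, by simp [bigQ]⟩

namespace Setting

variable (S : Setting G F t) {p w v : ℕ} {ε : ℤ} (B : PBlock (PSL F) p (Fintype.card F) w v ε)
include S

/-- The coefficient of `χ` in the lift of `φ_i`. -/
noncomputable def row (i : Fin 3) (χ : IrrCharacter G) : ℤ := BrauerSuzuki.coeff (S.lift (B.phi i)) χ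

theorem isGeneralizedCharacter_row (i : Fin 3) : IsGeneralizedCharacter G (S.lift (B.phi i)) :=
  S.isGeneralizedCharacter_lift (B.isGeneralizedCharacter_phi i)

theorem cast_row (i : Fin 3) (χ : IrrCharacter G) :
    (S.row B i χ : ℂ) = classInner (S.sect χ.1) (B.phi i) := by
  rw [← S.classInner_lift (Char.IsIrrCharacter.isClassFunction χ.2), ← Char.classInner_conj_symm,
    ← BrauerSuzuki.cast_coeff (S.isGeneralizedCharacter_row B i), map_intCast]
  rfl

theorem row_trivChar (i : Fin 3) : S.row B i (trivChar G) = 1 := by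
  refine Int.cast_injective (α := ℂ) ?_
  rw [S.cast_row, show S.sect (trivChar G).1 = (trivChar (PSL F)).1 from rfl, B.inner_phi,
    Char.classInner_irr_self (trivChar (PSL F)).2,
    Char.classInner_irr_ne (trivChar (PSL F)).2 (B.chi i).2 (B.chi_ne_one i).symm]
  norm_num

theorem row_gram (i j : Fin 3) :
    ∑ χ, S.row B i χ * S.row B j χ = if i = j then 4 else 2 := by
  refine Int.cast_injective (α := ℂ) ?_
  simp only [row]
  rw [← BrauerSuzuki.classInner_eq_sum_coeff (S.isGeneralizedCharacter_row B i)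
      (S.isGeneralizedCharacter_row B j),
    S.classInner_lift_lift (B.isClassFunction_phi j) (B.phi_zero i) (B.phi_zero j), B.phi_gram]
  split_ifs <;> norm_num

theorem row_deg (i : Fin 3) :
    ∑ χ, S.row B i χ * (charDegree (χ : G → ℂ) : ℤ) = 0 := by
  refine Int.cast_injective (α := ℂ) ?_
  push_cast
  have h := BrauerSuzuki.eq_sum_coeff (S.isGeneralizedCharacter_row B i) 1
  rw [S.lift_one] at h
  rw [h]
  refine Finset.sum_congr rfl fun χ _ => ?_
  rw [irr_one_eq]; rfl

/-- A character with a non-zero row lies in the principal block. -/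
theorem mem_of_row_ne {M : Ideal AlgInt} (hM : IsPModular 2 M) {χ : IrrCharacter G} {i : Fin 3}
    (h : S.row B i χ ≠ 0) : χ ∈ principalBlock M G := by
  by_contra hχ
  refine h (Int.cast_injective (α := ℂ) ?_)
  rw [S.cast_row, B.inner_phi, Int.cast_zero]
  set a := fun ψ : IrrCharacter (PSL F) => classInner (S.sect χ.1) ψ.1 with ha
  set f := fun y : PSL F => a (trivChar (PSL F)) + ∑ j, a (B.chi j) * (B.chi j : PSL F → ℂ) y with hf
  have h0 : ∀ y, Odd (orderOf y) → f y = 0 := fun y hy => by
    have := S.sum_eq_zero hM hχ hy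
    rw [sum_principalBlock B S.mod_eight hM] at this
    simpa [hf, ha, trivChar_apply] using this
  have h1 : classInner f (B.phi i) = 0 := by
    rw [classInner, Finset.sum_eq_zero fun y _ => ?_, mul_zero]
    by_cases hy : Odd (orderOf y)
    · rw [h0 y hy, zero_mul]
    · rw [B.phi_zero i y hy, map_zero, mul_zero]
  have hf' : f = a (trivChar (PSL F)) • (trivChar (PSL F)).1 +
      ∑ j, a (B.chi j) • (B.chi j : PSL F → ℂ) := by
    funext y; simp [hf, trivChar_apply]
  have htne : ∀ j, (trivChar (PSL F)).1 ≠ (B.chi j).1 := fun j => (B.chi_ne_one j).symm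
  rw [B.inner_phi, hf', Char.classInner_add_left, Char.classInner_add_left,
    Char.classInner_sum_left, Char.classInner_sum_left, Finset.sum_eq_single i
      (f := fun j => classInner (a (B.chi j) • (B.chi j : PSL F → ℂ)) (B.chi i).1)
      (fun j _ hj => by
        rw [Char.classInner_smul_left, Char.classInner_irr_ne (B.chi j).2 (B.chi i).2
          fun e => hj (B.chi_injective (Subtype.ext e)), mul_zero])
      (fun hi => absurd (Finset.mem_univ i) hi)] at h1
  simp only [Char.classInner_smul_left, Char.classInner_irr_self (B.chi i).2,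
    Char.classInner_irr_self (trivChar (PSL F)).2,
    Char.classInner_irr_ne (trivChar (PSL F)).2 (B.chi i).2 (htne i),
    fun j => Char.classInner_irr_ne (B.chi j).2 (trivChar (PSL F)).2 (htne j).symm, mul_zero,
    Finset.sum_const_zero, add_zero, zero_add, mul_one] at h1
  exact h1

/-- The values on the section of a character with a non-zero row. -/
theorem sect_eq_rows {χ : IrrCharacter G} (h : ∃ i, S.row B i χ ≠ 0) {y : PSL F}
    (hy : Odd (orderOf y)) :
    S.sect χ.1 y = -∑ i, (S.row B i χ : ℂ) * ((B.sgn i : ℂ) * (B.chi i : PSL F → ℂ) y) := by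
  obtain ⟨M, hM⟩ := exists_isPModular Nat.prime_two
  obtain ⟨i, hi⟩ := h
  rw [S.sect_eq_sum hM (S.mem_of_row_ne B hM hi) hy, sum_principalBlock B S.mod_eight hM,
    trivChar_apply, mul_one]
  set a := classInner (S.sect χ.1) (trivChar (PSL F)).1 with ha
  have hb : ∀ j, classInner (S.sect χ.1) (B.chi j).1 * (B.chi j : PSL F → ℂ) y =
      a * ((B.sgn j : ℂ) * (B.chi j : PSL F → ℂ) y) -
        (S.row B j χ : ℂ) * ((B.sgn j : ℂ) * (B.chi j : PSL F → ℂ) y) := fun j => by
    have hs : (B.sgn j : ℂ) * (B.sgn j : ℂ) = 1 := by exact_mod_cast B.sgn_sq j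
    rw [S.cast_row, B.inner_phi, ← ha]
    linear_combination (-(classInner (S.sect χ.1) (B.chi j).1 * (B.chi j : PSL F → ℂ) y)) * hs
  rw [Finset.sum_congr rfl fun j _ => hb j, Finset.sum_sub_distrib, ← Finset.mul_sum]
  linear_combination a * B.sum_odd hy

/-- The value at `t`: with `Q = - ε q` it is `Q r₀ - H (r₁ + r₂)`. -/
theorem row_apply_t {χ : IrrCharacter G} (h : ∃ i, S.row B i χ ≠ 0) :
    (χ : G → ℂ) t = -(ε : ℂ) * (Fintype.card F : ℂ) * S.row B 0 χ -
      (-(ε : ℂ) * (Fintype.card F : ℂ) - 1) / 2 * (S.row B 1 χ + S.row B 2 χ) := by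
  have h1 := S.sect_eq_rows B h (y := 1) (by simp)
  simp only [B.sgn_mul_deg, Fin.sum_univ_three] at h1
  rw [sect, map_one, mul_one] at h1
  rw [show (χ : G → ℂ) t = χ.1 t from rfl, h1]
  simp
  ring

/-- The value on the section at an element of order dividing `w`. -/
theorem row_apply_torus {χ : IrrCharacter G} (h : ∃ i, S.row B i χ ≠ 0) {y : G}
    (hy : Commute t y) (hw : y ^ w = 1) (hy1 : y ≠ 1) :
    (χ : G → ℂ) (t * y) = ((S.row B 1 χ + S.row B 2 χ - S.row B 0 χ : ℤ) : ℂ) := by
  have ho : Odd (orderOf y) := B.odd_w.of_dvd_nat (orderOf_dvd_of_pow_eq_one hw)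
  obtain ⟨z, rfl, hz⟩ := S.exists_eq_inj (mem_centralizer_singleton_iff.2 hy.symm.eq) ho
  have hzw : z ^ w = 1 := S.inj_injective (by rw [map_pow, hw, map_one])
  have hz1 : z ≠ 1 := fun e => hy1 (by rw [e, map_one])
  have h1 := S.sect_eq_rows B h hz
  simp only [B.chi_of_pow_w _ hz1 hzw, Fin.sum_univ_three] at h1
  rw [sect] at h1
  rw [show (χ : G → ℂ) (t * S.inj z) = χ.1 (t * S.inj z) from rfl, h1]
  have he := B.eps_sq
  simp [PBlock.sgn]
  linear_combination ((S.row B 1 χ : ℂ) + S.row B 2 χ - S.row B 0 χ) * he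

/-- The value at `t` in terms of `bigQ` and `halfQ`. -/
theorem row_apply_t_int {u : ℕ} (B' : PBlock (PSL F) p (Fintype.card F) u v (epsQ (Fintype.card F)))
    {χ : IrrCharacter G} (h : ∃ i, S.row B' i χ ≠ 0) :
    (χ : G → ℂ) t = ((bigQ (Fintype.card F) * S.row B' 0 χ -
      halfQ (Fintype.card F) * (S.row B' 1 χ + S.row B' 2 χ) : ℤ) : ℂ) := by
  rw [S.row_apply_t B' h]
  obtain ⟨hc, hQ⟩ := cast_bigQ (Fintype.card F) S.mod_eight
  rw [← hQ]
  push_cast
  linear_combination (-((S.row B' 1 χ : ℂ) + S.row B' 2 χ) / 2) * hc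

/-- The rows as coefficients. -/
theorem row_spec (i : Fin 3) (χ : IrrCharacter G) :
    classInner χ.1 (S.lift (B.phi i)) = (S.row B i χ : ℂ) := by
  rw [S.cast_row, S.classInner_lift (Char.IsIrrCharacter.isClassFunction χ.2)]

/-- Without the principal character the rows have the standard or the triangle shape. -/
theorem row_hasShape :
    HasShape (fun i χ => if χ = trivChar G then 0 else S.row B i χ) stdPat ∨
      HasShape (fun i χ => if χ = trivChar G then 0 else S.row B i χ) triPat := by
  have key : ∀ f : IrrCharacter G → ℤ, ∀ i,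
      ∑ χ, (if χ = trivChar G then 0 else S.row B i χ) * f χ =
        ∑ χ, S.row B i χ * f χ - f (trivChar G) := by
    intro f i
    rw [← Finset.add_sum_erase _ (fun χ => S.row B i χ * f χ) (Finset.mem_univ (trivChar G)),
      ← Finset.add_sum_erase _ _ (Finset.mem_univ (trivChar G)), if_pos rfl, S.row_trivChar, one_mul,
      zero_mul, zero_add, add_sub_cancel_left]
    exact Finset.sum_congr rfl fun χ hχ => by rw [if_neg (Finset.mem_erase.1 hχ).1]
  have hgram : ∀ i j, ∑ χ, (if χ = trivChar G then 0 else S.row B i χ) *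
      (if χ = trivChar G then 0 else S.row B j χ) = if i = j then 3 else 1 := by
    intro i j
    rw [key, if_pos rfl, sub_zero]
    simp only [mul_comm (S.row B i _)]
    rw [key, S.row_trivChar]
    have h := S.row_gram B j i
    simp only [mul_comm (S.row B j _), eq_comm (a := j)] at h ⊢
    rw [h]
    split_ifs <;> norm_num
  refine row_shape _ (fun χ => (charDegree (χ : G → ℂ) : ℤ))
    (fun χ => by exact_mod_cast (charDegree_pos χ).ne') (fun i => by rw [hgram, if_pos rfl])
    (fun i j hij => by rw [hgram, if_neg hij]) fun i => ?_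
  rw [key, S.row_deg]
  have h1 : charDegree ((trivChar G : IrrCharacter G) : G → ℂ) = 1 := by
    show ⌊((1 : ℂ)).re⌋₊ = 1
    simp
  rw [h1]; norm_num

end Setting

/-- With one class of involutions and an elementary Sylow 2-subgroup of order eight. -/
theorem exists_int_dvd (P : Subgroup G) (h8 : Nat.card P = 8)
    (hP : ∀ x ∈ P, x ≠ 1 → IsConj t x) (χ : IrrCharacter G) :
    ∃ T : ℤ, (χ : G → ℂ) t = T ∧ 8 ∣ (charDegree (χ : G → ℂ) : ℤ) - T := by
  obtain ⟨n, hn⟩ := Char.IsCharacter.classInner_nat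
    (Char.IsCharacter.restrict (Char.isCharacter_irr χ) P) (Char.isCharacter_one (G := ↥P))
  rw [Char.classInner_fun_one_right, ← Finset.add_sum_erase _ _ (Finset.mem_univ (1 : ↥P)),
    Finset.sum_congr rfl (g := fun _ => (χ : G → ℂ) t) (fun x hx => by
      obtain ⟨g, hg⟩ := isConj_iff.1 (hP x x.2 fun e => (Finset.mem_erase.1 hx).1 (Subtype.ext e))
      rw [← hg, irr_conj_apply]),
    Finset.sum_const, Finset.card_erase_of_mem (Finset.mem_univ _), Finset.card_univ,
    ← Nat.card_eq_fintype_card, h8, OneMemClass.coe_one, irr_one_eq, nsmul_eq_mul] at hn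
  obtain ⟨T, hT⟩ : ∃ T : ℤ, (χ : G → ℂ) t = T := by
    refine Char.exists_int_of_isIntegral_rat (irr_isIntegral χ _)
      (q := (8 * (n : ℚ) - charDegree (χ : G → ℂ)) / 7) ?_
    push_cast
    norm_num at hn ⊢
    linear_combination (8 / 7 : ℂ) * hn
  refine ⟨T, hT, (n : ℤ) - T, ?_⟩
  rw [hT] at hn
  norm_num at hn
  have e : ((charDegree (χ : G → ℂ) : ℤ) + 7 * T : ℂ) = ((8 * (n : ℤ) : ℤ) : ℂ) := by
    push_cast; linear_combination 8 * hn
  have e' : (charDegree (χ : G → ℂ) : ℤ) + 7 * T = 8 * (n : ℤ) := by exact_mod_cast e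
  linarith

end CfsgLib.Recognition.ReeCentralizer
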