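import Cfsg.Agent.Lib.Recognition.ReeCentralizer.Assembly
import Cfsg.Agent.Lib.Recognition.ReeCentralizer.Rows

/-!
# The main case: the rows of the principal block feed the assembly

What is left as hypotheses are the count for the three columns, the congruence modulo `8` at `t` and
the field automorphism with its action on the irreducible characters.
-/

set_option autoImplicit false
set_option linter.unusedSectionVars false
set_option linter.style.haveILetI false

namespace CfsgLib.Recognition.ReeCentralizer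

open Subgroup Cfsg CfsgLib.Blocks
open scoped _root_.Classical ComplexConjugate

universe u v

variable {G : Type u} [Group G] [Fintype G] {F : Type v} [Field F] [Fintype F] {t : G} {w : ℕ}
  {V W : Subgroup G} {s x : G}

namespace Setting

variable (S : Setting G F t) {p v : ℕ} {ε : ℤ} (B : PBlock (PSL F) p (Fintype.card F) w v ε)
include S

/-- The rows without the trivial character, in the form used by the assembly. -/
theorem row_hasShape_fun :
    HasShape (fun i χ => if χ.1 = (fun _ => (1 : ℂ)) then 0 else S.row B i χ) stdPat ∨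
      HasShape (fun i χ => if χ.1 = (fun _ => (1 : ℂ)) then 0 else S.row B i χ) triPat := by
  have e : (fun (i : Fin 3) (χ : IrrCharacter G) => if χ.1 = (fun _ => (1 : ℂ)) then 0 else S.row B i χ) =
      fun i χ => if χ = trivChar G then 0 else S.row B i χ := by
    funext i χ
    exact if_congr ⟨fun h => Subtype.ext h, fun h => h ▸ rfl⟩ rfl rfl
  rw [e]
  exact S.row_hasShape B

end Setting

/-- **The main case**, up to the count, the congruence at `t` and the field automorphism. -/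
theorem Frame.ree_order (Fr : Frame G t w V W s x) (S : Setting G F t) {p v : ℕ} {ε : ℤ}
    (B : PBlock (PSL F) p (Fintype.card F) w v ε)
    (hTd : ∀ χ : IrrCharacter G, ∃ T : ℤ, (χ : G → ℂ) t = T ∧ 8 ∣ (charDegree (χ : G → ℂ) : ℤ) - T)
    (hcount : ∀ i : Fin 3, ∑ χ : IrrCharacter G, (S.row B i χ : ℂ) * (χ.1 t ^ 2 / χ.1 1) =
      ![-(ε : ℂ) * (Fintype.card F : ℂ) - 1,
        -(ε : ℂ) * (Fintype.card F : ℂ) * (-(ε : ℂ) * (Fintype.card F : ℂ) - 3) / (-(ε : ℂ) * (Fintype.card F : ℂ) + 1),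
        -(ε : ℂ) * (Fintype.card F : ℂ) * (-(ε : ℂ) * (Fintype.card F : ℂ) - 3) / (-(ε : ℂ) * (Fintype.card F : ℂ) + 1)] i *
        (-(ε : ℂ) * (Nat.card (centralizer ({t} : Set G)) : ℂ) ^ 2 / Nat.card G))
    (σ : ℂ ≃+* ℂ) (hσ : ∀ z : ℂ, z ^ w = 1 → σ z = z) (π : Equiv.Perm (IrrCharacter G))
    (hπ : ∀ χ g, (π χ).1 g = σ (χ.1 g))
    (hπ0 : ∀ χ, S.row B 0 (π χ) = S.row B 0 χ) (hπ1 : ∀ χ, S.row B 1 (π χ) = S.row B 2 χ)
    (hπ2 : ∀ χ, S.row B 2 (π χ) = S.row B 1 χ) :
    ∃ m : ℕ, 1 ≤ m ∧ Fintype.card F = 3 ^ (2 * m + 1) ∧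
      Nat.card G = (3 ^ (2 * m + 1)) ^ 3 * ((3 ^ (2 * m + 1)) ^ 3 + 1) * (3 ^ (2 * m + 1) - 1) := by
  choose T hT hmod using hTd
  have hw := B.hw
  have hQ : ∃ c : ℤ, -ε * (Fintype.card F : ℤ) - 1 = 2 * c := by
    obtain ⟨k, hk⟩ := S.odd_card
    rcases B.sign with rfl | rfl
    · exact ⟨-(k : ℤ) - 1, by rw [hk]; push_cast; ring⟩
    · exact ⟨(k : ℤ), by rw [hk]; push_cast; ring⟩
  obtain ⟨c, hc⟩ := hQ
  refine Fr.ree_order_of_rows S B (S.row B) (fun χ => (charDegree (χ : G → ℂ) : ℤ)) T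
    (fun χ => by rw [irr_one_eq]; push_cast; rfl) hT (fun i χ => ?_) (fun χ hχ => ?_) (fun χ hχ y hy hy1 => ?_)
    hmod hcount σ hσ π hπ hπ0 hπ1 hπ2 (S.row_hasShape_fun B)
  · exact S.row_spec B i χ
  · have h := S.row_apply_t B hχ
    rw [hT] at h
    rw [hc, Int.mul_ediv_cancel_left _ (by norm_num : (2 : ℤ) ≠ 0)]
    have hc' : (-(ε : ℂ) * (Fintype.card F : ℂ) - 1) / 2 = (c : ℂ) := by
      have := congrArg (fun z : ℤ => (z : ℂ)) hc
      push_cast at this
      rw [this]; ring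
    rw [hc'] at h
    exact_mod_cast h
  · exact S.row_apply_torus B hχ (Fr.comm_VW t Fr.t_mem y hy) (Fr.W_pow_w hy) hy1

end CfsgLib.Recognition.ReeCentralizer
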