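import Cfsg.Agent.Lib.Recognition.ReeCentralizer.TorusFun

/-!
# The coefficients of the test functions on the torus

The congruences for the degree and the value at `t`, the difference of the two kinds on the section
of `t`, the sums `∑ ⟨τ, χ⟩ χ(t)² / χ(1)` and the invariance under field automorphisms.
-/

set_option autoImplicit false
set_option linter.unusedSectionVars false
set_option linter.style.haveILetI false
set_option linter.unnecessarySeqFocus false

namespace CfsgLib.Recognition.ReeCentralizer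

open Subgroup Cfsg
open scoped _root_.Classical ComplexConjugate

universe u

theorem map_extendByZero {G : Type u} [Group G] (H : Subgroup G) (σ : ℂ →+* ℂ) (θ : H → ℂ) (g : G) :
    σ (extendByZero H θ g) = extendByZero H (fun h => σ (θ h)) g := by
  by_cases hg : g ∈ H <;>
    simp [Char.extendByZero_apply_mem, Char.extendByZero_apply_notMem, hg]

theorem map_indFun {G : Type u} [Group G] [Fintype G] (H : Subgroup G) (σ : ℂ →+* ℂ) (θ : H → ℂ) (g : G) :
    σ (indFun H θ g) = indFun H (fun h => σ (θ h)) g := by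
  simp only [Char.indFun_def, map_mul, map_inv₀, map_natCast, map_sum, map_extendByZero]

variable {G : Type u} [Group G] {t : G} {w : ℕ} {V W : Subgroup G} {s x : G}

namespace Frame

variable (Fr : Frame G t w V W s x)
include Fr

/-- The involutions of `V` are conjugates of `t` under `x`. -/
theorem V_orbit {v : G} (hv : v ∈ V) (hv1 : v ≠ 1) : ∃ i : ℕ, v = x ^ i * t * (x ^ i)⁻¹ := by
  haveI : Finite V := Nat.finite_of_card_ne_zero (by rw [Fr.card_V]; norm_num)
  haveI := Fintype.ofFinite ↥V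
  let a : ℕ → ↥V := fun i => ⟨x ^ i * t * (x ^ i)⁻¹, Fr.conj_xpow_V Fr.t_mem i⟩
  have ht1 := Fr.t_ne_one
  have ha1 : ∀ i, a i ≠ 1 := fun i h => ht1 (by
    have e : x ^ i * t * (x ^ i)⁻¹ = x ^ i * 1 * (x ^ i)⁻¹ := by
      rw [show x ^ i * t * (x ^ i)⁻¹ = 1 from congrArg Subtype.val h]; simp
    exact mul_left_cancel (mul_right_cancel e))
  have h01 : a 1 ≠ a 0 := fun h => Fr.x_move (by simpa [a] using congrArg Subtype.val h)
  have hstep : ∀ i j, a i = a j → a (i + 1) = a (j + 1) := fun i j h => Subtype.ext (by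
    have e : x ^ i * t * (x ^ i)⁻¹ = x ^ j * t * (x ^ j)⁻¹ := congrArg Subtype.val h
    show x ^ (i + 1) * t * (x ^ (i + 1))⁻¹ = x ^ (j + 1) * t * (x ^ (j + 1))⁻¹
    rw [pow_succ', pow_succ']
    calc x * x ^ i * t * (x * x ^ i)⁻¹ = x * (x ^ i * t * (x ^ i)⁻¹) * x⁻¹ := by group
      _ = x * x ^ j * t * (x * x ^ j)⁻¹ := by rw [e]; group)
  have h30 : a 3 = a 0 := Subtype.ext (by simp [a, Fr.x_pow_three])
  have h02 : a 2 ≠ a 0 := fun h => h01 ((hstep _ _ h).symm.trans h30)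
  have h12 : a 2 ≠ a 1 := fun h => h02 ((hstep _ _ h).symm.trans h30)
  have hcard : ({1, a 0, a 1, a 2} : Finset ↥V) = Finset.univ := by
    refine Finset.eq_univ_of_card _ ?_
    rw [Finset.card_insert_of_notMem, Finset.card_insert_of_notMem, Finset.card_insert_of_notMem,
      Finset.card_singleton, ← Nat.card_eq_fintype_card, Fr.card_V] <;>
      simp [(ha1 0).symm, (ha1 1).symm, (ha1 2).symm, h01.symm, h02.symm, h12.symm]
  have := Finset.mem_univ (⟨v, hv⟩ : ↥V)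
  rw [← hcard] at this
  simp only [Finset.mem_insert, Finset.mem_singleton, Subtype.ext_iff] at this
  rcases this with h | h | h | h
  · exact absurd h hv1
  exacts [⟨0, h⟩, ⟨1, h⟩, ⟨2, h⟩]

/-- The value of a class function at `v y` is one on the section of `t`. -/
theorem apply_mul_eq {θ : G → ℂ} (hθ : IsClassFunction G θ) {c : ℂ}
    (hc : ∀ y ∈ W, y ≠ 1 → θ (t * y) = c) {v y : G} (hv : v ∈ V) (hv1 : v ≠ 1) (hy : y ∈ W) (hy1 : y ≠ 1) :
    θ (v * y) = c := by
  obtain ⟨i, rfl⟩ := Fr.V_orbit hv hv1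
  have h3 : (x ^ i)⁻¹ = x ^ (2 * i) := by
    refine inv_eq_of_mul_eq_one_right ?_
    rw [← pow_add, show i + 2 * i = 3 * i by ring, pow_mul, Fr.x_pow_three, one_pow]
  have hmem : (x ^ i)⁻¹ * y * x ^ i ∈ W := by
    have := Fr.conj_xpow_W hy (2 * i); rwa [← h3, inv_inv] at this
  have hne : (x ^ i)⁻¹ * y * x ^ i ≠ 1 := fun e => hy1 (by
    calc y = x ^ i * ((x ^ i)⁻¹ * y * x ^ i) * (x ^ i)⁻¹ := by group
      _ = 1 := by rw [e]; group)
  rw [← hc _ hmem hne, ← hθ (t * ((x ^ i)⁻¹ * y * x ^ i)) (x ^ i)]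
  congr 1; group

theorem apply_V {θ : G → ℂ} (hθ : IsClassFunction G θ) {v : G} (hv : v ∈ V) (hv1 : v ≠ 1) :
    θ v = θ t := by
  obtain ⟨i, rfl⟩ := Fr.V_orbit hv hv1
  exact hθ t _

variable [Fintype G]

theorem sum_V_apply {θ : G → ℂ} (hθ : IsClassFunction G θ) (μ : ↥V →* ℂˣ) :
    ∑ v : ↥V, (μ v : ℂ) * θ (v : G) = θ 1 - θ t + (if μ = 1 then 4 * θ t else 0) := by
  have h : ∀ v : ↥V, (μ v : ℂ) * θ (v : G) = (μ v : ℂ) * θ t + (if v = 1 then θ 1 - θ t else 0) := by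
    intro v
    split_ifs with hv
    · subst hv; simp
    · rw [Fr.apply_V hθ v.2 (fun e => hv (Subtype.ext e)), add_zero]
  rw [Finset.sum_congr rfl fun v _ => h v, Finset.sum_add_distrib, ← Finset.sum_mul, Fr.sum_mu,
    Finset.sum_ite_eq' Finset.univ (1 : ↥V) (fun _ => θ 1 - θ t), if_pos (Finset.mem_univ (1 : ↥V))]
  split_ifs <;> ring

/-- **Values on the torus of a character with constant coefficient.** -/
theorem coeff_values {θ : G → ℂ} (hθ : IsGeneralizedCharacter G θ) (μ : ↥V →* ℂˣ) {m : ℤ}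
    (hm : ∀ ω : ↥W →* ℂˣ, ω ≠ 1 → classInner θ (Fr.tau μ ω) = m) :
    (∀ y : ↥W, y ≠ 1 → ∑ v : ↥V, (μ v : ℂ) * θ ((v : G) * y) = 4 * (m : ℂ)) ∧
      ∃ k : ℤ, θ 1 - θ t + (if μ = 1 then 4 * θ t else 0) = 4 * (m : ℂ) + 4 * (w : ℂ) * k := by
  have hθc := Char.IsGeneralizedCharacter.isClassFunction hθ
  set F : ↥W → ℂ := fun y => ∑ v : ↥V, (μ v : ℂ) * θ ((v : G) * y) with hF
  have hw0 : (w : ℂ) ≠ 0 := by exact_mod_cast Fr.w_pos.ne'
  obtain ⟨a, ha⟩ : ∃ a : ℤ, ∑ y, F y = 4 * (w : ℂ) * a := by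
    let φ : ↥(V ⊔ W) →* ℂˣ := μ.comp ((MonoidHom.fst _ _).comp Fr.equiv.symm.toMonoidHom)
    obtain ⟨a, ha⟩ := Char.IsGeneralizedCharacter.classInner_int hθ
      (Char.IsGeneralizedCharacter.indFun _
        (Char.IsCharacter.isGeneralizedCharacter (Char.isCharacter_hom φ)))
    refine ⟨a, ?_⟩
    rw [Char.classInner_indFun_right _ _ hθc, classInner, Fr.card_D, Fr.sum_D, Finset.sum_comm,
      inv_mul_eq_iff_eq_mul₀ (by exact_mod_cast (by have := Fr.w_pos; omega : 4 * w ≠ 0))] at ha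
    push_cast at ha
    rw [← ha]
    refine Finset.sum_congr rfl fun y _ => Finset.sum_congr rfl fun v _ => ?_
    simp only [φ, MonoidHom.comp_apply, MulEquiv.coe_toMonoidHom, MulEquiv.symm_apply_apply,
      MonoidHom.coe_fst, Fr.coe_equiv, Fr.conj_mu]
    ring
  set F' : ↥W → ℂ := fun y => F y - 4 * (m : ℂ) - (if y = 1 then 4 * (w : ℂ) * ((a : ℂ) - m) else 0)
    with hF'
  have hWc : ∀ p q : ↥W, p * q = q * p := fun p q => Subtype.ext (Fr.W_comm p.2 q.2).eq
  have hzero : F' = 0 := by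
    refine Char.eq_zero_of_orth (fun g h => by rw [hWc h g, mul_inv_cancel_right]) fun χ hχ => ?_
    obtain ⟨ω, rfl⟩ := Char.exists_hom_of_apply_one_eq_one (Char.IsIrrCharacter.isCharacter hχ)
      (Char.apply_one_eq_one_of_comm hWc hχ)
    rw [classInner]
    have hsum : ∑ y, F' y * conj (ω y : ℂ) = 0 := by
      have e : ∀ y : ↥W, F' y * conj (ω y : ℂ) = F y * conj (ω y : ℂ) - 4 * (m : ℂ) * conj (ω y : ℂ) -
          (if y = 1 then 4 * (w : ℂ) * ((a : ℂ) - m) else 0) := by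
        intro y; simp only [hF']; split_ifs with h
        · subst h; simp
        · ring
      rw [Finset.sum_congr rfl fun y _ => e y, Finset.sum_sub_distrib, Finset.sum_sub_distrib,
        ← Finset.mul_sum, ← map_sum, sum_hom,
        Finset.sum_ite_eq' Finset.univ (1 : ↥W) (fun _ => 4 * (w : ℂ) * ((a : ℂ) - m))]
      by_cases hω : ω = 1
      · subst hω; simp [ha]; rw [← Nat.card_eq_fintype_card, Fr.card_W]; ring
      · have h := hm ω hω
        rw [Fr.classInner_tau hθc, inv_mul_eq_iff_eq_mul₀ (mul_ne_zero (by norm_num) hw0)] at h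
        simp only [mul_sub, mul_one, Finset.sum_sub_distrib] at h
        rw [if_neg hω, map_zero, mul_zero, sub_zero, if_pos (Finset.mem_univ _)]
        change ∑ y, F y - ∑ y, F y * conj (ω y : ℂ) = _ at h
        rw [ha] at h
        linear_combination -h
    rw [hsum, mul_zero]
  refine ⟨fun y hy => ?_, a - m, ?_⟩
  · have := congrFun hzero y
    simp only [hF', if_neg hy, Pi.zero_apply, sub_zero] at this
    exact sub_eq_zero.1 this
  · have := congrFun hzero 1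
    simp only [hF', if_true, Pi.zero_apply] at this
    have e : F 1 = θ 1 - θ t + (if μ = 1 then 4 * θ t else 0) := by
      rw [← Fr.sum_V_apply hθc μ]; simp [hF]
    push_cast
    linear_combination this - e

/-- The congruence for the functions of norm three. -/
theorem dvd_of_coeff {θ : G → ℂ} (hθ : IsGeneralizedCharacter G θ) {μ : ↥V →* ℂˣ} (hμ : μ ≠ 1) {m d T : ℤ}
    (hd : θ 1 = d) (hT : θ t = T) (hm : ∀ ω : ↥W →* ℂˣ, ω ≠ 1 → classInner θ (Fr.tau μ ω) = m) :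
    4 * (w : ℤ) ∣ d - T - 4 * m := by
  obtain ⟨k, hk⟩ := (Fr.coeff_values hθ μ hm).2
  rw [hd, hT, if_neg hμ, add_zero] at hk
  have e : d - T = 4 * m + 4 * (w : ℤ) * k := by exact_mod_cast hk
  exact ⟨k, by linarith⟩

/-- The congruence for the functions of norm seven. -/
theorem dvd_of_coeff_one {θ : G → ℂ} (hθ : IsGeneralizedCharacter G θ) {m d T : ℤ}
    (hd : θ 1 = d) (hT : θ t = T) (hm : ∀ ω : ↥W →* ℂˣ, ω ≠ 1 → classInner θ (Fr.tau 1 ω) = m) :
    4 * (w : ℤ) ∣ d + 3 * T - 4 * m := by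
  obtain ⟨k, hk⟩ := (Fr.coeff_values hθ 1 hm).2
  rw [hd, hT, if_pos rfl] at hk
  have e : d - T + 4 * T = 4 * m + 4 * (w : ℤ) * k := by exact_mod_cast hk
  exact ⟨k, by linarith⟩

/-- The two kinds differ by the value on the section. -/
theorem coeff_diff {θ : G → ℂ} (hθ : IsClassFunction G θ) {c : ℂ}
    (hc : ∀ y ∈ W, y ≠ 1 → θ (t * y) = c) {μ : ↥V →* ℂˣ} (hμ : μ ≠ 1) {ω : ↥W →* ℂˣ} (hω : ω ≠ 1) :
    classInner θ (Fr.tau 1 ω) = classInner θ (Fr.tau μ ω) + c := by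
  have key : ∀ y : ↥W, (∑ v : ↥V, (((1 : ↥V →* ℂˣ) v : ℂˣ) : ℂ) * θ ((v : G) * y)) * (1 - conj (ω y : ℂ)) =
      (∑ v : ↥V, (μ v : ℂ) * θ ((v : G) * y)) * (1 - conj (ω y : ℂ)) + 4 * c * (1 - conj (ω y : ℂ)) := by
    intro y
    rcases eq_or_ne y 1 with rfl | hy
    · simp
    rw [← add_mul]
    congr 1
    have h : ∀ v : ↥V, ((((1 : ↥V →* ℂˣ) v : ℂˣ) : ℂ) * θ ((v : G) * y)) =
        (μ v : ℂ) * θ ((v : G) * y) + (1 - (μ v : ℂ)) * c := by
      intro v
      rcases eq_or_ne v 1 with rfl | hv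
      · simp
      · rw [Fr.apply_mul_eq hθ hc v.2 (fun e => hv (Subtype.ext e)) y.2 (fun e => hy (Subtype.ext e))]
        simp; ring
    rw [Finset.sum_congr rfl fun v _ => h v, Finset.sum_add_distrib, ← Finset.sum_mul,
      Finset.sum_sub_distrib, Fr.sum_mu, if_neg hμ]
    simp [Finset.card_univ, ← Nat.card_eq_fintype_card, Fr.card_V]
  rw [Fr.classInner_tau hθ, Fr.classInner_tau hθ, Finset.sum_congr rfl fun y _ => key y,
    Finset.sum_add_distrib, mul_add, ← Finset.mul_sum]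
  congr 1
  rw [Finset.sum_sub_distrib, ← map_sum, sum_hom, if_neg hω, Finset.sum_const, Finset.card_univ,
    ← Nat.card_eq_fintype_card, Fr.card_W]
  have hw0 : (w : ℂ) ≠ 0 := by exact_mod_cast Fr.w_pos.ne'
  simp; field_simp

/-- The products of two involutions: a character-theoretic count. -/
theorem sum_inner_sq_div {θ : G → ℂ} (hθ : IsClassFunction G θ) :
    ∑ χ : IrrCharacter G, classInner θ χ.1 * (χ.1 t ^ 2 / χ.1 1) =
      (Nat.card G : ℂ)⁻¹ * ∑ h : G, θ (t * (h * t * h⁻¹)) := by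
  have hG : (Nat.card G : ℂ) ≠ 0 := by exact_mod_cast Nat.card_pos.ne'
  conv_rhs => rw [Char.IsClassFunction.eq_sum_irr hθ]
  simp only [Finset.sum_apply, Pi.smul_apply, smul_eq_mul]
  rw [Finset.sum_comm, Finset.mul_sum]
  refine Finset.sum_congr rfl fun χ _ => ?_
  rw [← Finset.mul_sum, Char.IsIrrCharacter.sum_mul_conjugate χ.2]
  field_simp

theorem sum_conj_eq {M : Type*} [AddCommMonoid M] (f : G → M) :
    ∑ g : G, f (g * t * g⁻¹) =
      Nat.card (centralizer ({t} : Set G)) • ∑ a ∈ Finset.univ.filter (fun a : G => orderOf a = 2), f a := by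
  have ht2 : orderOf t = 2 := orderOf_eq_prime (by rw [sq]; exact Fr.t_mul_self') Fr.t_ne_one
  rw [← Finset.sum_fiberwise_of_maps_to (s := Finset.univ)
      (t := Finset.univ.filter fun a : G => orderOf a = 2) (g := fun g : G => g * t * g⁻¹)
      (fun g _ => by
        simp only [Finset.mem_filter, Finset.mem_univ, true_and]
        rw [show g * t * g⁻¹ = MulAut.conj g t from rfl, MulEquiv.orderOf_eq]; exact ht2),
    Finset.smul_sum]
  refine Finset.sum_congr rfl fun a ha => ?_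
  obtain ⟨g₀, hg₀⟩ := isConj_iff.1 (Fr.conj_inv a (Finset.mem_filter.1 ha).2)
  rw [Finset.sum_congr rfl fun g hg => congrArg f (Finset.mem_filter.1 hg).2, Finset.sum_const]
  congr 1
  rw [← Fintype.card_subtype, ← Nat.card_eq_fintype_card]
  refine Nat.card_congr
    { toFun := fun g => ⟨g₀⁻¹ * g.1, mem_centralizer_singleton_iff.2 (by
        have e : g.1 * t * g.1⁻¹ = g₀ * t * g₀⁻¹ := g.2.trans hg₀.symm
        calc g₀⁻¹ * g.1 * t = g₀⁻¹ * (g.1 * t * g.1⁻¹) * g.1 := by group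
          _ = t * (g₀⁻¹ * g.1) := by rw [e]; group)⟩
      invFun := fun c => ⟨g₀ * c.1, by
        have e : c.1 * t = t * c.1 := mem_centralizer_singleton_iff.1 c.2
        show g₀ * c.1 * t * (g₀ * c.1)⁻¹ = a
        rw [← hg₀, mul_assoc g₀, e]; group⟩
      left_inv := fun g => Subtype.ext (mul_inv_cancel_left g₀ g.1)
      right_inv := fun c => Subtype.ext (inv_mul_cancel_left g₀ c.1) }

/-- **The count for the test functions.** -/
theorem sum_tau_sq_div (μ : ↥V →* ℂˣ) {ω : ↥W →* ℂˣ} (hω : ω ≠ 1) :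
    ∑ χ : IrrCharacter G, classInner (Fr.tau μ ω) χ.1 * (χ.1 t ^ 2 / χ.1 1) =
      if μ = 1 then 4 * (w : ℂ) * (Nat.card (centralizer ({t} : Set G)) : ℂ) ^ 2 / Nat.card G else 0 := by
  rw [Fr.sum_inner_sq_div (Fr.isClassFunction_tau μ ω)]
  set C : ℂ := (Nat.card (centralizer ({t} : Set G)) : ℂ) with hC
  set K := Finset.univ.filter fun a : G => orderOf a = 2 with hK
  have h1 : ∑ h : G, Fr.tau μ ω (t * (h * t * h⁻¹)) = C * ∑ a ∈ K, Fr.tau μ ω (t * a) := by
    rw [Fr.sum_conj_eq (fun a => Fr.tau μ ω (t * a)), nsmul_eq_mul]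
  have h2 : ∀ g : G, ∀ f : G → ℂ, ∑ a ∈ K, f (g⁻¹ * a * g) = ∑ a ∈ K, f a := fun g f => by
    refine Finset.sum_equiv (MulAut.conj g⁻¹).toEquiv (fun a => ?_) (fun a _ => by simp)
    have e : orderOf (g⁻¹ * a * g) = orderOf a := by
      simpa using MulEquiv.orderOf_eq (MulAut.conj g⁻¹) a
    simp [hK, e]
  have hD : (Nat.card ↥(V ⊔ W) : ℂ) ≠ 0 := by exact_mod_cast Nat.card_pos.ne'
  have hG : (Nat.card G : ℂ) ≠ 0 := by exact_mod_cast Nat.card_pos.ne'
  set φ := extendByZero (V ⊔ W) (Fr.phi μ ω) with hφ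
  have h3 : ∑ a ∈ K, Fr.tau μ ω (t * a) =
      (Nat.card ↥(V ⊔ W) : ℂ)⁻¹ * (C * ∑ b ∈ K, ∑ a ∈ K, φ (b * a)) := by
    simp only [tau, Char.indFun_def, ← Finset.mul_sum]
    congr 1
    rw [Finset.sum_comm]
    have : ∀ g : G, ∑ a ∈ K, φ (g⁻¹ * (t * a) * g) = (fun b => ∑ a ∈ K, φ (b * a)) (g⁻¹ * t * g⁻¹⁻¹) := by
      intro g
      simp only [inv_inv]
      rw [← h2 g (fun a => φ (g⁻¹ * t * g * a))]
      exact Finset.sum_congr rfl fun a _ => by congr 1; group
    rw [Finset.sum_congr rfl fun g _ => this g,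
      ← (Equiv.sum_comp (Equiv.inv G) (fun g => (fun b => ∑ a ∈ K, φ (b * a)) (g⁻¹ * t * g⁻¹⁻¹)))]
    simp only [Equiv.inv_apply, inv_inv]
    rw [Fr.sum_conj_eq (fun b => ∑ a ∈ K, φ (b * a)), nsmul_eq_mul]
  have h4 : ∀ b ∈ K, ∑ a ∈ K, φ (b * a) = ∑ d : ↥(V ⊔ W), if b * (d : G) ∈ K then Fr.phi μ ω d else 0 := by
    intro b hb
    have hbb : b * b = 1 := by
      rw [← sq, ← (Finset.mem_filter.1 hb).2]; exact pow_orderOf_eq_one b
    rw [← Finset.sum_ite_mem_eq K (fun a => φ (b * a)), ← Equiv.sum_comp (Equiv.mulLeft b)]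
    simp only [Equiv.coe_mulLeft, ← mul_assoc, hbb, one_mul]
    rw [Finset.sum_congr rfl fun d _ => show (if b * d ∈ K then φ d else 0) =
      φ d * (if b * d ∈ K then 1 else 0) by split_ifs <;> simp, hφ, Char.sum_extendByZero_mul]
    exact Finset.sum_congr rfl fun d _ => by split_ifs <;> simp
  rw [h1, h3, Finset.sum_congr rfl h4, Finset.sum_comm]
  have h5 : ∀ d : ↥(V ⊔ W), (∑ b ∈ K, if b * (d : G) ∈ K then Fr.phi μ ω d else 0) =
      (Nat.card ↥(V ⊔ W) : ℂ) * Fr.phi μ ω d := by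
    intro d
    obtain ⟨⟨v, y⟩, rfl⟩ := Fr.equiv.surjective d
    rcases eq_or_ne y 1 with rfl | hy
    · simp [Fr.phi_equiv]
    rw [← Finset.sum_filter, Finset.sum_const, nsmul_eq_mul]
    congr 2
    rw [hK, Finset.filter_filter, Nat.card_eq_fintype_card, ← Finset.card_univ]
    symm
    refine Finset.card_bij (fun d' _ => (d' : G) * s) (fun d' _ => ?_)
      (fun a _ b _ e => Subtype.ext (mul_right_cancel e)) (fun a ha => ?_)
    · simp only [Finset.mem_filter, Finset.mem_univ, true_and, Fr.coe_equiv]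
      exact (Fr.inverting_iff v.2 y.2 (fun e => hy (Subtype.ext e))).2
        (by rw [mul_assoc, Fr.s_mul_self, mul_one]; exact d'.2)
    · simp only [Finset.mem_filter, Finset.mem_univ, true_and, Fr.coe_equiv] at ha
      exact ⟨⟨a * s, (Fr.inverting_iff v.2 y.2 (fun e => hy (Subtype.ext e))).1 ha⟩, Finset.mem_univ _,
        by show a * s * s = a; rw [mul_assoc, Fr.s_mul_self, mul_one]⟩
  rw [Finset.sum_congr rfl fun d _ => h5 d, ← Finset.mul_sum]
  have h6 : ∑ d, Fr.phi μ ω d = if μ = 1 then 4 * (w : ℂ) else 0 := by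
    rw [Fr.sum_D]
    simp only [Fr.phi_equiv, ← Finset.mul_sum, ← Finset.sum_mul]
    rw [Finset.sum_sub_distrib, sum_hom ω, if_neg hω, Finset.sum_const, Finset.card_univ,
      ← Nat.card_eq_fintype_card, Fr.card_W, Fr.sum_mu]
    split_ifs <;> simp
  rw [h6]
  split_ifs
  · field_simp
  · simp

/-- The test functions are fixed by the field automorphisms fixing the `w`-th roots of unity. -/
theorem map_tau {σ : ℂ →+* ℂ} (hσ : ∀ z : ℂ, z ^ w = 1 → σ z = z) (μ : ↥V →* ℂˣ) (ω : ↥W →* ℂˣ) (g : G) :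
    σ (Fr.tau μ ω g) = Fr.tau μ ω g := by
  rw [tau, map_indFun]
  congr 1
  funext d
  obtain ⟨⟨v, y⟩, rfl⟩ := Fr.equiv.surjective d
  rw [Fr.phi_equiv, map_mul, map_sub, map_one, hσ (ω y : ℂ) (by
    rw [← Units.val_pow_eq_pow_val, ← map_pow, show y ^ w = 1 from Subtype.ext (Fr.W_pow_w y.2)]; simp)]
  rcases Fr.V_cases μ v with h | h <;> simp [h]

theorem conj_tau_eq (μ : ↥V →* ℂˣ) (ω : ↥W →* ℂˣ) (g : G) :
    conj (Fr.tau μ ω g) = Fr.tau μ ω⁻¹ g := by
  rw [tau, tau, map_indFun]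
  congr 1
  funext d
  obtain ⟨⟨v, y⟩, rfl⟩ := Fr.equiv.surjective d
  rw [Fr.phi_equiv, Fr.phi_equiv, map_mul, map_sub, map_one, Fr.conj_mu, conj_hom_apply]
  simp

/-- The coefficients are invariant. -/
theorem classInner_map_tau {σ : ℂ →+* ℂ} (hσ : ∀ z : ℂ, z ^ w = 1 → σ z = z) {θ : G → ℂ}
    (hθ : IsGeneralizedCharacter G θ) (μ : ↥V →* ℂˣ) (ω : ↥W →* ℂˣ) :
    classInner (fun g => σ (θ g)) (Fr.tau μ ω) = classInner θ (Fr.tau μ ω) := by
  obtain ⟨m, hm⟩ := Char.IsGeneralizedCharacter.classInner_int hθ (Fr.isGeneralizedCharacter_tau μ ω)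
  have h := congrArg σ hm
  rw [map_intCast, ← hm] at h
  rw [← h]
  simp only [classInner, map_mul, map_inv₀, map_natCast, map_sum]
  congr 1
  refine Finset.sum_congr rfl fun g _ => ?_
  rw [Fr.conj_tau_eq, Fr.map_tau hσ]

end Frame

end CfsgLib.Recognition.ReeCentralizer
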