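import Cfsg.Agent.Lib.Recognition.ReeCentralizer.TorusGroup
import Cfsg.Agent.Lib.Char.ClassSum
import Cfsg.Agent.Lib.Char.Induced
import Cfsg.Agent.Lib.Char.Linear
import Cfsg.Agent.Lib.Char.Orth
import Cfsg.Agent.Lib.Char.Virtual

/-!
# The test functions on the torus

`tau μ ω` is induced from `μ ⊗ (1 - ω)` on `V ⊔ W = V × W`: for `μ ≠ 1` the norm is three, for `μ = 1` seven.
-/

set_option autoImplicit false
set_option linter.unusedSectionVars false
set_option linter.style.haveILetI false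
set_option linter.unnecessarySeqFocus false

namespace CfsgLib.Recognition.ReeCentralizer

open Subgroup Cfsg
open scoped _root_.Classical ComplexConjugate

universe u

/-- A finite order unit is conjugated to its inverse. -/
theorem conj_hom_apply {A : Type*} [Group A] [Finite A] (φ : A →* ℂˣ) (a : A) :
    conj (φ a : ℂ) = (φ a⁻¹ : ℂ) := by
  cases nonempty_fintype A
  rw [← Char.IsIrrCharacter.apply_inv (Char.isIrrCharacter_hom φ) a]

/-- Orthogonality of linear characters. -/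
theorem sum_hom_mul_conj {A : Type*} [Group A] [Fintype A] (φ ψ : A →* ℂˣ) :
    ∑ a, (φ a : ℂ) * conj (ψ a : ℂ) = if φ = ψ then (Nat.card A : ℂ) else 0 := by
  have h := Char.classInner_irr (Char.isIrrCharacter_hom φ) (Char.isIrrCharacter_hom ψ)
  have hA : (Nat.card A : ℂ) ≠ 0 := by exact_mod_cast Nat.card_pos.ne'
  rw [classInner, inv_mul_eq_iff_eq_mul₀ hA] at h
  rw [h]
  by_cases e : φ = ψ
  · subst e; simp
  · rw [if_neg e, if_neg fun e' => e (Char.coe_hom_injective e'), mul_zero]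

theorem sum_hom {A : Type*} [Group A] [Fintype A] (φ : A →* ℂˣ) :
    ∑ a, (φ a : ℂ) = if φ = 1 then (Nat.card A : ℂ) else 0 := by
  simpa using sum_hom_mul_conj φ 1

variable {G : Type u} [Group G] {t : G} {w : ℕ} {V W : Subgroup G} {s x : G}

namespace Frame

variable (Fr : Frame G t w V W s x)
include Fr

theorem V_cases (μ : ↥V →* ℂˣ) (v : ↥V) : (μ v : ℂ) = 1 ∨ (μ v : ℂ) = -1 := by
  have h : (μ v : ℂ) * μ v = 1 := by
    rw [← Units.val_mul, ← map_mul, show v * v = 1 from Subtype.ext (Fr.sq_V v v.2)]; simp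
  rcases mul_self_eq_one_iff.1 h with h | h <;> simp [h]

theorem conj_mu (μ : ↥V →* ℂˣ) (v : ↥V) : conj (μ v : ℂ) = μ v := by
  rcases Fr.V_cases μ v with h | h <;> simp [h]

variable [Fintype G]

theorem sum_mu (μ : ↥V →* ℂˣ) : ∑ v, (μ v : ℂ) = if μ = 1 then 4 else 0 := by
  rw [sum_hom, Fr.card_V]; norm_num

/-- Sums over `V ⊔ W`. -/
theorem sum_D {M : Type*} [AddCommMonoid M] (f : ↥(V ⊔ W) → M) :
    ∑ d, f d = ∑ v : ↥V, ∑ y : ↥W, f (Fr.equiv (v, y)) := by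
  rw [← Fintype.sum_prod_type' fun v y => f (Fr.equiv (v, y))]
  exact (Fintype.sum_equiv Fr.equiv.toEquiv _ _ fun _ => rfl).symm

/-- `μ ⊗ (1 - ω)`. -/
noncomputable def phi (μ : ↥V →* ℂˣ) (ω : ↥W →* ℂˣ) : ↥(V ⊔ W) → ℂ :=
  fun d => (μ (Fr.equiv.symm d).1 : ℂ) * (1 - (ω (Fr.equiv.symm d).2 : ℂ))

theorem phi_equiv (μ : ↥V →* ℂˣ) (ω : ↥W →* ℂˣ) (v : ↥V) (y : ↥W) :
    Fr.phi μ ω (Fr.equiv (v, y)) = (μ v : ℂ) * (1 - (ω y : ℂ)) := by
  rw [phi, MulEquiv.symm_apply_apply]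

/-- The test function. -/
noncomputable def tau (μ : ↥V →* ℂˣ) (ω : ↥W →* ℂˣ) : G → ℂ := indFun (V ⊔ W) (Fr.phi μ ω)

theorem isClassFunction_tau (μ : ↥V →* ℂˣ) (ω : ↥W →* ℂˣ) : IsClassFunction G (Fr.tau μ ω) :=
  Char.indFun_isClassFunction _ _

theorem isGeneralizedCharacter_tau (μ : ↥V →* ℂˣ) (ω : ↥W →* ℂˣ) :
    IsGeneralizedCharacter G (Fr.tau μ ω) := by
  refine Char.IsGeneralizedCharacter.indFun _ ⟨_, _,
    Char.isCharacter_hom (μ.comp ((MonoidHom.fst _ _).comp Fr.equiv.symm.toMonoidHom)),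
    Char.isCharacter_hom ((μ.comp ((MonoidHom.fst _ _).comp Fr.equiv.symm.toMonoidHom)) *
      (ω.comp ((MonoidHom.snd _ _).comp Fr.equiv.symm.toMonoidHom))), ?_⟩
  funext d
  simp [phi, mul_sub]

theorem tau_one (μ : ↥V →* ℂˣ) (ω : ↥W →* ℂˣ) : Fr.tau μ ω 1 = 0 := by
  rw [tau, Char.indFun_one]
  have h : (1 : ↥(V ⊔ W)) = Fr.equiv (1, 1) := (map_one Fr.equiv).symm
  rw [h, Fr.phi_equiv]; simp

theorem extend_conj_D (μ : ↥V →* ℂˣ) (ω : ↥W →* ℂˣ) (g : G) (v : ↥V) (y : ↥W) (hy : y ≠ 1)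
    (h : extendByZero (V ⊔ W) (Fr.phi μ ω) (g * (v * y : G) * g⁻¹) ≠ 0) :
    g ∈ normalizer (W : Set G) := by
  refine Fr.mem_normalizer_of_conj v.2 y.2 (fun e => hy (Subtype.ext e)) ?_
  by_contra hc
  exact h (Char.extendByZero_apply_notMem _ _ hc)

/-- The values of the test function on the torus. -/
theorem tau_apply (hw : 1 < w) (μ : ↥V →* ℂˣ) (ω : ↥W →* ℂˣ) (v : ↥V) {y : ↥W} (hy : y ≠ 1) :
    Fr.tau μ ω ((v : G) * y) = ∑ r, (μ (Fr.repV r v) : ℂ) * (1 - (ω (Fr.repW r y) : ℂ)) := by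
  rw [tau, Char.indFun_def]
  rw [← Equiv.sum_comp (Equiv.inv G), Fr.card_D]
  simp only [Equiv.inv_apply, inv_inv]
  have hN : ∑ g : G, extendByZero (V ⊔ W) (Fr.phi μ ω) (g * ((v : G) * y) * g⁻¹) =
      ∑ n : ↥(normalizer (W : Set G)),
        extendByZero (V ⊔ W) (Fr.phi μ ω) ((n : G) * ((v : G) * y) * (n : G)⁻¹) := by
    rw [← Finset.sum_subset (Finset.subset_univ
        (Finset.univ.filter fun g : G => g ∈ normalizer (W : Set G)))
      (fun g _ hg => by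
        by_contra h
        exact hg (Finset.mem_filter.2 ⟨Finset.mem_univ g, Fr.extend_conj_D μ ω g v y hy h⟩))]
    exact Finset.sum_subtype _ (fun g => by simp) _
  rw [hN, Fr.sum_normalizer hw (fun g => extendByZero (V ⊔ W) (Fr.phi μ ω) (g * ((v : G) * y) * g⁻¹)),
    Finset.mul_sum]
  refine Finset.sum_congr rfl fun r _ => ?_
  have hterm : ∀ d : ↥(V ⊔ W), extendByZero (V ⊔ W) (Fr.phi μ ω)
      (Fr.rep r * d * ((v : G) * y) * (Fr.rep r * d)⁻¹) =
        (μ (Fr.repV r v) : ℂ) * (1 - (ω (Fr.repW r y) : ℂ)) := by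
    intro d
    have e : Fr.rep r * d * ((v : G) * y) * (Fr.rep r * d)⁻¹ =
        ((Fr.equiv (Fr.repV r v, Fr.repW r y) : ↥(V ⊔ W)) : G) := by
      rw [Fr.coe_equiv, mul_assoc (Fr.rep r), (Fr.D_comm d.2 (Fr.mem_D_iff.2 ⟨v, v.2, y, y.2, rfl⟩)).eq]
      show _ = Fr.rep r * (v : G) * (Fr.rep r)⁻¹ * (Fr.rep r * (y : G) * (Fr.rep r)⁻¹)
      group
    rw [e, Char.extendByZero_coe, Fr.phi_equiv]
  rw [Finset.sum_congr rfl fun d _ => hterm d, Finset.sum_const, Finset.card_univ,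
    ← Nat.card_eq_fintype_card, Fr.card_D, nsmul_eq_mul, ← mul_assoc, inv_mul_cancel₀, one_mul]
  exact_mod_cast (by have := Fr.w_pos; omega : 4 * w ≠ 0)

theorem repV_ne {μ : ↥V →* ℂˣ} (hμ : μ ≠ 1) {r : Fin 3 × Bool} (hr : r.1 ≠ 0) :
    μ.comp (Fr.repV r) ≠ μ := by
  intro h
  refine hμ (MonoidHom.ext fun v => ?_)
  have hX : ∀ u : ↥V, μ ⟨x * u * x⁻¹, Fr.x_V u u.2⟩ = μ u := by
    intro u
    have h1 : ∀ u : ↥V, μ (Fr.repV r u) = μ u := fun u => DFunLike.congr_fun h u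
    obtain ⟨i, b⟩ := r
    have h3 : ∀ u : ↥V, ∀ hm, μ ⟨x ^ (i : ℕ) * u * (x ^ (i : ℕ))⁻¹, hm⟩ = μ u := fun u hm => by
      refine Eq.trans (congrArg μ (Subtype.ext ?_)) (h1 u)
      exact (Fr.rep_V u.2 (i, b)).symm
    fin_cases i
    · exact absurd rfl hr
    · simpa [pow_one] using h3 u (by simpa using Fr.x_V u u.2)
    · have hm2 := Fr.conj_xpow_V u.2 2
      have h4 := h3 ⟨x ^ 2 * u * (x ^ 2)⁻¹, hm2⟩ (Fr.conj_xpow_V hm2 2)
      rw [show μ ⟨x ^ 2 * (u : G) * (x ^ 2)⁻¹, hm2⟩ = μ u from h3 u hm2] at h4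
      refine Eq.trans (congrArg μ (Subtype.ext ?_)) h4
      show x * (u : G) * x⁻¹ = x ^ 2 * (x ^ 2 * (u : G) * (x ^ 2)⁻¹) * (x ^ 2)⁻¹
      have e : x ^ 2 * x ^ 2 = x := by
        rw [← pow_add, show 2 + 2 = 3 + 1 from rfl, pow_succ, Fr.x_pow_three, one_mul]
      rw [show x ^ 2 * (x ^ 2 * (u : G) * (x ^ 2)⁻¹) * (x ^ 2)⁻¹ =
        (x ^ 2 * x ^ 2) * u * (x ^ 2 * x ^ 2)⁻¹ by group, e]
  -- every element is `u · ^x u`
  let d : ↥V → ↥V := fun u => u * ⟨x * u * x⁻¹, Fr.x_V u u.2⟩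
  have hd : Function.Injective d := by
    intro a b e
    have e' : (a : G) * (x * a * x⁻¹) = b * (x * b * x⁻¹) := congrArg Subtype.val e
    have key : x * (a * b : G) * x⁻¹ = a * b := by
      calc x * (a * b : G) * x⁻¹ = (x * a * x⁻¹) * (x * b * x⁻¹) := by group
        _ = (a : G)⁻¹ * ((a : G) * (x * a * x⁻¹)) * (x * b * x⁻¹) := by group
        _ = (a : G)⁻¹ * b * ((x * b * x⁻¹) * (x * b * x⁻¹)) := by rw [e']; group
        _ = a * b := by rw [Fr.sq_V _ (Fr.x_V b b.2), mul_one, Fr.V_inv a.2]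
    have := Fr.x_V_move (mul_mem a.2 b.2) key
    exact Subtype.ext ((eq_inv_of_mul_eq_one_left this).trans (Fr.V_inv b.2))
  obtain ⟨u, hu⟩ := Finite.injective_iff_surjective.1 hd v
  rw [← hu, map_mul, hX]
  exact Units.ext (by rcases Fr.V_cases μ u with e | e <;> simp [e])

theorem repV_zero (μ : ↥V →* ℂˣ) (b : Bool) : μ.comp (Fr.repV (0, b)) = μ := by
  refine MonoidHom.ext fun v => congrArg μ (Subtype.ext ?_)
  show Fr.rep (0, b) * v * (Fr.rep (0, b))⁻¹ = v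
  rw [Fr.rep_V v.2]; simp

theorem repW_zero (ω : ↥W →* ℂˣ) (b : Bool) :
    ω.comp (Fr.repW (0, b)) = cond b ω⁻¹ ω := by
  refine MonoidHom.ext fun y => ?_
  have e : Fr.repW (0, b) y = cond b y⁻¹ y := Subtype.ext (by
    show Fr.rep (0, b) * y * (Fr.rep (0, b))⁻¹ = _
    rw [Fr.rep_W y.2]; cases b <;> simp)
  rw [MonoidHom.comp_apply, e]
  cases b <;> simp

/-- Distinct representatives move a nontrivial character of `W` differently. -/
theorem repW_comp_injective {ω : ↥W →* ℂˣ} (hω : ω ≠ 1) :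
    Function.Injective fun r => ω.comp (Fr.repW r) := by
  intro a b h
  by_contra hab
  refine hω (MonoidHom.ext fun v => ?_)
  let d : ↥W → ↥W := fun y => Fr.repW a y * (Fr.repW b y)⁻¹
  have hd : Function.Injective d := by
    intro y z e
    by_contra hyz
    have e' : (Fr.repW a y : G) * ((Fr.repW b y : G))⁻¹ = Fr.repW a z * ((Fr.repW b z : G))⁻¹ :=
      congrArg Subtype.val e
    have hc : ∀ p q : ↥W, (p : G) * q = q * p := fun p q => (Fr.W_comm p.2 q.2).eq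
    have key : (Fr.repW a (y * z⁻¹) : G) = Fr.repW b (y * z⁻¹) := by
      have e2 : d y * (d z)⁻¹ = 1 := by rw [e, mul_inv_cancel]
      have hcomm : ∀ p q : ↥W, p * q = q * p := fun p q => Subtype.ext (hc p q)
      letI : CommGroup ↥W := { (inferInstance : Group ↥W) with mul_comm := hcomm }
      have e3 : Fr.repW a (y * z⁻¹) * (Fr.repW b (y * z⁻¹))⁻¹ = 1 := by
        rw [← e2]; simp only [map_mul, map_inv, d, mul_inv_rev, inv_inv]
        simp only [mul_assoc, mul_comm, mul_left_comm]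
      exact congrArg Subtype.val (mul_inv_eq_one.1 e3)
    exact hab (Fr.rep_W_inj (y * z⁻¹).2 (fun e1 => hyz (mul_inv_eq_one.1 (Subtype.ext e1))) key)
  obtain ⟨y, hy⟩ := Finite.injective_iff_surjective.1 hd v
  rw [← hy, map_mul, map_inv, show ω (Fr.repW a y) = ω (Fr.repW b y) from DFunLike.congr_fun h y,
    mul_inv_cancel]
  rfl

/-- The scalar product with a class function. -/
theorem classInner_tau {θ : G → ℂ} (hθ : IsClassFunction G θ) (μ : ↥V →* ℂˣ) (ω : ↥W →* ℂˣ) :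
    classInner θ (Fr.tau μ ω) =
      (4 * w : ℂ)⁻¹ * ∑ y : ↥W, (∑ v : ↥V, (μ v : ℂ) * θ ((v : G) * y)) * (1 - conj (ω y : ℂ)) := by
  rw [tau, Char.classInner_indFun_right _ _ hθ, classInner, Fr.card_D, Fr.sum_D, Finset.sum_comm]
  push_cast
  congr 1
  refine Finset.sum_congr rfl fun y _ => ?_
  rw [Finset.sum_mul]
  refine Finset.sum_congr rfl fun v _ => ?_
  rw [Fr.phi_equiv, Fr.coe_equiv, map_mul, Fr.conj_mu, map_sub, map_one]
  ring

/-- **The scalar products of the test functions.** -/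
theorem classInner_tau_tau (hw : 1 < w) {μ μ' : ↥V →* ℂˣ} {ω ω' : ↥W →* ℂˣ} (hω : ω ≠ 1) (hω' : ω' ≠ 1) :
    classInner (Fr.tau μ ω) (Fr.tau μ' ω') =
      ∑ r, (if μ.comp (Fr.repV r) = μ' then (1 : ℂ) else 0) *
        (1 + if ω.comp (Fr.repW r) = ω' then (1 : ℂ) else 0) := by
  rw [Fr.classInner_tau (Fr.isClassFunction_tau μ ω)]
  have h1 : ∀ y : ↥W, (∑ v : ↥V, (μ' v : ℂ) * Fr.tau μ ω ((v : G) * y)) * (1 - conj (ω' y : ℂ)) =
      ∑ r, (∑ v : ↥V, ((μ.comp (Fr.repV r)) v : ℂ) * conj (μ' v : ℂ)) *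
        ((1 - ((ω.comp (Fr.repW r)) y : ℂ)) * (1 - conj (ω' y : ℂ))) := by
    intro y
    rcases eq_or_ne y 1 with rfl | hy
    · simp
    rw [Finset.sum_mul]
    simp only [Fr.tau_apply hw μ ω _ hy, Finset.sum_mul, Finset.mul_sum]
    rw [Finset.sum_comm]
    refine Finset.sum_congr rfl fun r _ => Finset.sum_congr rfl fun v _ => ?_
    rw [Fr.conj_mu]; simp only [MonoidHom.comp_apply]; ring
  rw [Finset.sum_congr rfl fun y _ => h1 y, Finset.sum_comm, Finset.mul_sum]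
  refine Finset.sum_congr rfl fun r _ => ?_
  rw [← Finset.mul_sum, sum_hom_mul_conj, Fr.card_V]
  have hne : ω.comp (Fr.repW r) ≠ 1 := fun h => hω (MonoidHom.ext fun v => by
    obtain ⟨u, hu⟩ := Finite.injective_iff_surjective.1 (Fr.repW_injective r) v
    rw [← hu]; exact DFunLike.congr_fun h u)
  have hw0 : (w : ℂ) ≠ 0 := by exact_mod_cast Fr.w_pos.ne'
  have h2 : ∑ y : ↥W, (1 - ((ω.comp (Fr.repW r)) y : ℂ)) * (1 - conj (ω' y : ℂ)) =
      (w : ℂ) * (1 + if ω.comp (Fr.repW r) = ω' then (1 : ℂ) else 0) := by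
    simp only [sub_mul, mul_sub, one_mul, mul_one, Finset.sum_sub_distrib]
    rw [sum_hom_mul_conj, ← map_sum, sum_hom, sum_hom, if_neg hne, if_neg hω', Fr.card_W,
      Finset.sum_const, Finset.card_univ, ← Nat.card_eq_fintype_card, Fr.card_W]
    split_ifs <;> simp <;> ring
  rw [h2]
  split_ifs <;> field_simp <;> ring

/-- The functions with nontrivial `μ` have norm three. -/
theorem norm_tau (hw : 1 < w) {μ : ↥V →* ℂˣ} (hμ : μ ≠ 1) {ω ω' : ↥W →* ℂˣ} (hω : ω ≠ 1) (hω' : ω' ≠ 1) :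
    classInner (Fr.tau μ ω) (Fr.tau μ ω') = if ω = ω' ∨ ω⁻¹ = ω' then 3 else 2 := by
  rw [Fr.classInner_tau_tau hw hω hω']
  have h0 : ∀ i : Fin 3, i ≠ 0 → ∀ b, (if μ.comp (Fr.repV (i, b)) = μ then (1 : ℂ) else 0) = 0 :=
    fun i hi b => if_neg (Fr.repV_ne hμ (r := (i, b)) hi)
  have hne : ω⁻¹ ≠ ω := fun h => by
    have := Fr.repW_comp_injective hω (a₁ := (0, true)) (a₂ := (0, false))
      (by simp only; rw [Fr.repW_zero, Fr.repW_zero]; exact h)
    simp at this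
  simp only [Fintype.sum_prod_type, Fin.sum_univ_three, Fintype.sum_bool, Fr.repV_zero, Fr.repW_zero,
    cond_true, cond_false, h0 1 (by decide), h0 2 (by decide), if_true]
  by_cases h1 : ω = ω'
  · subst h1; simp [hne]; norm_num
  · by_cases h2 : ω⁻¹ = ω'
    · subst h2; simp [h1]; norm_num
    · simp [h1, h2]; norm_num

/-- The two kinds are orthogonal. -/
theorem inner_tau_one (hw : 1 < w) {μ : ↥V →* ℂˣ} (hμ : μ ≠ 1) {ω ω' : ↥W →* ℂˣ} (hω : ω ≠ 1) (hω' : ω' ≠ 1) :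
    classInner (Fr.tau μ ω) (Fr.tau 1 ω') = 0 := by
  rw [Fr.classInner_tau_tau hw hω hω']
  refine Finset.sum_eq_zero fun r _ => ?_
  rw [if_neg fun h => hμ (MonoidHom.ext fun v => ?_), zero_mul]
  obtain ⟨u, hu⟩ := Finite.injective_iff_surjective.1 (Fr.repV_injective r) v
  rw [← hu]; exact DFunLike.congr_fun h u

/-- The functions with `μ = 1` have norm seven. -/
theorem norm_tau_one (hw : 1 < w) {ω : ↥W →* ℂˣ} (hω : ω ≠ 1) :
    classInner (Fr.tau 1 ω) (Fr.tau 1 ω) = 7 := by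
  rw [Fr.classInner_tau_tau hw hω hω]
  simp only [MonoidHom.one_comp, if_true, one_mul, Finset.sum_add_distrib, Finset.sum_const,
    Finset.card_univ, Fintype.card_prod, Fintype.card_fin, Fintype.card_bool]
  rw [Finset.sum_eq_single ((0, false) : Fin 3 × Bool)]
  · rw [Fr.repW_zero, cond_false, if_pos rfl]; norm_num
  · intro r _ hr
    refine if_neg fun h => hr (Fr.repW_comp_injective hω ?_)
    simp only; rw [h, Fr.repW_zero]; rfl
  · simp

/-- The coefficient of the trivial character. -/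
theorem tau_inner_one (μ : ↥V →* ℂˣ) {ω : ↥W →* ℂˣ} (hω : ω ≠ 1) :
    classInner (fun _ => (1 : ℂ)) (Fr.tau μ ω) = if μ = 1 then 1 else 0 := by
  rw [Fr.classInner_tau (fun _ _ => rfl)]
  simp only [mul_one, ← Finset.mul_sum, Fr.sum_mu]
  rw [Finset.sum_sub_distrib, ← map_sum, sum_hom, if_neg hω, Finset.sum_const, Finset.card_univ,
    ← Nat.card_eq_fintype_card, Fr.card_W]
  have hw0 : (w : ℂ) ≠ 0 := by exact_mod_cast Fr.w_pos.ne'
  split_ifs <;> simp <;> field_simp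

end Frame

end CfsgLib.Recognition.ReeCentralizer
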