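import Cfsg.Agent.Lib.Recognition.ReeCentralizer.Basic


/-!
# The torus `V × W` and its normalizer

`V ⊔ W` is `V × W`; the six elements `x^i`, `x^i s` move a nontrivial element of `W` in six different
ways, so they represent the cosets of `V ⊔ W` in the normalizer of `W`.
-/

set_option autoImplicit false
set_option linter.unusedSectionVars false
set_option linter.style.haveILetI false

namespace CfsgLib.Recognition.ReeCentralizer

open Subgroup
open scoped _root_.Classical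

universe u

variable {G : Type u} [Group G] {t : G} {w : ℕ} {V W : Subgroup G} {s x : G}

namespace Frame

variable (Fr : Frame G t w V W s x)
include Fr

theorem t_mul_self' : t * t = 1 := Fr.sq_V t Fr.t_mem

theorem t_ne_one : t ≠ 1 := fun h => Fr.x_move (by rw [h]; simp)

theorem s_mul_self : s * s = 1 := by rw [← sq, ← Fr.s2]; exact pow_orderOf_eq_one s

theorem x_pow_three : x ^ 3 = 1 := by rw [← Fr.x3]; exact pow_orderOf_eq_one x

theorem w_pos : 0 < w := Fr.odd_w.pos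

theorem orderOf_W_dvd {y : G} (hy : y ∈ W) : orderOf y ∣ w := by
  rw [← Fr.card_W, ← Nat.card_zpowers]
  exact card_dvd_of_le (zpowers_le.2 hy)

theorem W_pow_w {y : G} (hy : y ∈ W) : y ^ w = 1 := orderOf_dvd_iff_pow_eq_one.1 (Fr.orderOf_W_dvd hy)

theorem W_sq {y : G} (hy : y ∈ W) (h : y * y = 1) : y = 1 := by
  obtain ⟨k, hk⟩ := Fr.odd_w
  have h1 := Fr.W_pow_w hy
  rwa [hk, pow_succ, pow_mul, sq, h, one_pow, one_mul] at h1

theorem W_comm {a b : G} (ha : a ∈ W) (hb : b ∈ W) : Commute a b := by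
  have := Fr.cyclic_W
  exact congrArg Subtype.val ((IsCyclic.commGroup (α := ↥W)).mul_comm ⟨a, ha⟩ ⟨b, hb⟩)

theorem V_inv {v : G} (hv : v ∈ V) : v⁻¹ = v := inv_eq_of_mul_eq_one_right (Fr.sq_V v hv)

theorem V_comm {a b : G} (ha : a ∈ V) (hb : b ∈ V) : Commute a b := by
  have h := Fr.V_inv (mul_mem ha hb)
  rw [mul_inv_rev, Fr.V_inv ha, Fr.V_inv hb] at h
  exact h.symm

theorem V_inf_W {a : G} (hV : a ∈ V) (hW : a ∈ W) : a = 1 := Fr.W_sq hW (Fr.sq_V a hV)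

/-- `(v, y) ↦ v y`. -/
def emb : ↥V × ↥W →* G :=
  V.subtype.noncommCoprod W.subtype fun v y => Fr.comm_VW v v.2 y y.2

theorem emb_apply (p : ↥V × ↥W) : Fr.emb p = (p.1 : G) * p.2 := rfl

theorem emb_injective : Function.Injective Fr.emb := by
  refine (injective_iff_map_eq_one Fr.emb).2 fun p hp => ?_
  rw [emb_apply] at hp
  have hy : (p.2 : G) = (p.1 : G)⁻¹ := eq_inv_of_mul_eq_one_right hp
  have h2 : (p.2 : G) = 1 := Fr.V_inf_W (hy ▸ inv_mem p.1.2) p.2.2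
  rw [h2, mul_one] at hp
  exact Prod.ext (Subtype.ext hp) (Subtype.ext h2)

theorem emb_range : Fr.emb.range = V ⊔ W := by
  exact (MonoidHom.noncommCoprod_range (f := V.subtype) (g := W.subtype) _).trans (by rw [range_subtype, range_subtype])

theorem mem_D_iff {d : G} : d ∈ V ⊔ W ↔ ∃ v ∈ V, ∃ y ∈ W, d = v * y := by
  rw [← Fr.emb_range, MonoidHom.mem_range]
  exact ⟨fun ⟨p, hp⟩ => ⟨p.1, p.1.2, p.2, p.2.2, hp.symm⟩,
    fun ⟨v, hv, y, hy, h⟩ => ⟨(⟨v, hv⟩, ⟨y, hy⟩), h.symm⟩⟩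

/-- The isomorphism `V × W ≃ V ⊔ W`. -/
noncomputable def equiv : ↥V × ↥W ≃* ↥(V ⊔ W) :=
  (MonoidHom.ofInjective Fr.emb_injective).trans (MulEquiv.subgroupCongr Fr.emb_range)

theorem coe_equiv (p : ↥V × ↥W) : ((Fr.equiv p : ↥(V ⊔ W)) : G) = (p.1 : G) * p.2 := rfl

theorem card_D : Nat.card ↥(V ⊔ W) = 4 * w := by
  rw [← Nat.card_congr Fr.equiv.toEquiv, Nat.card_prod, Fr.card_V, Fr.card_W]

theorem D_comm {a b : G} (ha : a ∈ V ⊔ W) (hb : b ∈ V ⊔ W) : Commute a b := by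
  obtain ⟨v, hv, y, hy, rfl⟩ := Fr.mem_D_iff.1 ha
  obtain ⟨v', hv', y', hy', rfl⟩ := Fr.mem_D_iff.1 hb
  exact (((Fr.V_comm hv hv').mul_right (Fr.comm_VW v hv y' hy')).mul_left
    ((Fr.comm_VW v' hv' y hy).symm.mul_right (Fr.W_comm hy hy')))

theorem pow_w_mul {v y : G} (hv : v ∈ V) (hy : y ∈ W) : (v * y) ^ w = v := by
  obtain ⟨k, hk⟩ := Fr.odd_w
  rw [(Fr.comm_VW v hv y hy).mul_pow, Fr.W_pow_w hy, mul_one, hk, pow_succ, pow_mul, sq,
    Fr.sq_V v hv, one_pow, one_mul]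

/-- A conjugation of `v y` into `V ⊔ W` conjugates both parts. -/
theorem conj_parts {g v y v' y' : G} (hv : v ∈ V) (hy : y ∈ W) (hv' : v' ∈ V) (hy' : y' ∈ W)
    (h : g * (v * y) * g⁻¹ = v' * y') : g * v * g⁻¹ = v' ∧ g * y * g⁻¹ = y' := by
  have h1 : g * v * g⁻¹ = v' := by
    rw [← Fr.pow_w_mul hv hy, ← conj_pow, h, Fr.pow_w_mul hv' hy']
  refine ⟨h1, mul_left_cancel (a := v') ?_⟩
  rw [← h, ← h1]; group

theorem mem_normalizer_of_conj {g v y : G} (hv : v ∈ V) (hy : y ∈ W) (hy1 : y ≠ 1)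
    (h : g * (v * y) * g⁻¹ ∈ V ⊔ W) : g ∈ normalizer (W : Set G) := by
  obtain ⟨v', hv', y', hy', h'⟩ := Fr.mem_D_iff.1 h
  exact Fr.ti g y hy hy1 ((Fr.conj_parts hv hy hv' hy' h').2 ▸ hy')

/-- `x` moves every involution of `V`. -/
theorem x_V_move {v : G} (hv : v ∈ V) (h : x * v * x⁻¹ = v) : v = 1 := by
  by_contra hv1
  have hinj : Function.Injective fun a : G => x * a * x⁻¹ := fun a b e =>
    mul_left_cancel (mul_right_cancel e)
  have hvt : v ≠ t := fun e => Fr.x_move (e ▸ h)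
  haveI : Finite V := Nat.finite_of_card_ne_zero (by rw [Fr.card_V]; norm_num)
  haveI := Fintype.ofFinite ↥V
  have hall : ∀ a ∈ V, a = 1 ∨ a = v ∨ a = t ∨ a = v * t := by
    intro a ha
    have hcard : ({⟨1, one_mem V⟩, ⟨v, hv⟩, ⟨t, Fr.t_mem⟩, ⟨v * t, mul_mem hv Fr.t_mem⟩} :
        Finset ↥V) = Finset.univ := by
      refine Finset.eq_univ_of_card _ ?_
      have hvt1 : v * t ≠ 1 := fun e => hvt (by
        rw [← Fr.V_inv Fr.t_mem]; exact eq_inv_of_mul_eq_one_left e)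
      have hvtv : v * t ≠ v := fun e => Fr.t_ne_one (mul_eq_left.1 e)
      have hvtt : v * t ≠ t := fun e => hv1 (mul_eq_right.1 e)
      rw [Finset.card_insert_of_notMem, Finset.card_insert_of_notMem, Finset.card_insert_of_notMem,
        Finset.card_singleton, ← Nat.card_eq_fintype_card, Fr.card_V] <;>
        simp [Subtype.ext_iff, Ne.symm hv1, Ne.symm Fr.t_ne_one, Ne.symm hvt1, hvt, Ne.symm hvtv,
          Ne.symm hvtt]
    have := Finset.mem_univ (⟨a, ha⟩ : ↥V)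
    simpa [← hcard, Subtype.ext_iff] using this
  rcases hall _ (Fr.x_V t Fr.t_mem) with e | e | e | e
  · exact Fr.t_ne_one (hinj (show x * t * x⁻¹ = x * 1 * x⁻¹ by rw [e]; simp))
  · exact hvt (hinj (show x * v * x⁻¹ = x * t * x⁻¹ by rw [e, h]))
  · exact Fr.x_move e
  · have h2 : x * (v * t) * x⁻¹ = t := by
      rw [show x * (v * t) * x⁻¹ = (x * v * x⁻¹) * (x * t * x⁻¹) by group, h, e, ← mul_assoc,
        Fr.sq_V v hv, one_mul]
    refine Fr.x_move ?_
    have h3 : t = x ^ 3 * t * (x ^ 3)⁻¹ := by rw [Fr.x_pow_three]; simp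
    have h4 : x ^ 3 * t * (x ^ 3)⁻¹ = x * (x * (x * t * x⁻¹) * x⁻¹) * x⁻¹ := by
      rw [pow_succ, pow_two]; group
    rw [h4, e, h2] at h3
    exact h3.symm

/-- The six elements moving the torus. -/
def rep (_ : Frame G t w V W s x) (r : Fin 3 × Bool) : G := x ^ (r.1 : ℕ) * cond r.2 s 1

theorem rep_mem (r : Fin 3 × Bool) : Fr.rep r ∈ normalizer (W : Set G) := by
  rw [Fr.normalizer_eq]
  refine mul_mem (mem_sup_left (mem_sup_right (pow_mem (mem_zpowers x) _))) ?_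
  cases r.2
  · exact one_mem _
  · exact mem_sup_right (mem_zpowers s)

theorem conj_xpow_V {v : G} (hv : v ∈ V) (i : ℕ) : x ^ i * v * (x ^ i)⁻¹ ∈ V := by
  induction i with
  | zero => simpa using hv
  | succ i ih =>
    rw [pow_succ', show x * x ^ i * v * (x * x ^ i)⁻¹ = x * (x ^ i * v * (x ^ i)⁻¹) * x⁻¹ by group]
    exact Fr.x_V _ ih

theorem conj_xpow_W {y : G} (hy : y ∈ W) (i : ℕ) : x ^ i * y * (x ^ i)⁻¹ ∈ W := by
  induction i with
  | zero => simpa using hy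
  | succ i ih =>
    rw [pow_succ', show x * x ^ i * y * (x * x ^ i)⁻¹ = x * (x ^ i * y * (x ^ i)⁻¹) * x⁻¹ by group]
    exact Fr.x_W _ ih

theorem rep_V {v : G} (hv : v ∈ V) (r : Fin 3 × Bool) :
    Fr.rep r * v * (Fr.rep r)⁻¹ = x ^ (r.1 : ℕ) * v * (x ^ (r.1 : ℕ))⁻¹ := by
  obtain ⟨i, b⟩ := r
  cases b
  · simp [rep]
  · simp only [rep, cond_true, mul_inv_rev]
    rw [show x ^ (i : ℕ) * s * v * (s⁻¹ * (x ^ (i : ℕ))⁻¹) = x ^ (i : ℕ) * (s * v * s⁻¹) * (x ^ (i : ℕ))⁻¹ by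
      group, (Fr.s_V v hv).eq, mul_inv_cancel_right]

theorem rep_W {y : G} (hy : y ∈ W) (r : Fin 3 × Bool) :
    Fr.rep r * y * (Fr.rep r)⁻¹ = x ^ (r.1 : ℕ) * cond r.2 y⁻¹ y * (x ^ (r.1 : ℕ))⁻¹ := by
  obtain ⟨i, b⟩ := r
  cases b
  · simp [rep]
  · simp only [rep, cond_true, mul_inv_rev]
    rw [show x ^ (i : ℕ) * s * y * (s⁻¹ * (x ^ (i : ℕ))⁻¹) = x ^ (i : ℕ) * (s * y * s⁻¹) * (x ^ (i : ℕ))⁻¹ by
      group, Fr.s_W y hy]

theorem rep_V_mem {v : G} (hv : v ∈ V) (r : Fin 3 × Bool) : Fr.rep r * v * (Fr.rep r)⁻¹ ∈ V := by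
  rw [Fr.rep_V hv]; exact Fr.conj_xpow_V hv _

theorem rep_W_mem {y : G} (hy : y ∈ W) (r : Fin 3 × Bool) : Fr.rep r * y * (Fr.rep r)⁻¹ ∈ W := by
  rw [Fr.rep_W hy]
  exact Fr.conj_xpow_W (by cases r.2 <;> simp [hy, inv_mem hy]) _

/-- The automorphism of `V` given by a representative. -/
def repV (r : Fin 3 × Bool) : ↥V →* ↥V where
  toFun v := ⟨Fr.rep r * v * (Fr.rep r)⁻¹, Fr.rep_V_mem v.2 r⟩
  map_one' := Subtype.ext (by simp)
  map_mul' a b := Subtype.ext (by simp [mul_assoc])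

/-- The automorphism of `W` given by a representative. -/
def repW (r : Fin 3 × Bool) : ↥W →* ↥W where
  toFun y := ⟨Fr.rep r * y * (Fr.rep r)⁻¹, Fr.rep_W_mem y.2 r⟩
  map_one' := Subtype.ext (by simp)
  map_mul' a b := Subtype.ext (by simp [mul_assoc])

theorem repV_injective (r : Fin 3 × Bool) : Function.Injective (Fr.repV r) := fun _ _ h =>
  Subtype.ext (mul_left_cancel (mul_right_cancel (congrArg Subtype.val h)))

theorem repW_injective (r : Fin 3 × Bool) : Function.Injective (Fr.repW r) := fun _ _ h =>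
  Subtype.ext (mul_left_cancel (mul_right_cancel (congrArg Subtype.val h)))

/-- `x` and `x²` move every element of `W` and send none to its inverse. -/
theorem xpow_move {y : G} (hy : y ∈ W) {i : ℕ} (hi : i = 1 ∨ i = 2) {z : G} (hz : z = y ∨ z = y⁻¹)
    (h : x ^ i * y * (x ^ i)⁻¹ = z) : y = 1 := by
  have h3 : x ^ 3 * y * (x ^ 3)⁻¹ = y := by rw [Fr.x_pow_three]; simp
  have key : ∀ a : G, a ∈ W → x * a * x⁻¹ = a⁻¹ → a = 1 := fun a ha e => by
    refine Fr.W_sq ha (eq_inv_iff_mul_eq_one.1 ?_)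
    have e2 : x * a⁻¹ * x⁻¹ = a := by
      rw [show x * a⁻¹ * x⁻¹ = (x * a * x⁻¹)⁻¹ by group, e, inv_inv]
    calc a = x ^ 3 * a * (x ^ 3)⁻¹ := by rw [Fr.x_pow_three]; simp
      _ = x * (x * (x * a * x⁻¹) * x⁻¹) * x⁻¹ := by rw [pow_succ, pow_two]; group
      _ = a⁻¹ := by rw [e, e2, e]
  rcases hi with rfl | rfl
  · rw [pow_one] at h
    rcases hz with rfl | rfl
    exacts [Fr.x_fpf _ hy h, key _ hy h]
  · have e : y = x * z * x⁻¹ := by
      rw [← h]
      calc y = x ^ 3 * y * (x ^ 3)⁻¹ := h3.symm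
        _ = x * (x ^ 2 * y * (x ^ 2)⁻¹) * x⁻¹ := by rw [pow_succ, pow_two]; group
    rcases hz with rfl | rfl
    · exact Fr.x_fpf _ hy e.symm
    · exact inv_eq_one.1 (key _ (inv_mem hy) (by rw [inv_inv]; exact e.symm))

theorem rep_W_inj {y : G} (hy : y ∈ W) (hy1 : y ≠ 1) :
    Function.Injective fun r => Fr.rep r * y * (Fr.rep r)⁻¹ := by
  intro a b h
  simp only [Fr.rep_W hy] at h
  obtain ⟨i, p⟩ := a
  obtain ⟨j, q⟩ := b
  have key : ∀ (i j : ℕ) (a b : G), i ≤ j → j < 3 → (a = y ∨ a = y⁻¹) → (b = y ∨ b = y⁻¹) →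
      x ^ i * a * (x ^ i)⁻¹ = x ^ j * b * (x ^ j)⁻¹ → i = j ∧ a = b := by
    intro i j a b hij hj ha hb e
    obtain ⟨k, rfl⟩ := Nat.exists_eq_add_of_le hij
    rw [pow_add, show x ^ i * x ^ k * b * (x ^ i * x ^ k)⁻¹ = x ^ i * (x ^ k * b * (x ^ k)⁻¹) * (x ^ i)⁻¹ by
      group] at e
    have e' := mul_left_cancel (mul_right_cancel e)
    rcases eq_or_ne k 0 with rfl | hk
    · exact ⟨rfl, by simpa using e'⟩
    · exfalso
      have hb1 : b ≠ 1 := by rcases hb with rfl | rfl <;> simp [hy1]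
      have hbW : b ∈ W := by rcases hb with rfl | rfl <;> simp [hy]
      refine hb1 (Fr.xpow_move hbW (i := k) (by omega) (z := a) ?_ e'.symm)
      rcases ha with rfl | rfl <;> rcases hb with rfl | rfl <;> simp
  have hc : ∀ c : Bool, cond c y⁻¹ y = y ∨ cond c y⁻¹ y = y⁻¹ := fun c => by cases c <;> simp
  have hpq : ∀ c d : Bool, cond c y⁻¹ y = cond d y⁻¹ y → c = d := fun c d e => by
    have hne : y⁻¹ ≠ y := fun e' => hy1 (Fr.W_sq hy (inv_eq_iff_mul_eq_one.1 e'))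
    cases c <;> cases d <;> first | rfl | exact absurd e hne | exact absurd e.symm hne
  rcases le_total (i : ℕ) j with hij | hij
  · obtain ⟨e1, e2⟩ := key i j _ _ hij j.2 (hc p) (hc q) h
    rw [Fin.ext e1, hpq p q e2]
  · obtain ⟨e1, e2⟩ := key j i _ _ hij i.2 (hc q) (hc p) h.symm
    rw [Fin.ext e1, hpq q p e2]

theorem one_lt_w_imp_seven_le (hw : 1 < w) : 7 ≤ w := by
  haveI : Finite W := Nat.finite_of_card_ne_zero (by rw [Fr.card_W]; omega)
  haveI : Nontrivial W := Finite.one_lt_card_iff_nontrivial.1 (by rw [Fr.card_W]; exact hw)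
  obtain ⟨y, hy⟩ := exists_ne (1 : ↥W)
  have hy1 : (y : G) ≠ 1 := fun h => hy (Subtype.ext h)
  let f : Option (Fin 3 × Bool) → ↥W := fun r => r.elim 1 fun r => Fr.repW r y
  have hf : Function.Injective f := by
    rintro (_ | a) (_ | b) h
    · rfl
    · exact absurd (Fr.repW_injective b ((map_one _).trans h)).symm hy
    · exact absurd (Fr.repW_injective a ((map_one _).trans h.symm)).symm hy
    · exact congrArg some (Fr.rep_W_inj y.2 hy1 (congrArg Subtype.val h))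
  have := Nat.card_le_card_of_injective f hf
  rw [Fr.card_W, Nat.card_eq_fintype_card] at this
  simpa using this

/-- The normalizer of `W` is the union of the six cosets. -/
theorem sum_normalizer [Fintype G] {M : Type*} [AddCommMonoid M] (hw : 1 < w) (f : G → M) :
    ∑ n : ↥(normalizer (W : Set G)), f n = ∑ r, ∑ d : ↥(V ⊔ W), f (Fr.rep r * d) := by
  rw [← Fintype.sum_prod_type' (fun r (d : ↥(V ⊔ W)) => f (Fr.rep r * d))]
  have hmem : ∀ p : (Fin 3 × Bool) × ↥(V ⊔ W), Fr.rep p.1 * p.2 ∈ normalizer (W : Set G) := fun p =>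
    mul_mem (Fr.rep_mem p.1) (by
      rw [Fr.normalizer_eq]; exact mem_sup_left (mem_sup_left p.2.2))
  refine (Fintype.sum_bijective (fun p : (Fin 3 × Bool) × ↥(V ⊔ W) => (⟨Fr.rep p.1 * p.2, hmem p⟩ : ↥(normalizer (W : Set G))))
    ?_ _ _ fun p => rfl).symm
  haveI : Nontrivial W := Finite.one_lt_card_iff_nontrivial.1 (by rw [Fr.card_W]; exact hw)
  obtain ⟨y, hy⟩ := exists_ne (1 : ↥W)
  have hy1 : (y : G) ≠ 1 := fun h => hy (Subtype.ext h)
  refine (Fintype.bijective_iff_injective_and_card _).2 ⟨fun a b h => ?_, ?_⟩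
  · have e : Fr.rep a.1 * a.2 = Fr.rep b.1 * b.2 := congrArg Subtype.val h
    have hc : ∀ (r : Fin 3 × Bool) (d : ↥(V ⊔ W)),
        Fr.rep r * d * y * (Fr.rep r * d)⁻¹ = Fr.rep r * y * (Fr.rep r)⁻¹ := fun r d => by
      rw [mul_inv_rev, mul_assoc (Fr.rep r) (d : G), (Fr.D_comm d.2 (mem_sup_right y.2)).eq]
      group
    have h1 : a.1 = b.1 := Fr.rep_W_inj y.2 hy1 (by
      simp only; rw [← hc a.1 a.2, ← hc b.1 b.2, e])
    rw [h1] at e
    exact Prod.ext h1 (Subtype.ext (mul_left_cancel e))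
  · rw [← Nat.card_eq_fintype_card, ← Nat.card_eq_fintype_card, Nat.card_prod, Fr.card_D,
      Fr.card_normalizer, Nat.card_eq_fintype_card]
    simp only [Fintype.card_prod, Fintype.card_fin, Fintype.card_bool]
    ring

/-- The involutions inverting `v y` are the elements of `(V ⊔ W) s`. -/
theorem inverting_iff {v y a : G} (hv : v ∈ V) (hy : y ∈ W) (hy1 : y ≠ 1) :
    (orderOf a = 2 ∧ orderOf (a * (v * y)) = 2) ↔ a * s ∈ V ⊔ W := by
  have h2 : ∀ b : G, orderOf b = 2 ↔ b * b = 1 ∧ b ≠ 1 := fun b => by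
    rw [← sq, orderOf_eq_prime_iff]
  constructor
  · rintro ⟨ha, had⟩
    obtain ⟨ha2, -⟩ := (h2 a).1 ha
    obtain ⟨had2, -⟩ := (h2 _).1 had
    have e : a * (v * y) * a⁻¹ = v * y⁻¹ := by
      rw [inv_eq_of_mul_eq_one_right ha2]
      have h3 : a * (v * y) * a = (v * y)⁻¹ := eq_inv_of_mul_eq_one_left (by rw [← had2]; simp [mul_assoc])
      rw [h3, mul_inv_rev, Fr.V_inv hv, ← (Fr.comm_VW v hv _ (inv_mem hy)).eq]
    have hay := (Fr.conj_parts hv hy hv (inv_mem hy) e).2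
    rw [← Fr.cent y hy hy1, mem_centralizer_singleton_iff]
    have hsy : s * y = y⁻¹ * s := mul_inv_eq_iff_eq_mul.1 (Fr.s_W y hy)
    have hay' : a * y⁻¹ = y * a := by
      refine mul_inv_eq_iff_eq_mul.1 ?_
      rw [show a * y⁻¹ * a⁻¹ = (a * y * a⁻¹)⁻¹ by group, hay, inv_inv]
    rw [mul_assoc, hsy, ← mul_assoc, hay', mul_assoc]
  · intro hd
    obtain ⟨v', hv', y', hy', hd'⟩ := Fr.mem_D_iff.1 hd
    have hs_not : s ∉ V ⊔ W := fun hs => hy1 (Fr.W_sq hy (eq_inv_iff_mul_eq_one.1 (by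
      conv_lhs => rw [← mul_inv_cancel_right y s, ← (Fr.D_comm hs (mem_sup_right hy)).eq, Fr.s_W y hy])))
    have key : ∀ v' y', v' ∈ V → y' ∈ W → orderOf (v' * y' * s) = 2 := by
      intro v' y' hv' hy'
      refine (h2 _).2 ⟨?_, fun e => hs_not ?_⟩
      · have hsy : s * y' = y'⁻¹ * s := mul_inv_eq_iff_eq_mul.1 (Fr.s_W y' hy')
        calc v' * y' * s * (v' * y' * s) = v' * y' * (s * v') * y' * s := by group
          _ = v' * y' * v' * (s * y') * s := by rw [(Fr.s_V v' hv').eq]; group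
          _ = v' * (y' * v') * y'⁻¹ * (s * s) := by rw [hsy]; group
          _ = (v' * v') * (y' * y'⁻¹) := by rw [← (Fr.comm_VW v' hv' y' hy').eq, Fr.s_mul_self]; group
          _ = 1 := by rw [Fr.sq_V v' hv']; simp
      · rw [show s = (v' * y')⁻¹ from eq_inv_of_mul_eq_one_right e]
        exact inv_mem (Fr.mem_D_iff.2 ⟨v', hv', y', hy', rfl⟩)
    have ha : a = v' * y' * s := by
      rw [← hd', mul_assoc, Fr.s_mul_self, mul_one]
    refine ⟨ha ▸ key v' y' hv' hy', ?_⟩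
    have e : a * (v * y) = v' * v * (y' * y⁻¹) * s := by
      have hsy : s * y = y⁻¹ * s := mul_inv_eq_iff_eq_mul.1 (Fr.s_W y hy)
      calc a * (v * y) = v' * y' * (s * v) * y := by rw [ha]; group
        _ = v' * (y' * v) * (s * y) := by rw [(Fr.s_V v hv).eq]; group
        _ = _ := by rw [← (Fr.comm_VW v hv y' hy').eq, hsy]; group
    rw [e]
    exact key _ _ (mul_mem hv' hv) (mul_mem hy' (inv_mem hy))

end Frame

end CfsgLib.Recognition.ReeCentralizer
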