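import Cfsg.Agent.Lib.Recognition.ReeCentralizer.TorusVectors
import Cfsg.Agent.Lib.Recognition.ReeCentralizer.Section
import Cfsg.Agent.Lib.Recognition.ReeCentralizer.PSLBlock

/-!
# The test functions on the torus against the section of the involution

`⟨ψ_i, τ μ ω⟩` is `0` for the Steinberg column and `-1`, resp. `3`, for the other two.
-/

set_option autoImplicit false
set_option linter.unusedSectionVars false
set_option linter.style.haveILetI false
set_option linter.unnecessarySeqFocus false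

namespace CfsgLib.Recognition.ReeCentralizer

open Subgroup Cfsg
open scoped _root_.Classical ComplexConjugate

universe u v

variable {G : Type u} [Group G] [Fintype G] {F : Type v} [Field F] [Fintype F] {t : G} {w : ℕ}
  {V W : Subgroup G} {s x : G}

namespace Frame

variable (Fr : Frame G t w V W s x) (S : Setting G F t)
include Fr

theorem exists_inj_of_mem {y : G} (hy : y ∈ W) (hy1 : y ≠ 1) :
    ∃ z : PSL F, y = S.inj z ∧ Odd (orderOf z) ∧ z ≠ 1 ∧ z ^ w = 1 := by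
  have hc : y ∈ centralizer ({t} : Set G) :=
    mem_centralizer_singleton_iff.2 (Fr.comm_VW t Fr.t_mem y hy).eq.symm
  obtain ⟨z, hz, ho⟩ := S.exists_eq_inj hc (Fr.odd_w.of_dvd_nat (Fr.orderOf_W_dvd hy))
  refine ⟨z, hz, ho, fun e => hy1 (by rw [hz, e, map_one]), S.inj_injective ?_⟩
  rw [map_pow, ← hz, Fr.W_pow_w hy, map_one]

theorem lift_eq_zero {φ : PSL F → ℂ} {y : G} (hy : y ∈ W) : S.lift φ y = 0 := by
  rw [Setting.lift, Char.indFun_def, Finset.sum_eq_zero fun g _ => ?_, mul_zero]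
  by_cases hg : g⁻¹ * y * g ∈ centralizer ({t} : Set G)
  · rw [Char.extendByZero_apply_mem _ _ hg]
    have ho : Odd (orderOf (g⁻¹ * y * g)) := by
      have e : orderOf (g⁻¹ * y * g) = orderOf y := by
        simpa using MulEquiv.orderOf_eq (MulAut.conj g⁻¹) y
      rw [e]; exact Fr.odd_w.of_dvd_nat (Fr.orderOf_W_dvd hy)
    obtain ⟨z, hz, -⟩ := S.exists_eq_inj hg ho
    have e : (⟨g⁻¹ * y * g, hg⟩ : ↥(centralizer ({t} : Set G))) = ⟨S.inj z, S.inj_mem z⟩ := Subtype.ext hz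
    rw [e, S.psi_inj]
  · exact Char.extendByZero_apply_notMem _ _ hg

theorem classInner_lift_tau {φ : PSL F → ℂ} (hφ : IsClassFunction (PSL F) φ)
    (h0 : ∀ z, ¬ Odd (orderOf z) → φ z = 0) {c : ℂ} (hc : ∀ z, z ≠ 1 → z ^ w = 1 → φ z = c)
    (μ : ↥V →* ℂˣ) {ω : ↥W →* ℂˣ} (hω : ω ≠ 1) :
    classInner (S.lift φ) (Fr.tau μ ω) = c / 2 * (if μ = 1 then 3 else -1) := by
  have hval : ∀ v ∈ V, v ≠ 1 → ∀ y ∈ W, y ≠ 1 → S.lift φ (v * y) = 2 * c := fun v hv hv1 y hy hy1 =>
    Fr.apply_mul_eq (S.isClassFunction_lift φ) (fun y hy hy1 => by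
      obtain ⟨z, rfl, ho, hz1, hzw⟩ := Fr.exists_inj_of_mem S hy hy1
      rw [S.lift_tinj hφ h0 ho, hc z hz1 hzw]) hv hv1 hy hy1
  have key : ∀ y : ↥W, (∑ v : ↥V, (μ v : ℂ) * S.lift φ ((v : G) * y)) * (1 - conj (ω y : ℂ)) =
      2 * c * (if μ = 1 then 3 else -1) * (1 - conj (ω y : ℂ)) := by
    intro y
    rcases eq_or_ne y 1 with rfl | hy
    · simp
    congr 1
    have h : ∀ v : ↥V, (μ v : ℂ) * S.lift φ ((v : G) * y) =
        (μ v : ℂ) * (2 * c) - (if v = 1 then 2 * c else 0) := by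
      intro v
      split_ifs with hv
      · subst hv; simp [Fr.lift_eq_zero S y.2]
      · rw [hval v v.2 (fun e => hv (Subtype.ext e)) y y.2 (fun e => hy (Subtype.ext e)), sub_zero]
    rw [Finset.sum_congr rfl fun v _ => h v, Finset.sum_sub_distrib, ← Finset.sum_mul, Fr.sum_mu,
      Finset.sum_ite_eq' Finset.univ (1 : ↥V) (fun _ => 2 * c), if_pos (Finset.mem_univ _)]
    split_ifs <;> ring
  rw [Fr.classInner_tau (S.isClassFunction_lift φ), Finset.sum_congr rfl fun y _ => key y, ← Finset.mul_sum,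
    Finset.sum_sub_distrib, ← map_sum, sum_hom, if_neg hω, Finset.sum_const, Finset.card_univ,
    ← Nat.card_eq_fintype_card, Fr.card_W]
  have hw0 : (w : ℂ) ≠ 0 := by exact_mod_cast Fr.w_pos.ne'
  simp only [map_zero, sub_zero, nsmul_eq_mul, mul_one]
  field_simp
  ring

theorem classInner_phi_tau {p q v : ℕ} {ε : ℤ} (B : PBlock (PSL F) p q w v ε) (i : Fin 3) (μ : ↥V →* ℂˣ)
    {ω : ↥W →* ℂˣ} (hω : ω ≠ 1) :
    classInner (S.lift (B.phi i)) (Fr.tau μ ω) =
      (![0, 1, 1] i : ℂ) * (if μ = 1 then 3 else -1) := by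
  have hcl : IsClassFunction (PSL F) (B.phi i) := fun g h => by
    simp only [B.phi_apply, Char.IsIrrCharacter.isClassFunction (B.chi i).2 g h]
  rw [Fr.classInner_lift_tau S hcl (fun z hz => B.phi_vanish i (Nat.not_odd_iff_even.1 hz))
    (c := 1 - (B.sgn i : ℂ) * ε) (fun z hz hzw => by rw [B.phi_apply, B.chi_of_pow_w i hz hzw]) μ hω]
  rcases B.sign with rfl | rfl <;> fin_cases i <;> simp [PBlock.sgn]

/-- The coefficient vectors against the rows. -/
theorem sum_coef_row {p q v : ℕ} {ε : ℤ} (B : PBlock (PSL F) p q w v ε) (i : Fin 3) (μ : ↥V →* ℂˣ)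
    {ω : ↥W →* ℂˣ} (hω : ω ≠ 1) {r : IrrCharacter G → ℤ}
    (hr : ∀ χ : IrrCharacter G, classInner χ.1 (S.lift (B.phi i)) = r χ) :
    ∑ χ, Fr.coef μ ω χ * r χ = ![0, 1, 1] i * (if μ = 1 then 3 else -1) := by
  have h := Fr.sum_coef_mul μ ω hr
  rw [← Char.classInner_conj_symm, Fr.classInner_phi_tau S B i μ hω] at h
  have h' : ((∑ χ, Fr.coef μ ω χ * r χ : ℤ) : ℂ) =
      ((![0, 1, 1] i * (if μ = 1 then 3 else -1) : ℤ) : ℂ) := by
    rw [h]; fin_cases i <;> split_ifs <;> simp [Complex.conj_ofNat]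
  exact_mod_cast h'

end Frame

end CfsgLib.Recognition.ReeCentralizer
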