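import Cfsg.Agent.Lib.Recognition.ReeCentralizer.TorusCoeff

/-!
# The coefficient vectors of the test functions

`coef μ ω χ` is the integral coefficient of `χ` in the test function.  Its scalar products, the three
functions of norm three with a common function of norm seven, and their invariance under a field
automorphism are what the endgame uses.
-/

set_option autoImplicit false
set_option linter.unusedSectionVars false
set_option linter.style.haveILetI false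

namespace CfsgLib.Recognition.ReeCentralizer

open Subgroup Cfsg
open scoped _root_.Classical ComplexConjugate

universe u

theorem sum_classInner_mul {G : Type u} [Group G] [Fintype G] {θ η : G → ℂ}
    (hη : IsClassFunction G η) {a b : IrrCharacter G → ℤ} (ha : ∀ χ, classInner χ.1 θ = a χ)
    (hb : ∀ χ, classInner χ.1 η = b χ) : classInner η θ = ((∑ χ, a χ * b χ : ℤ) : ℂ) := by
  rw [Char.classInner_eq_sum_irr hη]
  push_cast
  refine Finset.sum_congr rfl fun χ _ => ?_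
  rw [← Char.classInner_conj_symm χ.1 η, hb, ha, map_intCast, mul_comm]

variable {G : Type u} [Group G] [Fintype G] {t : G} {w : ℕ} {V W : Subgroup G} {s x : G}

namespace Frame

variable (Fr : Frame G t w V W s x)
include Fr

theorem exists_mu : ∃ μ : ↥V →* ℂˣ, μ ≠ 1 := by
  by_contra hne
  push Not at hne
  have hcomm : ∀ a b : ↥V, a * b = b * a := fun a b => Subtype.ext (Fr.V_comm a.2 b.2).eq
  have h := Char.card_linear (G := ↥V)
  rw [← Nat.card_congr Char.homEquivLinear] at h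
  haveI : Subsingleton (↥V →* ℂˣ) := ⟨fun a b => (hne a).trans (hne b).symm⟩
  have hbot : commutator ↥V = ⊥ := by
    rw [eq_bot_iff, commutator_def, Subgroup.commutator_le]
    intro a _ b _
    rw [Subgroup.mem_bot, commutatorElement_def, hcomm a b]
    group
  rw [Nat.card_unique, hbot, Subgroup.index_bot, Fr.card_V] at h
  omega

theorem exists_omega (hw : 1 < w) : ∃ ω : ↥W →* ℂˣ, ω ≠ 1 := by
  by_contra hne
  push Not at hne
  have hcomm : ∀ a b : ↥W, a * b = b * a := fun a b => Subtype.ext (Fr.W_comm a.2 b.2).eq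
  have h := Char.card_linear (G := ↥W)
  rw [← Nat.card_congr Char.homEquivLinear] at h
  haveI : Subsingleton (↥W →* ℂˣ) := ⟨fun a b => (hne a).trans (hne b).symm⟩
  have hbot : commutator ↥W = ⊥ := by
    rw [eq_bot_iff, commutator_def, Subgroup.commutator_le]
    intro a _ b _
    rw [Subgroup.mem_bot, commutatorElement_def, hcomm a b]
    group
  rw [Nat.card_unique, hbot, Subgroup.index_bot, Fr.card_W] at h
  omega

theorem exists_coef (μ : ↥V →* ℂˣ) (ω : ↥W →* ℂˣ) (χ : IrrCharacter G) :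
    ∃ m : ℤ, classInner χ.1 (Fr.tau μ ω) = m :=
  Char.IsGeneralizedCharacter.classInner_int
    (Char.IsCharacter.isGeneralizedCharacter (Char.isCharacter_irr χ)) (Fr.isGeneralizedCharacter_tau μ ω)

/-- The coefficient of `χ` in a test function. -/
noncomputable def coef (μ : ↥V →* ℂˣ) (ω : ↥W →* ℂˣ) (χ : IrrCharacter G) : ℤ :=
  (Fr.exists_coef μ ω χ).choose

theorem coef_spec (μ : ↥V →* ℂˣ) (ω : ↥W →* ℂˣ) (χ : IrrCharacter G) :
    classInner χ.1 (Fr.tau μ ω) = Fr.coef μ ω χ :=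
  (Fr.exists_coef μ ω χ).choose_spec

theorem classInner_tau_irr (μ : ↥V →* ℂˣ) (ω : ↥W →* ℂˣ) (χ : IrrCharacter G) :
    classInner (Fr.tau μ ω) χ.1 = Fr.coef μ ω χ := by
  rw [← Char.classInner_conj_symm, Fr.coef_spec, map_intCast]

/-- The scalar product with an integral combination. -/
theorem sum_coef_mul {θ : G → ℂ} (μ : ↥V →* ℂˣ) (ω : ↥W →* ℂˣ) {r : IrrCharacter G → ℤ}
    (hr : ∀ χ, classInner χ.1 θ = r χ) :
    ((∑ χ, Fr.coef μ ω χ * r χ : ℤ) : ℂ) = classInner (Fr.tau μ ω) θ := by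
  rw [sum_classInner_mul (Fr.isClassFunction_tau μ ω) hr (Fr.coef_spec μ ω)]
  exact congrArg _ (Finset.sum_congr rfl fun χ _ => mul_comm _ _)

theorem sum_coef_coef (μ μ' : ↥V →* ℂˣ) (ω ω' : ↥W →* ℂˣ) :
    ((∑ χ, Fr.coef μ ω χ * Fr.coef μ' ω' χ : ℤ) : ℂ) = classInner (Fr.tau μ ω) (Fr.tau μ' ω') :=
  Fr.sum_coef_mul μ ω (Fr.coef_spec μ' ω')

theorem coef_trivial (μ : ↥V →* ℂˣ) {ω : ↥W →* ℂˣ} (hω : ω ≠ 1) {χ : IrrCharacter G}
    (hχ : χ.1 = fun _ => (1 : ℂ)) : Fr.coef μ ω χ = if μ = 1 then 1 else 0 := by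
  have h := Fr.coef_spec μ ω χ
  rw [hχ, Fr.tau_inner_one μ hω] at h
  split_ifs at h ⊢ <;> exact_mod_cast h.symm

theorem coef_norm (hw : 1 < w) {μ : ↥V →* ℂˣ} (hμ : μ ≠ 1) {ω : ↥W →* ℂˣ} (hω : ω ≠ 1) :
    ∑ χ, Fr.coef μ ω χ * Fr.coef μ ω χ = 3 := by
  have h := Fr.sum_coef_coef μ μ ω ω
  rw [Fr.norm_tau hw hμ hω hω, if_pos (Or.inl rfl)] at h
  exact_mod_cast h

theorem coef_one_norm (hw : 1 < w) {ω : ↥W →* ℂˣ} (hω : ω ≠ 1) :
    ∑ χ, Fr.coef 1 ω χ * Fr.coef 1 ω χ = 7 := by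
  have h := Fr.sum_coef_coef 1 1 ω ω
  rw [Fr.norm_tau_one hw hω] at h
  exact_mod_cast h

theorem coef_inner (hw : 1 < w) {μ : ↥V →* ℂˣ} (hμ : μ ≠ 1) {ω ω' : ↥W →* ℂˣ} (hω : ω ≠ 1) (hω' : ω' ≠ 1) :
    ∑ χ, Fr.coef μ ω χ * Fr.coef μ ω' χ = 2 ∨ ∑ χ, Fr.coef μ ω χ * Fr.coef μ ω' χ = 3 := by
  have h := Fr.sum_coef_coef μ μ ω ω'
  rw [Fr.norm_tau hw hμ hω hω'] at h
  split_ifs at h
  · exact Or.inr (by exact_mod_cast h)
  · exact Or.inl (by exact_mod_cast h)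

theorem coef_orth (hw : 1 < w) {μ : ↥V →* ℂˣ} (hμ : μ ≠ 1) {ω ω' : ↥W →* ℂˣ} (hω : ω ≠ 1) (hω' : ω' ≠ 1) :
    ∑ χ, Fr.coef μ ω χ * Fr.coef 1 ω' χ = 0 := by
  have h := Fr.sum_coef_coef μ 1 ω ω'
  rw [Fr.inner_tau_one hw hμ hω hω'] at h
  exact_mod_cast h

theorem sum_coef_apply (μ : ↥V →* ℂˣ) (ω : ↥W →* ℂˣ) (g : G) :
    ∑ χ, (Fr.coef μ ω χ : ℂ) * χ.1 g = Fr.tau μ ω g := by
  conv_rhs => rw [Char.IsClassFunction.eq_sum_irr (Fr.isClassFunction_tau μ ω)]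
  simp only [Finset.sum_apply, Pi.smul_apply, smul_eq_mul, Fr.classInner_tau_irr]

theorem tau_t (μ : ↥V →* ℂˣ) (ω : ↥W →* ℂˣ) : Fr.tau μ ω t = 0 := by
  rw [tau, Char.indFun_def, Finset.sum_eq_zero fun g _ => ?_, mul_zero]
  by_cases hg : g⁻¹ * t * g ∈ V ⊔ W
  · rw [Char.extendByZero_apply_mem _ _ hg]
    obtain ⟨⟨v, y⟩, he⟩ := Fr.equiv.surjective ⟨_, hg⟩
    rw [← he, Fr.phi_equiv]
    have hy : y = 1 := by
      have e : (v : G) * y = g⁻¹ * t * g := congrArg Subtype.val he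
      have h2 : ((v : G) * y) * ((v : G) * y) = 1 := by
        rw [e, show g⁻¹ * t * g * (g⁻¹ * t * g) = g⁻¹ * (t * t) * g by group, Fr.t_mul_self']; simp
      rw [← sq, (Fr.comm_VW v v.2 y y.2).mul_pow, sq, sq, Fr.sq_V v v.2, one_mul] at h2
      exact Subtype.ext (Fr.W_sq y.2 h2)
    simp [hy]
  · exact Char.extendByZero_apply_notMem _ _ hg

/-- A linear combination of integral values is integral. -/
theorem sum_coef_int (μ : ↥V →* ℂˣ) (ω : ↥W →* ℂˣ) {g : G} {T : IrrCharacter G → ℤ}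
    (hT : ∀ χ : IrrCharacter G, χ.1 g = T χ) :
    ((∑ χ, Fr.coef μ ω χ * T χ : ℤ) : ℂ) = Fr.tau μ ω g := by
  rw [← Fr.sum_coef_apply]; push_cast; simp only [hT]

theorem sum_coef_deg (μ : ↥V →* ℂˣ) (ω : ↥W →* ℂˣ) {D : IrrCharacter G → ℤ}
    (hD : ∀ χ : IrrCharacter G, χ.1 1 = D χ) : ∑ χ, Fr.coef μ ω χ * D χ = 0 := by
  have h := Fr.sum_coef_int μ ω hD
  rw [Fr.tau_one] at h
  exact_mod_cast h

theorem sum_coef_val (μ : ↥V →* ℂˣ) (ω : ↥W →* ℂˣ) {T : IrrCharacter G → ℤ}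
    (hT : ∀ χ : IrrCharacter G, χ.1 t = T χ) : ∑ χ, Fr.coef μ ω χ * T χ = 0 := by
  have h := Fr.sum_coef_int μ ω hT
  rw [Fr.tau_t] at h
  exact_mod_cast h

theorem sum_coef_sq_div (μ : ↥V →* ℂˣ) {ω : ↥W →* ℂˣ} (hω : ω ≠ 1) :
    ∑ χ, (Fr.coef μ ω χ : ℂ) * (χ.1 t ^ 2 / χ.1 1) =
      if μ = 1 then 4 * (w : ℂ) * (Nat.card (centralizer ({t} : Set G)) : ℂ) ^ 2 / Nat.card G else 0 := by
  rw [← Fr.sum_tau_sq_div μ hω]
  simp only [Fr.classInner_tau_irr]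

theorem repW_comp_ne_one {ω : ↥W →* ℂˣ} (hω : ω ≠ 1) (r : Fin 3 × Bool) : ω.comp (Fr.repW r) ≠ 1 :=
  fun h => hω (MonoidHom.ext fun v => by
    obtain ⟨y, hy⟩ := Finite.injective_iff_surjective.1 (Fr.repW_injective r) v
    rw [← hy]; exact DFunLike.congr_fun h y)

theorem repW_true (ω : ↥W →* ℂˣ) (i : Fin 3) :
    ω.comp (Fr.repW (i, true)) = (ω.comp (Fr.repW (i, false)))⁻¹ := by
  refine MonoidHom.ext fun y => ?_
  have e : Fr.repW (i, true) y = Fr.repW (i, false) y⁻¹ := Subtype.ext (by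
    show Fr.rep (i, true) * y * (Fr.rep (i, true))⁻¹ =
      Fr.rep (i, false) * ((y⁻¹ : ↥W) : G) * (Fr.rep (i, false))⁻¹
    rw [Fr.rep_W y.2, Fr.rep_W (y⁻¹).2]
    simp)
  simp [e]

/-- The function of norm seven only depends on the orbit. -/
theorem coef_one_orbit (hw : 1 < w) {ω : ↥W →* ℂˣ} (hω : ω ≠ 1) (r : Fin 3 × Bool) :
    Fr.coef 1 (ω.comp (Fr.repW r)) = Fr.coef 1 ω := by
  have hne := Fr.repW_comp_ne_one hω r
  have h7 : classInner (Fr.tau 1 ω) (Fr.tau 1 (ω.comp (Fr.repW r))) = 7 := by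
    rw [Fr.classInner_tau_tau hw hω hne]
    simp only [MonoidHom.one_comp, if_true, one_mul, Finset.sum_add_distrib, Finset.sum_const,
      Finset.card_univ, Fintype.card_prod, Fintype.card_fin, Fintype.card_bool]
    rw [Finset.sum_eq_single r]
    · rw [if_pos rfl]; norm_num
    · exact fun r' _ hr => if_neg fun h => hr (Fr.repW_comp_injective hω h)
    · simp
  have h := Fr.sum_coef_coef 1 1 ω (ω.comp (Fr.repW r))
  rw [h7] at h
  have h' : ∑ χ, Fr.coef 1 ω χ * Fr.coef 1 (ω.comp (Fr.repW r)) χ = 7 := by exact_mod_cast h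
  have hz : ∑ χ, (Fr.coef 1 (ω.comp (Fr.repW r)) χ - Fr.coef 1 ω χ) *
      (Fr.coef 1 (ω.comp (Fr.repW r)) χ - Fr.coef 1 ω χ) = 0 := by
    have e : ∀ a b : ℤ, (a - b) * (a - b) = a * a + b * b - 2 * (b * a) := fun a b => by ring
    simp only [e, Finset.sum_sub_distrib, Finset.sum_add_distrib, ← Finset.mul_sum, h',
      Fr.coef_one_norm hw hne, Fr.coef_one_norm hw hω]
    norm_num
  funext χ
  have := (Finset.sum_eq_zero_iff_of_nonneg fun χ _ => mul_self_nonneg _).1 hz χ (Finset.mem_univ χ)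
  exact sub_eq_zero.1 (mul_self_eq_zero.1 this)

/-- Three functions of norm three over one of norm seven. -/
theorem coef_orbit (hw : 1 < w) {μ : ↥V →* ℂˣ} (hμ : μ ≠ 1) {ω : ↥W →* ℂˣ} (hω : ω ≠ 1) :
    ∃ ω₁ ω₂ : ↥W →* ℂˣ, ω₁ ≠ 1 ∧ ω₂ ≠ 1 ∧ Fr.coef 1 ω₁ = Fr.coef 1 ω ∧ Fr.coef 1 ω₂ = Fr.coef 1 ω ∧
      ∑ χ, Fr.coef μ ω χ * Fr.coef μ ω₁ χ = 2 ∧ ∑ χ, Fr.coef μ ω χ * Fr.coef μ ω₂ χ = 2 ∧
      ∑ χ, Fr.coef μ ω₁ χ * Fr.coef μ ω₂ χ = 2 := by
  have key : ∀ i j : Fin 3, i ≠ j →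
      ∑ χ, Fr.coef μ (ω.comp (Fr.repW (i, false))) χ * Fr.coef μ (ω.comp (Fr.repW (j, false))) χ = 2 := by
    intro i j hij
    have h := Fr.sum_coef_coef μ μ (ω.comp (Fr.repW (i, false))) (ω.comp (Fr.repW (j, false)))
    rw [Fr.norm_tau hw hμ (Fr.repW_comp_ne_one hω _) (Fr.repW_comp_ne_one hω _), if_neg] at h
    · exact_mod_cast h
    · rintro (e | e)
      · exact hij (Prod.ext_iff.1 (Fr.repW_comp_injective hω e)).1
      · rw [← Fr.repW_true] at e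
        exact absurd (Prod.ext_iff.1 (Fr.repW_comp_injective hω e)).2 (by simp)
  have h0 : ω.comp (Fr.repW (0, false)) = ω := Fr.repW_zero ω false
  refine ⟨_, _, Fr.repW_comp_ne_one hω (1, false), Fr.repW_comp_ne_one hω (2, false),
    Fr.coef_one_orbit hw hω _, Fr.coef_one_orbit hw hω _, ?_, ?_, key 1 2 (by decide)⟩
  · have := key 0 1 (by decide); rwa [h0] at this
  · have := key 0 2 (by decide); rwa [h0] at this

theorem coef_map {σ : ℂ ≃+* ℂ} (hσ : ∀ z : ℂ, z ^ w = 1 → σ z = z) (μ : ↥V →* ℂˣ) (ω : ↥W →* ℂˣ)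
    {χ χ' : IrrCharacter G} (h : ∀ g, χ'.1 g = σ (χ.1 g)) : Fr.coef μ ω χ' = Fr.coef μ ω χ := by
  have e : χ'.1 = fun g => σ.toRingHom (χ.1 g) := funext h
  have h1 := Fr.coef_spec μ ω χ'
  rw [e, Fr.classInner_map_tau (σ := σ.toRingHom) hσ
    (Char.IsCharacter.isGeneralizedCharacter (Char.isCharacter_irr χ)), Fr.coef_spec] at h1
  exact_mod_cast h1.symm

theorem coef_dvd {μ : ↥V →* ℂˣ} (hμ : μ ≠ 1) {χ : IrrCharacter G} {m d T : ℤ} (hd : χ.1 1 = d)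
    (hT : χ.1 t = T) (hm : ∀ ω : ↥W →* ℂˣ, ω ≠ 1 → Fr.coef μ ω χ = m) : 4 * (w : ℤ) ∣ d - T - 4 * m :=
  Fr.dvd_of_coeff (Char.IsCharacter.isGeneralizedCharacter (Char.isCharacter_irr χ)) hμ hd hT
    fun ω hω => by rw [Fr.coef_spec, hm ω hω]

theorem coef_one_dvd {χ : IrrCharacter G} {m d T : ℤ} (hd : χ.1 1 = d) (hT : χ.1 t = T)
    (hm : ∀ ω : ↥W →* ℂˣ, ω ≠ 1 → Fr.coef 1 ω χ = m) : 4 * (w : ℤ) ∣ d + 3 * T - 4 * m :=
  Fr.dvd_of_coeff_one (Char.IsCharacter.isGeneralizedCharacter (Char.isCharacter_irr χ)) hd hT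
    fun ω hω => by rw [Fr.coef_spec, hm ω hω]

theorem coef_diff {μ : ↥V →* ℂˣ} (hμ : μ ≠ 1) {ω : ↥W →* ℂˣ} (hω : ω ≠ 1) {χ : IrrCharacter G} {c : ℤ}
    (hc : ∀ y ∈ W, y ≠ 1 → χ.1 (t * y) = c) : Fr.coef 1 ω χ = Fr.coef μ ω χ + c := by
  have h := Fr.coeff_diff (Char.IsIrrCharacter.isClassFunction χ.2) (c := (c : ℂ)) hc hμ hω
  rw [Fr.coef_spec, Fr.coef_spec] at h
  exact_mod_cast h

end Frame

end CfsgLib.Recognition.ReeCentralizer
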